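import Groth.Agent.WeilResLib.GrpGen

/-!
# Products of two elements of a chart cover a connected group
-/

set_option autoImplicit false
set_option linter.style.haveILetI false
set_option linter.unusedSectionVars false
set_option backward.isDefEq.respectTransparency false
set_option maxHeartbeats 1000000
set_option synthInstance.maxHeartbeats 400000

universe u

open CategoryTheory CategoryTheory.Limits MonoidalCategory CartesianMonoidalCategory AlgebraicGeometry
open scoped MonObj

noncomputable section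

attribute [-instance] CategoryTheory.Hom.commGroup

namespace RootSubgrp

variable {S : Scheme.{u}}

/-- **The product of a chart with itself is fpqc onto a connected smooth group.** -/
theorem chart_mul_fpqc {X : Over S} [GrpObj X] [Smooth X.hom] [GeometricallyConnected X.hom]
    [QuasiSeparated X.hom] (O : Over S) [QuasiCompact O.hom] [QuasiSeparated O.hom] (κ : O ⟶ X) [Etale κ.left]
    (ε : 𝟙_ (Over S) ⟶ O) (hε : ε ≫ κ = η[X]) :
    Flat ((κ ⊗ₘ κ) ≫ μ[X]).left ∧ Surjective ((κ ⊗ₘ κ) ≫ μ[X]).left ∧ QuasiCompact ((κ ⊗ₘ κ) ≫ μ[X]).left := by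
  let q : O ⊗ O ⟶ X := (κ ⊗ₘ κ) ≫ μ[X]
  show Flat q.left ∧ Surjective q.left ∧ QuasiCompact q.left
  haveI := Groth.Agent.WeilRes.smooth_mul X
  haveI : Etale (κ ⊗ₘ κ).left := by
    rw [tensorHom_def', Over.comp_left]
    haveI := Groth.Agent.WeilRes.etale_whiskerLeft O κ
    haveI := Groth.Agent.WeilRes.etale_whiskerRight X κ
    infer_instance
  haveI : Smooth q.left := by
    rw [Over.comp_left]
    infer_instance
  have hunit : ∀ s : S, (η[X] : 𝟙_ (Over S) ⟶ X).left s ∈ Set.range κ.left := fun s =>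
    ⟨ε.left s, by rw [← Scheme.Hom.comp_apply, ← Over.comp_left, hε]⟩
  haveI : Surjective q.left := by
    refine ⟨fun x => ?_⟩
    let T : Over S := Over.mk (X.left.fromSpecResidueField x ≫ X.hom)
    let xT : T ⟶ X := Over.homMk (X.left.fromSpecResidueField x) rfl
    haveI : Smooth (pullback.snd X.hom T.hom) := MorphismProperty.pullback_snd _ _ inferInstance
    let gT : (X ⊗ T).left ⟶ Spec (CommRingCat.of (X.left.residueField x)) := pullback.snd X.hom T.hom
    haveI : Smooth gT := MorphismProperty.pullback_snd _ _ inferInstance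
    haveI : GeometricallyConnected gT := inferInstanceAs (GeometricallyConnected (pullback.snd X.hom T.hom))
    haveI : IrreducibleSpace ↥(X ⊗ T).left := Groth.Agent.WeilRes.irreducibleSpace_of_smooth_of_field gT
    let v₁ : X ⊗ T ⟶ X := fst X T
    let v₂ : X ⊗ T ⟶ X := (fst X T)⁻¹ * (snd X T ≫ xT)
    let A : Set ↥(X ⊗ T).left := v₁.left ⁻¹' Set.range κ.left
    let B' : Set ↥(X ⊗ T).left := v₂.left ⁻¹' Set.range κ.left
    have hA : IsOpen A := κ.left.isOpenMap.isOpen_range.preimage v₁.left.continuous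
    have hB : IsOpen B' := κ.left.isOpenMap.isOpen_range.preimage v₂.left.continuous
    let pt : T.left := IsLocalRing.closedPoint (X.left.residueField x)
    let a : T ⟶ X ⊗ T := lift (toUnit T ≫ η[X]) (𝟙 T)
    let b : T ⟶ X ⊗ T := lift xT (𝟙 T)
    have haA : a.left pt ∈ A := by
      refine (show v₁.left (a.left pt) ∈ Set.range κ.left from ?_)
      rw [← Scheme.Hom.comp_apply, ← Over.comp_left, show a ≫ v₁ = toUnit T ≫ η[X] from lift_fst _ _,
        Over.comp_left, Scheme.Hom.comp_apply]
      exact hunit _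
    have hbB : b.left pt ∈ B' := by
      refine (show v₂.left (b.left pt) ∈ Set.range κ.left from ?_)
      rw [← Scheme.Hom.comp_apply, ← Over.comp_left,
        show b ≫ v₂ = toUnit T ≫ η[X] by
          simp only [v₂, b, MonObj.comp_mul, GrpObj.comp_inv, lift_fst, lift_snd_assoc, Category.id_comp,
            inv_mul_cancel]
          exact Hom.one_def,
        Over.comp_left, Scheme.Hom.comp_apply]
      exact hunit _
    obtain ⟨z, -, hzA, hzB⟩ := (IrreducibleSpace.isIrreducible_univ ↥(X ⊗ T).left).2 A B' hA hB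
      ⟨_, Set.mem_univ _, haA⟩ ⟨_, Set.mem_univ _, hbB⟩
    let P := lift v₁ v₂
    obtain ⟨w, hw⟩ := Groth.Agent.WeilRes.range_tensor_mem κ (P.left z)
      (by rw [← Scheme.Hom.comp_apply, ← Over.comp_left, lift_fst]; exact hzA)
      (by rw [← Scheme.Hom.comp_apply, ← Over.comp_left, lift_snd]; exact hzB)
    refine ⟨w, ?_⟩
    rw [Over.comp_left, Scheme.Hom.comp_apply, hw, ← Scheme.Hom.comp_apply, ← Over.comp_left,
      show P ≫ μ[X] = snd X T ≫ xT by
        rw [← Hom.mul_def]
        exact mul_inv_cancel_left _ _,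
      Over.comp_left, Scheme.Hom.comp_apply]
    show X.left.fromSpecResidueField x _ = x
    rw [Scheme.fromSpecResidueField_apply]
  haveI : QuasiCompact (O ⊗ O).hom := by
    rw [show (O ⊗ O).hom = pullback.fst O.hom O.hom ≫ O.hom from rfl]
    infer_instance
  haveI : QuasiCompact q.left := by
    haveI : QuasiCompact (q.left ≫ X.hom) := by rw [Over.w q]; infer_instance
    exact QuasiCompact.of_comp q.left X.hom
  exact ⟨inferInstance, inferInstance, inferInstance⟩

/-- **Morphisms agreeing on products of a chart agree.** -/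
theorem eq_of_chart {X Y : Over S} [GrpObj X] [Smooth X.hom] [GeometricallyConnected X.hom]
    [QuasiSeparated X.hom] (O : Over S) [QuasiCompact O.hom] [QuasiSeparated O.hom] (κ : O ⟶ X) [Etale κ.left]
    (ε : 𝟙_ (Over S) ⟶ O) (hε : ε ≫ κ = η[X]) (a b : X ⟶ Y)
    (h : ((κ ⊗ₘ κ) ≫ μ[X]) ≫ a = ((κ ⊗ₘ κ) ≫ μ[X]) ≫ b) : a = b := by
  obtain ⟨h1, h2, -⟩ := chart_mul_fpqc O κ ε hε
  haveI := h1; haveI := h2
  haveI : Epi ((κ ⊗ₘ κ) ≫ μ[X]).left := Flat.epi_of_flat_of_surjective _
  haveI : Epi ((κ ⊗ₘ κ) ≫ μ[X]) := Over.epi_of_epi_left _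
  exact (cancel_epi ((κ ⊗ₘ κ) ≫ μ[X])).1 h

end RootSubgrp

end
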