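import Groth.Agent.RootSubgrpLib.LineCent
import Groth.Agent.RootSubgrpLib.ChartMul
import Groth.Agent.WeilResLib.GeomConn
import Groth.Agent.BigCellLib.Coroot
import Groth.Agent.S8445

/-!
# The chart of the centraliser of the kernel of a root
-/

set_option autoImplicit false
set_option linter.style.haveILetI false
set_option linter.unusedSectionVars false
set_option backward.isDefEq.respectTransparency false
set_option maxHeartbeats 1000000
set_option synthInstance.maxHeartbeats 400000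

universe u

open CategoryTheory CategoryTheory.Limits MonoidalCategory CartesianMonoidalCategory AlgebraicGeometry
open Groth.Agent.GaPts
open Groth.Agent
open scoped MonObj

noncomputable section

attribute [-instance] CategoryTheory.Hom.commGroup

namespace RootSubgrp

open SplitCell SplitFib

variable {S : Scheme.{u}} [Nonempty S] {G : Over S} [GrpObj G] {D : Red.SplitRed G} {L : Line D}

theorem root_neg (k : D.idx) : D.P.root (D.P.reflectionPerm k k) = -D.P.root k := by
  rw [RootPairing.root_reflectionPerm, D.P.reflection_apply_self]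

/-- The roots of a line are a root and its opposite. -/
theorem roots_eq {k : D.idx} (hk : k ∈ L.roots) : L.roots = {k, D.P.reflectionPerm k k} := by
  haveI := SplitFib.isReduced_root D
  ext j
  constructor
  · intro hj
    refine or_iff_not_imp_left.2 fun hne => ?_
    by_contra hne'
    have hd : D.P.root j ≠ -D.P.root k := fun e => hne' (D.P.root.injective (by rw [root_neg, e]))
    exact hne (by
      exfalso
      have hdep : ¬ LinearIndependent ℤ ![D.P.root j, D.P.root k] := fun hind => by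
        refine L.weight_ne_zero hk (LinearIndependent.pair_iff.1 hind (L.co (D.P.root k))
          (-L.co (D.P.root j)) ?_).1
        rw [show D.P.root j = L.co (D.P.root j) • L.χ from hj]
        conv_lhs => arg 2; rw [show D.P.root k = L.co (D.P.root k) • L.χ from hk]
        rw [map_zsmul, L.co_χ, smul_eq_mul, _root_.mul_one, smul_smul, smul_smul, ← add_smul]
        simp [_root_.mul_comm]
      exact hdep (RootPairing.IsReduced.linearIndependent (P := D.P) hne hd))
  · rintro (rfl | rfl)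
    · exact hk
    · show D.P.root _ = L.co (D.P.root (D.P.reflectionPerm k k)) • L.χ
      rw [root_neg, map_neg, neg_smul, ← show D.P.root k = L.co (D.P.root k) • L.χ from hk]

variable (LC : LineCent D L)

theorem LineCent.isMonHom_t : IsMonHom LC.t := by
  haveI := LC.isMonHom
  haveI := LC.closed
  haveI := isMonHom_i D
  haveI : Mono LC.c := (Over.forget S).mono_of_mono_map (inferInstanceAs (Mono LC.c.left))
  exact
    { one_hom := (cancel_mono LC.c).1 (by rw [Category.assoc, LC.ht, IsMonHom.one_hom, IsMonHom.one_hom])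
      mul_hom := (cancel_mono LC.c).1 (by
        rw [Category.assoc, LC.ht, IsMonHom.mul_hom, Category.assoc, IsMonHom.mul_hom (f := LC.c), ← Category.assoc,
          tensorHom_comp_tensorHom, LC.ht]) }

theorem rprod_one (p : Fin 1 → (Red.Ga S ⟶ G)) : RedSub.prodMap (Red.Ga S) 1 p = prj S 0 ≫ p 0 := by
  show (fst _ _ ≫ p 0) * (snd _ _ ≫ 1) = _
  rw [MonObj.comp_one, _root_.mul_one]
  rfl

/-- The chart of the centraliser. -/
theorem LineCent.exists_chart {k : D.idx} (hk : k ∈ L.roots) :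
    ∃ (f : src D 1 1 ⟶ LC.C), IsOpenImmersion f.left ∧
      f ≫ LC.c = RedSub.cellMap D (fun _ : Fin 1 => D.P.reflectionPerm k k) (fun _ : Fin 1 => k) := by
  classical
  haveI := LC.isMonHom; haveI := LC.closed; haveI := LC.smooth
  haveI : Mono LC.c := (Over.forget S).mono_of_mono_map (inferInstanceAs (Mono LC.c.left))
  haveI := SplitFib.isReduced_root D
  obtain ⟨b, hb⟩ := exists_sides_mem D k
  obtain ⟨n, m, eneg, epos, hneg, hpos, gn, gp⟩ := exists_good_sides D b (R := Set.univ)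
  rw [Set.univ_inter] at hneg hpos
  obtain ⟨g₀, hg1, hg2⟩ := b.regular
  have hnk : D.P.reflectionPerm k k ∈ b.neg := (b.total _).resolve_left fun h => by
    have h1 := hg1 _ h
    have h2 := hg1 _ hb
    rw [root_neg, map_neg] at h1
    omega
  have hN : RedSub.Enumerates (L.roots ∩ b.neg) (fun _ : Fin 1 => D.P.reflectionPerm k k) :=
    ⟨Function.injective_of_subsingleton _, by
      rw [Set.range_const, roots_eq hk]
      ext j
      constructor
      · rintro rfl; exact ⟨Or.inr rfl, hnk⟩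
      · rintro ⟨rfl | rfl, hj⟩
        · exact absurd hj (fun hj => (disjoint_sides D b).le_bot ⟨hb, hj⟩)
        · rfl⟩
  have hP : RedSub.Enumerates (L.roots ∩ b.pos) (fun _ : Fin 1 => k) :=
    ⟨Function.injective_of_subsingleton _, by
      rw [Set.range_const, roots_eq hk]
      ext j
      constructor
      · rintro rfl; exact ⟨Or.inl rfl, hb⟩
      · rintro ⟨rfl | rfl, hj⟩
        · rfl
        · exact absurd hj (fun hj => (disjoint_sides D b).le_bot ⟨hj, hnk⟩)⟩
  obtain ⟨f, g, hg, hf⟩ := exists_cell D b LC.c LC.t LC.ht LC.connected (fun K _ _ ξ => LC.rootsAt_eq K ξ)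
    (fun j hj => LC.exists_u hj) hneg hpos gn gp hN hP
  haveI := isOpenImmersion_fst D LC.c eneg epos b hneg hpos
  haveI : IsIso g.hom.left := inferInstanceAs (IsIso ((Over.forget S).map g.hom))
  exact ⟨f, by rw [← hg, Over.comp_left]; infer_instance, hf⟩

/-- **Homomorphisms agreeing on the torus and two opposite root groups agree on the centraliser.** -/
theorem LineCent.hom_eq {k : D.idx} (hk : k ∈ L.roots) {H : Over S} [GrpObj H] (φ ψ : G ⟶ H) [IsMonHom φ] [IsMonHom ψ]
    (hT : D.i ≫ φ = D.i ≫ ψ) (hP : D.u k ≫ φ = D.u k ≫ ψ)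
    (hM : D.u (D.P.reflectionPerm k k) ≫ φ = D.u (D.P.reflectionPerm k k) ≫ ψ) : LC.c ≫ φ = LC.c ≫ ψ := by
  haveI := LC.isMonHom; haveI := LC.closed; haveI := LC.smooth
  haveI : Mono LC.c := (Over.forget S).mono_of_mono_map (inferInstanceAs (Mono LC.c.left))
  haveI : ∀ j, IsMonHom (D.u j) := isMonHom_u D
  haveI := isMonHom_i D
  obtain ⟨f, hfo, hf⟩ := LC.exists_chart hk
  haveI := hfo
  haveI : IsAffineHom (src D 1 1).hom := by
    haveI := isAffineHom_pow (S := S) 1
    haveI := isAffineHom_src D 1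
    haveI : IsAffineHom (pullback.fst (RedSub.pow (Red.Ga S) 1).hom (D.T ⊗ RedSub.pow (Red.Ga S) 1).hom) :=
      MorphismProperty.pullback_fst (P := @IsAffineHom) _ _ inferInstance
    show IsAffineHom (pullback.fst _ (D.T ⊗ RedSub.pow (Red.Ga S) 1).hom ≫ _)
    infer_instance
  haveI : QuasiSeparated LC.C.hom := by
    haveI := D.reductive.1
    rw [← Over.w LC.c]
    infer_instance
  haveI : GeometricallyConnected LC.C.hom :=
    Groth.Agent.WeilRes.geometricallyConnected_of_geomPt LC.C.hom LC.connected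
  let ε : 𝟙_ (Over S) ⟶ src D 1 1 := lift (tup fun _ => 1) (lift 1 (tup fun _ => 1))
  have hε : ε ≫ f = η[LC.C] := by
    rw [← cancel_mono LC.c, IsMonHom.one_hom, Category.assoc, hf]
    simp only [ε, RedSub.cellMap, MonObj.comp_mul, lift_fst_assoc, lift_snd_assoc, MonObj.one_comp]
    rw [rprod_one, rprod_one]
    simp only [← Category.assoc, tup_prj, MonObj.one_comp, _root_.mul_one]
    rw [MonObj.one_eq_one]
  have hfeq : f ≫ LC.c ≫ φ = f ≫ LC.c ≫ ψ := by
    simp only [reassoc_of% hf, RedSub.cellMap, MonObj.mul_comp, Category.assoc]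
    rw [rprod_one, rprod_one]
    simp only [Category.assoc, hT, hP, hM]
  refine eq_of_chart (src D 1 1) f ε hε _ _ ?_
  simp only [Category.assoc, IsMonHom.mul_hom, IsMonHom.mul_hom_assoc, tensorHom_comp_tensorHom_assoc, hfeq]

/-- The character of a root is nowhere trivial. -/
theorem alpha_bc_ne_one (k : D.idx) (s : S) :
    (Over.pullback (Red.geomPt s)).map (D.split.hom.hom.hom ≫ Red.chi S (D.P.root k)) ≠ 1 := by
  intro h
  obtain ⟨f, hf⟩ : ∃ f : D.M →ₗ[ℤ] ℤ, f (D.P.root k) ≠ 0 := by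
    by_contra hcon
    push Not at hcon
    exact D.P.ne_zero k ((Module.finBasis ℤ D.M).ext_elem fun i => by
      rw [map_zero, Finsupp.zero_apply]
      exact hcon ((Module.finBasis ℤ D.M).coord i))
  let K := AlgebraicClosure (S.residueField s)
  obtain ⟨z, hz⟩ := exists_units_zpow_ne_one K hf
  let X₀ : Over (Spec (CommRingCat.of K)) := Over.mk (𝟙 _)
  let X := (Over.map (Red.geomPt s)).obj X₀
  let e : Γ(X.left, ⊤) ≅ CommRingCat.of K := Scheme.ΓSpecIso (CommRingCat.of K)
  let zz : (Γ(X.left, ⊤))ˣ := Units.map e.inv.hom.toMonoidHom z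
  let α := D.split.hom.hom.hom ≫ Red.chi S (D.P.root k)
  let σ : X ⟶ D.T := cochT D f (GmPts.ptOfUnit zz)
  let E := (Over.mapPullbackAdj (Red.geomPt s)).homEquiv X₀
  have key : ∀ q : X ⟶ D.T, E (Red.Gm S) (q ≫ α) = 1 := fun q => by
    rw [Adjunction.homEquiv_naturality_right, h, MonObj.comp_one]
  haveI : IsMonHom α := by
    haveI : IsMonHom D.split.hom.hom.hom := D.split.hom.hom.isMonHom_hom
    haveI : IsMonHom (Red.chi S (D.P.root k)) := Groth.Agent.DSImg.isMonHom_DSmap _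
    exact inferInstanceAs (IsMonHom (D.split.hom.hom.hom ≫ Red.chi S (D.P.root k)))
  have h1 : σ ≫ α = 1 := by
    rw [← MonObj.one_comp α]
    exact (E (Red.Gm S)).injective ((key σ).trans (key 1).symm)
  have h2 := congrArg Red.gmFn h1
  rw [show Red.gmFn (σ ≫ α) = _ from gmFn_cochT D f (GmPts.ptOfUnit zz) (D.P.root k), GmPts.unitOfPt_ptOfUnit,
    ← map_zpow] at h2
  have h3 : (1 : X ⟶ Red.Gm S) = GmPts.ptOfUnit 1 := (GmPts.ptOfUnit_unitOfPt _).symm.trans (by
    rw [show GmPts.unitOfPt (1 : X ⟶ Red.Gm S) = 1 from GmPts.unitOfPt_one])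
  rw [h3, GmPts.gmFn_ptOfUnit] at h2
  refine hz (Units.ext ((ConcreteCategory.bijective_of_isIso e.inv).1 ?_))
  rw [Units.val_one, map_one]
  exact h2

include LC in
/-- **A homomorphism with the weight of a root is a multiple of its root homomorphism by a unit.** -/
theorem LineCent.exists_scale {k : D.idx} (hk : k ∈ L.roots) (v : Red.Ga S ⟶ G) [IsMonHom v] [Mono v]
    (hv : ∀ (X : Over S) (s : X ⟶ D.T) (x y : X ⟶ Red.Ga S),
      Red.gaFn y = Red.gmFn (s ≫ D.split.hom.hom.hom ≫ Red.chi S (D.P.root k)) * Red.gaFn x →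
        y ≫ v = (s ≫ D.i) * (x ≫ v) * (s ≫ D.i)⁻¹) :
    ∃ w : Red.Ga S ⟶ Red.Ga S, w ≫ v = D.u k := by
  haveI := LC.isMonHom; haveI := LC.closed; haveI := LC.smooth
  haveI : Mono LC.c := (Over.forget S).mono_of_mono_map (inferInstanceAs (Mono LC.c.left))
  haveI := LC.isMonHom_t
  haveI := isMonHom_i D
  haveI := mono_i D
  haveI : ∀ j, IsMonHom (D.u j) := isMonHom_u D
  haveI : Mono LC.t := mono_of_mono_fac LC.ht
  obtain ⟨pp, hpp⟩ := LC.exists_u hk
  have hk' : D.P.reflectionPerm k k ∈ L.roots := by rw [roots_eq hk]; exact Or.inr rfl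
  obtain ⟨pm, hpm⟩ := LC.exists_u hk'
  let α : D.T ⟶ Red.Gm S := D.split.hom.hom.hom ≫ Red.chi S (D.P.root k)
  haveI : IsMonHom D.split.hom.hom.hom := D.split.hom.hom.isMonHom_hom
  haveI : IsMonHom (Red.chi S (D.P.root k)) := Groth.Agent.DSImg.isMonHom_DSmap _
  haveI : IsMonHom α := inferInstanceAs (IsMonHom (D.split.hom.hom.hom ≫ Red.chi S (D.P.root k)))
  have hmon : ∀ (q : Red.Ga S ⟶ LC.C) (r : Red.Ga S ⟶ G) (_ : IsMonHom r), q ≫ LC.c = r → IsMonHom q :=
    fun q r hr e =>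
      { one_hom := (cancel_mono LC.c).1 (by rw [Category.assoc, e, hr.one_hom, IsMonHom.one_hom])
        mul_hom := (cancel_mono LC.c).1 (by
          rw [Category.assoc, e, hr.mul_hom, Category.assoc, IsMonHom.mul_hom (f := LC.c), ← Category.assoc,
            tensorHom_comp_tensorHom, e]) }
  haveI := hmon pp _ inferInstance hpp
  haveI := hmon pm _ inferInstance hpm
  obtain ⟨p, hp⟩ : ∃ p : Red.Ga S ⟶ LC.C, p ≫ LC.c = v := (LC.mem_iff _ _).2 fun X' x s hs => by
    have h1 := hv X' s x x (by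
      have hs' : MultSubLib.chars (s ≫ D.split.hom.hom.hom) (Multiplicative.ofAdd L.χ) = 1 := hs
      rw [← Category.assoc, gmFn_chi, show D.P.root k = L.co (D.P.root k) • L.χ from hk]
      obtain ⟨n, hn | hn⟩ := Int.eq_nat_or_neg (L.co (D.P.root k))
      · rw [hn, natCast_zsmul, ofAdd_nsmul, map_pow, hs', one_pow, _root_.one_mul]
      · rw [hn]
        have h2 : MultSubLib.chars (s ≫ D.split.hom.hom.hom) (Multiplicative.ofAdd ((-(n : ℤ)) • L.χ)) *
            MultSubLib.chars (s ≫ D.split.hom.hom.hom) (Multiplicative.ofAdd ((n : ℤ) • L.χ)) = 1 := by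
          rw [← map_mul, ← ofAdd_add, ← add_smul, neg_add_cancel, zero_smul, ofAdd_zero, map_one]
        rw [show MultSubLib.chars (s ≫ D.split.hom.hom.hom) (Multiplicative.ofAdd ((n : ℤ) • L.χ)) = 1 by
          rw [natCast_zsmul, ofAdd_nsmul, map_pow, hs', one_pow], _root_.mul_one] at h2
        rw [h2, _root_.one_mul])
    exact eq_mul_inv_iff_mul_eq.1 h1
  haveI := hmon p _ inferInstance hp
  haveI : Mono p := mono_of_mono_fac hp
  have hppT : ∀ (X : Over S) (t : X ⟶ D.T) (x : X ⟶ Red.Ga S), ∃ x' : X ⟶ Red.Ga S,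
      x' ≫ pp = (t ≫ LC.t) * (x ≫ pp) * (t ≫ LC.t)⁻¹ ∧ Red.gaFn x' = Red.gmFn (t ≫ α) * Red.gaFn x := fun X t x => by
    obtain ⟨y, hy, he⟩ := (D.rootHom k).2.2 X t x
    refine ⟨y, ?_, he⟩
    rw [← cancel_mono LC.c, MonObj.mul_comp, MonObj.mul_comp, GrpObj.inv_comp, Category.assoc, Category.assoc,
      Category.assoc, hpp, LC.ht, hy]
  have hpmT : ∀ (X : Over S) (t : X ⟶ D.T) (y : X ⟶ Red.Ga S), ∃ y' : X ⟶ Red.Ga S,
      y' ≫ pm = (t ≫ LC.t) * (y ≫ pm) * (t ≫ LC.t)⁻¹ ∧ Red.gaFn y' * Red.gmFn (t ≫ α) = Red.gaFn y := fun X t x => by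
    obtain ⟨y, hy, he⟩ := (D.rootHom (D.P.reflectionPerm k k)).2.2 X t x
    refine ⟨y, ?_, ?_⟩
    · rw [← cancel_mono LC.c, MonObj.mul_comp, MonObj.mul_comp, GrpObj.inv_comp, Category.assoc, Category.assoc,
        Category.assoc, hpm, LC.ht, hy]
    · rw [he]
      have h1 : Red.gmFn (t ≫ D.split.hom.hom.hom ≫ Red.chi S (D.P.root (D.P.reflectionPerm k k))) *
          Red.gmFn (t ≫ α) = 1 := by
        simp only [α, ← Category.assoc, gmFn_chi]
        rw [← map_mul, ← ofAdd_add, root_neg, neg_add_cancel, ofAdd_zero, map_one]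
      rw [mul_right_comm, h1, _root_.one_mul]
  have hΩ : IsOpenImmersion (((pm ⊗ₘ LC.t) ⊗ₘ pp) ≫ (μ[LC.C] ▷ LC.C) ≫ μ[LC.C]).left := by
    obtain ⟨f, hfo, hf⟩ := LC.exists_chart hk
    haveI := hfo
    let E : (Red.Ga S ⊗ D.T) ⊗ Red.Ga S ≅ src D 1 1 :=
      (α_ _ _ _) ≪≫ ((ρ_ (Red.Ga S)).symm ⊗ᵢ (Iso.refl D.T ⊗ᵢ (ρ_ (Red.Ga S)).symm))
    have hE : E.hom ≫ f = ((pm ⊗ₘ LC.t) ⊗ₘ pp) ≫ (μ[LC.C] ▷ LC.C) ≫ μ[LC.C] := by
      rw [← cancel_mono LC.c, Category.assoc, hf, RedSub.cellMap, rprod_one, rprod_one]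
      simp only [Category.assoc, IsMonHom.mul_hom, tensorHom_comp_tensorHom_assoc, MonObj.mul_eq_mul,
        MonObj.comp_mul, MonObj.mul_comp, whiskerRight_fst_assoc, whiskerRight_snd_assoc, tensorHom_fst_assoc,
        tensorHom_snd_assoc, hpm, hpp, LC.ht]
      simp only [E, prj, Iso.trans_hom, tensorIso_hom, Iso.symm_hom, Iso.refl_hom, Category.assoc, Fin.cases_zero,
        tensorHom_fst_assoc, tensorHom_snd_assoc, rightUnitor_inv_fst_assoc, rightUnitor_inv_fst,
        associator_hom_fst_assoc, associator_hom_snd_fst_assoc, associator_hom_snd_snd_assoc, Category.id_comp]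
      have e : ∀ {Z : Over S} (q : Red.Ga S ⟶ Z),
          (ρ_ (Red.Ga S)).inv ≫ fst (Red.Ga S) (RedSub.pow (Red.Ga S) 0) ≫ q = q :=
        fun q => rightUnitor_inv_fst_assoc (Red.Ga S) q
      rw [e, e, ← _root_.mul_assoc]
    rw [← hE, Over.comp_left]
    haveI : IsIso E.hom.left := inferInstanceAs (IsIso ((Over.forget S).mapIso E).hom)
    infer_instance
  have hpw : ∀ (X : Over S) (t : X ⟶ D.T) (x x' : X ⟶ Red.Ga S),
      Red.gaFn x' = Red.gmFn (t ≫ 𝟙 D.T ≫ α) * Red.gaFn x →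
        x' ≫ p = ((t ≫ 𝟙 D.T ≫ LC.t) ^ 1) * (x ≫ p) * ((t ≫ 𝟙 D.T ≫ LC.t) ^ 1)⁻¹ := fun X t x x' e => by
    rw [Category.id_comp] at e
    rw [pow_one, Category.id_comp, ← cancel_mono LC.c, MonObj.mul_comp, MonObj.mul_comp, GrpObj.inv_comp,
      Category.assoc, Category.assoc, Category.assoc, hp, LC.ht]
    exact hv X t x x' e
  obtain ⟨ν, hν, -⟩ := S8445.result S LC.C D.T LC.t D.maximalTorus.2.2.1 D.T (𝟙 _) D.maximalTorus.2.2.1 α
    (fun s => by rw [Category.id_comp]; exact alpha_bc_ne_one k s) pp pm hppT hpmT hΩ 1 p hpw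
  have hu : IsUnit (Red.gaFn ν) := Groth.Agent.BigCell.isUnit_of_field _ fun K _ _ a q h0 => by
    let P := BigCell.fieldPt K a
    have hq : q = toUnit P := Subsingleton.elim _ _
    have e1 := hν P (ptOf 1) 1 (by
      rw [gaFn_one, gaFn_ptOf, one_pow, _root_.mul_one, ← hq, gaFn_comp]
      exact h0.symm)
    rw [MonObj.one_comp] at e1
    have e2 : (ptOf (1 : Γ(P.left, ⊤)) : P ⟶ Red.Ga S) = 1 := (cancel_mono p).1 (e1.trans (MonObj.one_comp p).symm)
    have e3 := congrArg Red.gaFn e2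
    rw [gaFn_ptOf, gaFn_one] at e3
    haveI : Nontrivial Γ(P.left, ⊤) := inferInstanceAs (Nontrivial Γ(Spec (CommRingCat.of K), ⊤))
    exact one_ne_zero e3
  let νi : Γ((Red.Ga S).left, ⊤) := (toUnit (Red.Ga S)).left.appTop ((hu.unit⁻¹ : _) : Γ((𝟙_ (Over S)).left, ⊤))
  refine ⟨ptOf (νi * Red.gaFn (𝟙 (Red.Ga S))), ?_⟩
  have e1 := hν (Red.Ga S) (ptOf (νi * Red.gaFn (𝟙 _))) (𝟙 _) (by
    rw [gaFn_ptOf, pow_one, gaFn_comp, ← _root_.mul_assoc, ← map_mul, IsUnit.mul_val_inv, map_one, _root_.one_mul])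
  rw [Category.id_comp] at e1
  rw [← hp, reassoc_of% e1, hpp]

end RootSubgrp

end
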