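import Groth.Agent.RootSubgrpLib.UnipRad
import Groth.Agent.DSImgLib.Basic

/-!
# Solvable fibres and the normaliser of the torus
-/

set_option autoImplicit false
set_option linter.style.haveILetI false
set_option linter.unusedSectionVars false
set_option backward.isDefEq.respectTransparency false
set_option maxHeartbeats 1000000
set_option synthInstance.maxHeartbeats 400000

universe u

open CategoryTheory CategoryTheory.Limits MonoidalCategory CartesianMonoidalCategory AlgebraicGeometry WithConv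
open scoped MonObj
open CoactBr (sp)
open Groth.Agent
open Groth.Agent.BorelLib

noncomputable section

attribute [-instance] CategoryTheory.Hom.commGroup

namespace RootSubgrp

attribute [local instance] pTop pTopTensor

open SplitCell SplitFib

section Pts

variable {S : Scheme.{u}} {G : Over S} [GrpObj G] (D : Red.SplitRed G) {K : Type u} [Field K] [IsAlgClosed K]
  (a : Spec (CommRingCat.of K) ⟶ S) {A : Type u} [CommRing A] [HopfAlgebra K A] [Algebra.FiniteType K A]
  (v : sp K A ≅ Red.bc a G) [IsMonHom v.hom] [_root_.IsReduced A] [IsAffine (Red.bc a G).left]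
  [Smooth (Red.bc a G).hom] {H' : Subgroup (Pt K A)} (hH : IsClosed (H' : Set (Pt K A))) (hTH : Tsub D a v ≤ H')
  (hT : IsMaxTor ⊤ (Tsub D a v)) (hconn : _root_.IsPreconnected (Set.univ : Set (Pt K A)))
include hH hTH hT hconn

/-- **A representative of the reflection lies in a subgroup with opposite roots, outside the torus.** -/
theorem refl_mem {k : D.idx} (hk : k ∈ rootsIn D a v H') (hk' : D.P.reflectionPerm k k ∈ rootsIn D a v H')
    (n : 𝟙_ (Over S) ⟶ G) (hn : ∀ (X : Over S) (t : X ⟶ D.T), (toUnit X ≫ n) * (t ≫ D.i) * (toUnit X ≫ n)⁻¹ =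
      t ≫ D.split.hom.hom.hom ≫ Red.DSmap S (D.P.reflection k).toLinearMap.toAddMonoidHom ≫ D.split.inv.hom.hom ≫ D.i) :
    ptG a v (toUnit (aP a K) ≫ n) ∈ H' ∧ ptG a v (toUnit (aP a K) ≫ n) ∉ Tsub D a v := by
  haveI := isReduced_P D a
  obtain ⟨L, hL⟩ := exists_line D k
  let g := ptG a v (toUnit (aP a K) ≫ n)
  have key : ∀ t, ∃ t', g * torusHom D a v t * g⁻¹ = torusHom D a v t' ∧
      ∀ m, ch D a t' (Multiplicative.ofAdd m) = ch D a t (Multiplicative.ofAdd (D.P.reflection k m)) := fun t => by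
    refine ⟨t ≫ D.split.hom.hom.hom ≫ Red.DSmap S (D.P.reflection k).toLinearMap.toAddMonoidHom ≫
      D.split.inv.hom.hom, ?_, fun m => ?_⟩
    · show ptG a v _ * ptG a v (t ≫ D.i) * (ptG a v _)⁻¹ = ptG a v (_ ≫ D.i)
      rw [← map_inv, ← map_mul, ← map_mul, hn]
      simp only [Category.assoc]
    · refine Units.ext ((cst_bijective a).1 ?_)
      rw [cst_ch, cst_ch]
      have e : D.split.inv.hom.hom ≫ D.split.hom.hom.hom = 𝟙 _ := by
        change (D.split.inv ≫ D.split.hom).hom.hom = _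
        rw [D.split.inv_hom_id]; rfl
      simp only [Category.assoc, reassoc_of% e]
      rw [← Category.assoc t, ← Category.assoc (t ≫ _), gmFn_chi, ← Category.assoc t D.split.hom.hom.hom, gmFn_chi]
      conv_lhs => rw [← MultSubLib.dsPt_chars (t ≫ D.split.hom.hom.hom), KummerExactLib.dsPt_DSmap,
        MultSubLib.chars_dsPt]
      rfl
  have hcen : g ∈ Cen a v L := (mem_Cen_iff a v L).2 fun f hf z => by
    obtain ⟨t', h, h'⟩ := key (tc D a f z)
    have : t' = tc D a f z := ch_injective D a (MonoidHom.ext fun m => by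
      obtain ⟨m, rfl⟩ := Multiplicative.ofAdd.surjective m
      rw [h', ch_cochT, ch_cochT, D.P.reflection_apply, map_sub, map_smul,
        show D.P.root k = L.co (D.P.root k) • L.χ from hL, map_zsmul, hf, smul_zero, smul_zero, sub_zero])
    rw [this] at h
    exact (mul_inv_eq_iff_eq_mul.1 h).symm
  refine ⟨?_, fun hg => ?_⟩
  · obtain ⟨hCc, hCp⟩ := Cen_facts a v L hconn hT
    refine le_of_rootsIn D a v hCc (Tsub_le_Cen a v L) hCp hTH (fun j hj => ?_) hcen
    suffices h : j = k ∨ j = D.P.reflectionPerm k k by rcases h with rfl | rfl <;> assumption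
    obtain ⟨b', hb'⟩ := exists_sides_mem D j
    obtain ⟨n', m', eneg, epos, hneg, hpos⟩ := exists_enum D b'
    obtain ⟨i, rfl⟩ := hpos.2.symm.subset hb'
    have hjL := (mem_line_of_Cen a v L b' hneg hpos (y := 0) (t := 1) (c := Pi.single i 1) (by
      rw [uPe_zero, map_one, _root_.one_mul, _root_.one_mul, uPe_single]
      exact hj 1)).2 i (by simp)
    refine or_iff_not_imp_left.2 fun hne => ?_
    by_contra hne'
    have hd : D.P.root (epos i) ≠ -D.P.root k := fun e => hne' (D.P.root.injective (by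
      rw [RootPairing.root_reflectionPerm, D.P.reflection_apply_self, e]))
    have hind := RootPairing.IsReduced.linearIndependent (P := D.P) hne hd
    refine L.weight_ne_zero hL (LinearIndependent.pair_iff.1 hind (L.co (D.P.root k))
      (-L.co (D.P.root (epos i))) ?_).1
    rw [show D.P.root (epos i) = L.co (D.P.root (epos i)) • L.χ from hjL]
    conv_lhs => arg 2; rw [show D.P.root k = L.co (D.P.root k) • L.χ from hL]
    rw [map_zsmul, L.co_χ, smul_eq_mul, _root_.mul_one, smul_smul, smul_smul, ← add_smul]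
    simp [_root_.mul_comm]
  · obtain ⟨f, hf⟩ : ∃ f : D.M →ₗ[ℤ] ℤ, f (D.P.root k) ≠ 0 := by
      by_contra hcon
      push_neg at hcon
      exact D.P.ne_zero k ((Module.finBasis ℤ D.M).ext_elem fun i => by
        rw [map_zero, Finsupp.zero_apply]
        exact hcon ((Module.finBasis ℤ D.M).coord i))
    obtain ⟨z, hz⟩ := exists_units_zpow_ne_one K (show f (D.P.root k) + f (D.P.root k) ≠ 0 by omega)
    obtain ⟨t', h1, h2⟩ := key (tc D a f z)
    have hcomm := hT.tor.comm _ hg (torusHom D a v (tc D a f z)) ⟨_, rfl⟩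
    rw [hcomm, mul_inv_cancel_right] at h1
    have h3 := h2 (D.P.root k)
    rw [← torusHom_injective D a v h1, D.P.reflection_apply_self, ch_cochT, ch_cochT, map_neg, zpow_neg,
      eq_inv_iff_mul_eq_one, ← zpow_add] at h3
    exact hz h3

end Pts

variable {S : Scheme.{u}} [ConnectedSpace S] {G H : Over S} [GrpObj G] [GrpObj H] (D : Red.SplitRed G) (h : H ⟶ G)
  (hH : RedSub.IsSubgrp h) [Smooth H.hom] (t : D.T ⟶ H) (ht : t ≫ h = D.i)
  (hconn : ∀ s : S, ConnectedSpace ↥(Red.geomFibre s H).left) {R₀ : Set D.idx}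
  (hR₀ : ∀ (K : Type u) [Field K] [IsAlgClosed K] (ξ : Spec (CommRingCat.of K) ⟶ S), rootsAt D h ξ = R₀)
  (hfac : ∀ k ∈ R₀, ∃ w : Red.Ga S ⟶ H, w ≫ h = D.u k)
include hH ht hconn hR₀ hfac

/-- **Opposite roots give a point normalising the torus outside it.** -/
theorem asym_of_normalizer (hall : ∀ (X : Over S) (x : X ⟶ H),
        (∀ (X' : Over S) (y : X' ⟶ X) (s : X' ⟶ D.T),
          (∃ s' : X' ⟶ D.T, (y ≫ x ≫ h) * (s ≫ D.i) * (y ≫ x ≫ h)⁻¹ = s' ≫ D.i) ∧
          (∃ s' : X' ⟶ D.T, (y ≫ x ≫ h)⁻¹ * (s ≫ D.i) * (y ≫ x ≫ h) = s' ≫ D.i)) →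
        ∃ s : X ⟶ D.T, s ≫ t = x) : ∀ k ∈ R₀, D.P.reflectionPerm k k ∉ R₀ := by
  intro k hk hk'
  haveI := hH.1
  haveI : IsImmersion h.left := hH.2
  haveI : Mono h := (Over.forget S).mono_of_mono_map (inferInstanceAs (Mono h.left))
  haveI := isMonHom_i D
  obtain ⟨s⟩ := (inferInstance : Nonempty S)
  obtain ⟨ha, hsm, A, _, _, v, hv, hA, hA', hc, hred, hT, H', hH', hHc, hTH, hmem, hroots, -⟩ :=
    exists_geom_data D h t ht hconn s
  haveI := ha; haveI := hsm; haveI := hv; haveI := hA; haveI := hA'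
  rw [← hR₀ _ (Red.geomPt s), ← hroots] at hk hk'
  obtain ⟨n, hn⟩ := D.refl k
  obtain ⟨hg, hgT⟩ := refl_mem D (Red.geomPt s) v hH' hTH hT hc hk hk' n hn
  obtain ⟨z, hz⟩ := (hmem _).1 hg
  obtain ⟨τ, hτ⟩ := hall _ z fun X' y s' => by
    rw [hz, ← Category.assoc, Subsingleton.elim (y ≫ toUnit _) (toUnit X')]
    have hA := hn X'
    refine ⟨⟨s' ≫ D.split.hom.hom.hom ≫ Red.DSmap S (D.P.reflection k).toLinearMap.toAddMonoidHom ≫
      D.split.inv.hom.hom, (hA s').trans (by simp only [Category.assoc])⟩, ?_⟩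
    refine ⟨s' ≫ D.split.hom.hom.hom ≫ Red.DSmap S (D.P.reflection k).toLinearMap.toAddMonoidHom ≫
      D.split.inv.hom.hom, ?_⟩
    set N := toUnit X' ≫ n with hN
    set s₁ := s' ≫ D.split.hom.hom.hom ≫ Red.DSmap S (D.P.reflection k).toLinearMap.toAddMonoidHom ≫
      D.split.inv.hom.hom with hs₁
    have e1 : N * (s' ≫ D.i) * N⁻¹ = s₁ ≫ D.i := (hA s').trans (by simp only [hs₁, Category.assoc])
    have e2 : N * (s₁ ≫ D.i) * N⁻¹ = s' ≫ D.i := (hA s₁).trans (by
      have e : ∀ {Z : Over S} (q : Red.DS S D.M ⟶ Z), D.split.inv.hom.hom ≫ D.split.hom.hom.hom ≫ q = q := fun q => by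
        rw [← Category.assoc, show D.split.inv.hom.hom ≫ D.split.hom.hom.hom = 𝟙 _ from by
          change (D.split.inv ≫ D.split.hom).hom.hom = _
          rw [D.split.inv_hom_id]; rfl, Category.id_comp]
      have e' : ∀ {Z : Over S} (q : D.T ⟶ Z), D.split.hom.hom.hom ≫ D.split.inv.hom.hom ≫ q = q := fun q => by
        rw [← Category.assoc, show D.split.hom.hom.hom ≫ D.split.inv.hom.hom = 𝟙 _ from by
          change (D.split.hom ≫ D.split.inv).hom.hom = _
          rw [D.split.hom_inv_id]; rfl, Category.id_comp]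
      have einv : ∀ {Z : Over S} (q : Red.DS S D.M ⟶ Z),
          Red.DSmap S (D.P.reflection k).toLinearMap.toAddMonoidHom ≫
            Red.DSmap S (D.P.reflection k).toLinearMap.toAddMonoidHom ≫ q = q := fun {Z} q => by
        rw [← Category.assoc]
        conv_rhs => rw [← Category.id_comp q]
        congr 1
        refine MultSubLib.chars_injective (MonoidHom.ext fun m => ?_)
        rw [Groth.Agent.DSImg.chars_comp_DSmap, ← Category.id_comp (Red.DSmap S _),
          Groth.Agent.DSImg.chars_comp_DSmap]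
        obtain ⟨m, rfl⟩ := Multiplicative.ofAdd.surjective m
        show MultSubLib.chars (𝟙 _) (Multiplicative.ofAdd (D.P.reflection k (D.P.reflection k m))) = _
        rw [D.P.reflection_same]
      simp only [hs₁, Category.assoc, e, einv, e'])
    rw [← e2]
    group
  refine hgT ⟨τ, ?_⟩
  show ptG (Red.geomPt s) v (τ ≫ D.i) = _
  rw [← hz, ← hτ, Category.assoc, ht]

/-- **A subgroup with solvable fibres meets the normaliser of the torus in the torus.** -/
theorem normalizer_of_sides (b : Sides D.P) (hb : R₀ ⊆ b.pos) (X : Over S) (x : X ⟶ H)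
    (hx : ∀ (X' : Over S) (y : X' ⟶ X) (s : X' ⟶ D.T),
          (∃ s' : X' ⟶ D.T, (y ≫ x ≫ h) * (s ≫ D.i) * (y ≫ x ≫ h)⁻¹ = s' ≫ D.i) ∧
          (∃ s' : X' ⟶ D.T, (y ≫ x ≫ h)⁻¹ * (s ≫ D.i) * (y ≫ x ≫ h) = s' ≫ D.i)) :
    ∃ s : X ⟶ D.T, s ≫ t = x := by
  haveI := hH.1
  haveI : IsImmersion h.left := hH.2
  haveI : Mono h := (Over.forget S).mono_of_mono_map (inferInstanceAs (Mono h.left))
  haveI := isMonHom_i D
  obtain ⟨U, _, u, hu, hcl, hsm, hrad, hE, -⟩ := exists_unipRadical D h hH t ht hconn hR₀ hfac b hb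
  haveI := hu; haveI := hE; haveI := hsm
  obtain ⟨-, hucl, hn, -, -, hfib, -⟩ := hrad
  haveI : IsMonHom t :=
    { one_hom := (cancel_mono h).1 (by rw [Category.assoc, ht, IsMonHom.one_hom, IsMonHom.one_hom])
      mul_hom := (cancel_mono h).1 (by
        rw [Category.assoc, ht, IsMonHom.mul_hom, Category.assoc, IsMonHom.mul_hom (f := h), ← Category.assoc,
          tensorHom_comp_tensorHom, ht]) }
  set E := (t ⊗ₘ u) ≫ μ[H]
  have hEe : ∀ {Y : Over S} (τ : Y ⟶ D.T) (y : Y ⟶ U), lift τ y ≫ E = (τ ≫ t) * (y ≫ u) := fun τ y => by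
    rw [← Category.assoc, lift_map, MonObj.mul_eq_mul, MonObj.comp_mul, lift_fst, lift_snd]
  obtain ⟨τ, y, rfl⟩ : ∃ τ y, (τ ≫ t) * (y ≫ u) = x :=
    ⟨(x ≫ inv E) ≫ fst _ _, (x ≫ inv E) ≫ snd _ _, by
      rw [← hEe, lift_comp_fst_snd, Category.assoc, IsIso.inv_hom_id, Category.comp_id]⟩
  have hsub : RedSub.IsSubgrp (u ≫ h) := ⟨inferInstance, haveI := hcl; inferInstance⟩
  have hnorm : ∀ (X : Over S) (s : X ⟶ D.T) (y : X ⟶ U), ∃ y' : X ⟶ U,
      (s ≫ D.i) * (y ≫ u ≫ h) * (s ≫ D.i)⁻¹ = y' ≫ u ≫ h := fun X s y => by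
    obtain ⟨y', hy'⟩ := hn X (s ≫ t) y
    refine ⟨y', ?_⟩
    rw [← Category.assoc y', ← hy', MonObj.mul_comp, MonObj.mul_comp, GrpObj.inv_comp, Category.assoc, Category.assoc,
      ht]
  have hy1 : y = 1 := UnipTorus.eq_one_of_commute D.reductive D.i D.maximalTorus (u ≫ h) hsub hfib hnorm y
    fun X' f s => by
      obtain ⟨⟨s', hs'⟩, -⟩ := hx X' f s
      rw [← Category.assoc, MonObj.comp_mul, MonObj.mul_comp] at hs'
      simp only [Category.assoc, ht] at hs'
      set A := f ≫ τ ≫ D.i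
      set Y := f ≫ y ≫ u ≫ h
      set Sg := s ≫ D.i
      have hAS : A * Sg = Sg * A := by
        simp only [A, Sg]
        rw [← Category.assoc, ← MonObj.mul_comp, ← MonObj.mul_comp, RCentre.commute_torus D.maximalTorus.2.2.1]
      have hAS' : A * (s' ≫ D.i) = (s' ≫ D.i) * A := by
        simp only [A]
        rw [← Category.assoc, ← MonObj.mul_comp, ← MonObj.mul_comp, RCentre.commute_torus D.maximalTorus.2.2.1]
      have h1 : Y * Sg * Y⁻¹ = s' ≫ D.i := by
        rw [show Y * Sg * Y⁻¹ = A⁻¹ * (A * Y * Sg * (A * Y)⁻¹) * A by group, hs', _root_.mul_assoc, ← hAS',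
          inv_mul_cancel_left]
      obtain ⟨y', hy'⟩ := hn X' (s ≫ t) (f ≫ y)⁻¹
      have h2 : lift (s' * s⁻¹) 1 ≫ E = lift 1 ((f ≫ y) * y') ≫ E := by
        rw [hEe, hEe, MonObj.one_comp, MonObj.one_comp, _root_.mul_one, _root_.one_mul, ← cancel_mono h,
          MonObj.mul_comp (f ≫ y) y' u, ← hy']
        simp only [MonObj.mul_comp, GrpObj.inv_comp, Category.assoc, ht]
        show (s' ≫ D.i) * Sg⁻¹ = Y * (Sg * Y⁻¹ * Sg⁻¹)
        rw [← h1]
        group
      have h3 := congrArg (fun q => q ≫ fst D.T U) ((cancel_mono E).1 h2)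
      simp only [lift_fst] at h3
      rw [mul_inv_eq_one.1 h3] at h1
      exact mul_inv_eq_iff_eq_mul.1 h1
  exact ⟨τ, by rw [hy1, MonObj.one_comp, _root_.mul_one]⟩

end RootSubgrp

end
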