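import Groth.Agent.RootSubgrpLib.UnipRad
import Groth.Agent.SplitCellLib.ChevalleyGlobal
import Groth.Agent.SplitCellLib.Combination
import Groth.Agent.WeilResLib.GrpGen

/-!
# Subgroups normalising a group of positive roots
-/

set_option autoImplicit false
set_option linter.style.haveILetI false
set_option linter.unusedSectionVars false
set_option backward.isDefEq.respectTransparency false
set_option maxHeartbeats 1000000
set_option synthInstance.maxHeartbeats 400000

universe u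

open CategoryTheory CategoryTheory.Limits MonoidalCategory CartesianMonoidalCategory AlgebraicGeometry
open Groth.Agent.GaPts
open scoped MonObj

noncomputable section

attribute [-instance] CategoryTheory.Hom.commGroup

namespace RootSubgrp

open SplitCell SplitFib

/-- Two independent roots lie on one side. -/
theorem exists_sides_pair {idx M N : Type} [AddCommGroup M] [Module.Free ℤ M] [Module.Finite ℤ M] [Finite idx]
    [AddCommGroup N] (P : RootPairing idx ℤ M N) {a b : idx} (hind : LinearIndependent ℤ ![P.root a, P.root b]) :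
    ∃ σ : Sides P, a ∈ σ.pos ∧ b ∈ σ.pos := by
  classical
  obtain ⟨f, hf⟩ := exists_pos_functional _ hind
  have hfa : 0 < f (P.root a) := hf 0
  have hfb : 0 < f (P.root b) := hf 1
  obtain ⟨g, hg⟩ := exists_injective_functional (fun i : Option idx => i.elim (0 : M) P.root) (by
    rintro (_ | i) (_ | j) h
    · rfl
    · exact absurd (h : (0 : M) = P.root j).symm (P.ne_zero j)
    · exact absurd (h : P.root i = (0 : M)) (P.ne_zero i)
    · exact congrArg some (P.root.injective h))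
  haveI := Fintype.ofFinite idx
  let c : ℤ := 1 + ∑ i : idx, |g (P.root i)|
  have hc : ∀ i, |g (P.root i)| < c := fun i => by
    have := Finset.single_le_sum (f := fun i : idx => |g (P.root i)|) (fun i _ => abs_nonneg _) (Finset.mem_univ i)
    omega
  let F : M →ₗ[ℤ] ℤ := c • f + g
  have hF : ∀ i, F (P.root i) = c * f (P.root i) + g (P.root i) := fun i => rfl
  have hFne : ∀ i, F (P.root i) ≠ 0 := fun i h => by
    have hgi := abs_lt.1 (hc i)
    rw [hF] at h
    rcases lt_trichotomy (f (P.root i)) 0 with h1 | h1 | h1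
    · nlinarith [mul_le_mul_of_nonneg_left (show f (P.root i) ≤ -1 by omega) (show 0 ≤ c by omega)]
    · have := @hg (some i) none (by simpa [h1] using h)
      cases this
    · nlinarith [mul_le_mul_of_nonneg_left (show 1 ≤ f (P.root i) by omega) (show 0 ≤ c by omega)]
  refine ⟨⟨{i | 0 < F (P.root i)}, {i | F (P.root i) < 0}, ⟨F, fun _ h => h, fun _ h => h⟩,
    fun i => (lt_or_gt_of_ne (hFne i)).symm⟩, ?_, ?_⟩
  · show 0 < F (P.root a)
    have hgi := abs_lt.1 (hc a)
    rw [hF]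
    nlinarith [mul_le_mul_of_nonneg_left (show 1 ≤ f (P.root a) by omega) (show 0 ≤ c by omega)]
  · show 0 < F (P.root b)
    have hgi := abs_lt.1 (hc b)
    rw [hF]
    nlinarith [mul_le_mul_of_nonneg_left (show 1 ≤ f (P.root b) by omega) (show 0 ≤ c by omega)]

variable {S : Scheme.{u}} {G : Over S} [GrpObj G] (D : Red.SplitRed G)

/-- Positive combinations of a root of a closed set and a second root lie in the set. -/
theorem comb_mem [Nonempty S] {R : Set D.idx}
    (hcl : ∀ a b c : D.idx, a ∈ R → b ∈ R → D.P.root a + D.P.root b = D.P.root c → c ∈ R) {α β : D.idx} (hα : α ∈ R)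
    (hmix : ∀ a c : D.idx, a ∈ R → D.P.root a + D.P.root β = D.P.root c → c ∈ R)
    (hind : LinearIndependent ℤ ![D.P.root α, D.P.root β]) :
    ∀ (p q : ℕ), 1 ≤ p → 1 ≤ q → ∀ k : D.idx, D.P.root k = (p : ℤ) • D.P.root α + (q : ℤ) • D.P.root β → k ∈ R := by
  haveI := SplitFib.isReduced_root D
  have key : ∀ s p q : ℕ, p + q = s → 1 ≤ p → 1 ≤ q → ∀ k : D.idx,
      D.P.root k = (p : ℤ) • D.P.root α + (q : ℤ) • D.P.root β → k ∈ R := by
    intro s
    induction s using Nat.strong_induction_on with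
    | _ s ih =>
      intro p q hs hp hq k hk
      by_cases h11 : p = 1 ∧ q = 1
      · obtain ⟨rfl, rfl⟩ := h11
        exact hmix α k hα (by rw [hk]; simp)
      have hpos : 0 < D.P.pairing α k ∨ 0 < D.P.pairing β k := by
        have h2 := congrArg (D.P.coroot' k) hk
        rw [map_add, map_zsmul, map_zsmul, D.P.root_coroot'_eq_pairing, D.P.root_coroot'_eq_pairing,
          D.P.root_coroot'_eq_pairing, D.P.pairing_same] at h2
        simp only [smul_eq_mul] at h2
        by_contra hcon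
        push Not at hcon
        nlinarith [hcon.1, hcon.2]
      have hsub : ∀ g₁ : D.idx, 0 < D.P.pairing g₁ k → g₁ ≠ k → ∃ l, D.P.root l = D.P.root k - D.P.root g₁ := fun g₁ hg₁ hne => by
        obtain ⟨l, hl⟩ := D.P.root_sub_root_mem_of_pairingIn_pos (i := g₁) (j := k)
          (by rw [RootBasicLib.pairingIn_eq_pairing]; exact hg₁) hne
        exact ⟨D.P.reflectionPerm l l, by
          rw [RootPairing.root_reflectionPerm, D.P.reflection_apply_self, hl, neg_sub]⟩
      have hneq : ∀ (c d : ℤ), c • D.P.root α + d • D.P.root β = 0 → c = 0 ∧ d = 0 := fun c d h =>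
        LinearIndependent.pair_iff.1 hind c d h
      have hmult : ∀ (g₁ g₂ : D.idx) (n : ℕ), 2 ≤ n → D.P.root g₁ ≠ (n : ℤ) • D.P.root g₂ := fun g₁ g₂ n hn e => by
        have h1 : g₁ ≠ g₂ := fun e1 => by
          subst e1
          have : ((n : ℤ) - 1) • D.P.root g₁ = 0 := by rw [sub_smul, ← e, one_smul, sub_self]
          rcases smul_eq_zero.1 this with h0 | h0
          · omega
          · exact D.P.ne_zero g₁ h0
        have h2 : D.P.root g₁ ≠ -D.P.root g₂ := fun e1 => by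
          have : ((n : ℤ) + 1) • D.P.root g₂ = 0 := by rw [add_smul, one_smul, ← e, e1, neg_add_cancel]
          rcases smul_eq_zero.1 this with h0 | h0
          · omega
          · exact D.P.ne_zero g₂ h0
        have := RootPairing.IsReduced.linearIndependent (P := D.P) h1 h2
        exact one_ne_zero (LinearIndependent.pair_iff.1 this 1 (-(n : ℤ)) (by rw [one_smul, neg_smul, e, add_neg_cancel])).1
      rcases hpos with hg₁ | hg₁
      · obtain ⟨l, hl⟩ := hsub α hg₁ (fun e => by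
          have := hneq ((p : ℤ) - 1) q (by rw [sub_smul, one_smul, e]; rw [← e, sub_add_eq_add_sub, ← hk, e, sub_self])
          omega)
        have hl' : D.P.root l = ((p - 1 : ℕ) : ℤ) • D.P.root α + (q : ℤ) • D.P.root β := by
          rw [hl, hk, Nat.cast_sub hp, sub_smul, Nat.cast_one, one_smul]; abel
        rcases Nat.eq_or_lt_of_le hp with hp1 | hp1
        · subst hp1
          exact absurd (by simpa using hl') (hmult l β q (by omega))
        · exact hcl α l k hα (ih (p - 1 + q) (by omega) (p - 1) q rfl (by omega) hq l hl') (by rw [hl]; abel)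
      · obtain ⟨l, hl⟩ := hsub β hg₁ (fun e => by
          have := hneq (p : ℤ) ((q : ℤ) - 1) (by rw [sub_smul, one_smul, e]; rw [← e, add_sub, ← hk, e, sub_self])
          omega)
        have hl' : D.P.root l = (p : ℤ) • D.P.root α + ((q - 1 : ℕ) : ℤ) • D.P.root β := by
          rw [hl, hk, Nat.cast_sub hq, sub_smul, Nat.cast_one, one_smul]; abel
        rcases Nat.eq_or_lt_of_le hq with hq1 | hq1
        · subst hq1
          exact absurd (by simpa using hl') (hmult l α p (by omega))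
        · exact hmix l k (ih (p + (q - 1)) (by omega) p (q - 1) rfl hp (by omega) l hl') (by rw [hl]; abel)
  exact fun p q => key _ p q rfl

/-- **Conjugating a root element by another one.** -/
theorem conj_u_mem [Nonempty S] {R : Set D.idx}
    (hcl : ∀ a b c : D.idx, a ∈ R → b ∈ R → D.P.root a + D.P.root b = D.P.root c → c ∈ R) {α β : D.idx} (hα : α ∈ R)
    (hmix : ∀ a c : D.idx, a ∈ R → D.P.root a + D.P.root β = D.P.root c → c ∈ R)
    (hopp : β ≠ D.P.reflectionPerm α α) {X : Over S} (P : Subgroup (X ⟶ G))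
    (hP : ∀ k ∈ R, ∀ z : X ⟶ Red.Ga S, z ≫ D.u k ∈ P) (x y : X ⟶ Red.Ga S) :
    (y ≫ D.u β) * (x ≫ D.u α) * (y ≫ D.u β)⁻¹ ∈ P := by
  classical
  haveI := isMonHom_u D β
  haveI := SplitFib.isReduced_root D
  by_cases hβα : β = α
  · subst hβα
    rw [← MonObj.mul_comp, SplitFib.commute_ga, MonObj.mul_comp, mul_inv_cancel_right]
    exact hP _ hα x
  have hd : D.P.root α ≠ -D.P.root β := fun e => hopp (D.P.root.injective (by
    rw [RootPairing.root_reflectionPerm, D.P.reflection_apply_self, e, neg_neg]))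
  have hind := RootPairing.IsReduced.linearIndependent (P := D.P) (Ne.symm hβα) hd
  obtain ⟨σ, ha, hb⟩ := exists_sides_pair D.P hind
  obtain ⟨n, e, he⟩ := SplitFib.exists_enumerates {c : D.idx | ∃ p q : ℕ, 1 ≤ p ∧ 1 ≤ q ∧
    D.P.root c = (p : ℤ) • D.P.root α + (q : ℤ) • D.P.root β}
  choose i j hi hj hij using fun k => he.2.subset (Set.mem_range_self k)
  obtain ⟨C, hC, -⟩ := existsUnique_coefficients D σ ha hb e i j he.1 (fun k => ⟨hi k, hj k, hij k⟩)
    fun c p q hp hq hc => he.2.symm.subset ⟨p, q, hp, hq, hc⟩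
  have hg := hC X x y⁻¹ (fun k => ptOf (X.hom.appTop (C k) * Red.gaFn x ^ i k * Red.gaFn y⁻¹ ^ j k))
    fun k => gaFn_ptOf _
  have hmem : gcm D α β x y⁻¹ ∈ P := by
    rw [hg]
    refine Subgroup.list_prod_mem _ fun w hw => ?_
    obtain ⟨k, rfl⟩ := List.mem_ofFn.1 hw
    exact hP _ (comb_mem D hcl hα hmix hind _ _ (hi k) (hj k) _ (hij k)) _
  have e1 : (y ≫ D.u β) * (x ≫ D.u α) * (y ≫ D.u β)⁻¹ = gcm D α β x y⁻¹ * (x ≫ D.u α) := by
    rw [gcm, GrpObj.inv_comp, inv_inv]
    group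
  rw [e1]
  exact P.mul_mem hmem (hP _ hα x)

/-- A factorisation through a closed subscheme descends along the products of a chart of a group. -/
theorem factor_of_chart {X B Y Z : Over S} [GrpObj X] [Smooth X.hom] [GeometricallyConnected X.hom]
    [QuasiSeparated X.hom] (O : Over S) [QuasiCompact O.hom] [QuasiSeparated O.hom] (κ : O ⟶ X) [Etale κ.left]
    (ε : 𝟙_ (Over S) ⟶ O) (hε : ε ≫ κ = η[X]) (c : X ⊗ B ⟶ Y) (j : Z ⟶ Y) [IsClosedImmersion j.left]
    (w : (O ⊗ O) ⊗ B ⟶ Z) (hw : w ≫ j = (((κ ⊗ₘ κ) ≫ μ[X]) ▷ B) ≫ c) : ∃ l : X ⊗ B ⟶ Z, l ≫ j = c := by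
  let q : O ⊗ O ⟶ X := (κ ⊗ₘ κ) ≫ μ[X]
  haveI := Groth.Agent.WeilRes.smooth_mul X
  haveI : Etale (κ ⊗ₘ κ).left := by
    rw [tensorHom_def', Over.comp_left]
    haveI := Groth.Agent.WeilRes.etale_whiskerLeft O κ
    haveI := Groth.Agent.WeilRes.etale_whiskerRight X κ
    infer_instance
  haveI : Smooth q.left := by
    rw [Over.comp_left]
    infer_instance
  have hunit : ∀ s : S, (η[X] : 𝟙_ (Over S) ⟶ X).left s ∈ Set.range κ.left := fun s =>
    ⟨ε.left s, by rw [← Scheme.Hom.comp_apply, ← Over.comp_left, hε]⟩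
  haveI : Surjective q.left := by
    refine ⟨fun x => ?_⟩
    let T : Over S := Over.mk (X.left.fromSpecResidueField x ≫ X.hom)
    let xT : T ⟶ X := Over.homMk (X.left.fromSpecResidueField x) rfl
    haveI : Smooth (pullback.snd X.hom T.hom) := MorphismProperty.pullback_snd _ _ inferInstance
    let gT : (X ⊗ T).left ⟶ Spec (CommRingCat.of (X.left.residueField x)) := pullback.snd X.hom T.hom
    haveI : Smooth gT := MorphismProperty.pullback_snd _ _ inferInstance
    haveI : GeometricallyConnected gT := inferInstanceAs (GeometricallyConnected (pullback.snd X.hom T.hom))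
    haveI : IrreducibleSpace ↥(X ⊗ T).left := Groth.Agent.WeilRes.irreducibleSpace_of_smooth_of_field gT
    let v₁ : X ⊗ T ⟶ X := fst X T
    let v₂ : X ⊗ T ⟶ X := (fst X T)⁻¹ * (snd X T ≫ xT)
    let A : Set ↥(X ⊗ T).left := v₁.left ⁻¹' Set.range κ.left
    let B' : Set ↥(X ⊗ T).left := v₂.left ⁻¹' Set.range κ.left
    have hA : IsOpen A := κ.left.isOpenMap.isOpen_range.preimage v₁.left.continuous
    have hB : IsOpen B' := κ.left.isOpenMap.isOpen_range.preimage v₂.left.continuous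
    let pt : T.left := IsLocalRing.closedPoint (X.left.residueField x)
    let a : T ⟶ X ⊗ T := lift (toUnit T ≫ η[X]) (𝟙 T)
    let b : T ⟶ X ⊗ T := lift xT (𝟙 T)
    have haA : a.left pt ∈ A := by
      refine (show v₁.left (a.left pt) ∈ Set.range κ.left from ?_)
      rw [← Scheme.Hom.comp_apply, ← Over.comp_left, show a ≫ v₁ = toUnit T ≫ η[X] from lift_fst _ _,
        Over.comp_left, Scheme.Hom.comp_apply]
      exact hunit _
    have hbB : b.left pt ∈ B' := by
      refine (show v₂.left (b.left pt) ∈ Set.range κ.left from ?_)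
      rw [← Scheme.Hom.comp_apply, ← Over.comp_left,
        show b ≫ v₂ = toUnit T ≫ η[X] by
          simp only [v₂, b, MonObj.comp_mul, GrpObj.comp_inv, lift_fst, lift_snd_assoc, Category.id_comp,
            inv_mul_cancel]
          exact Hom.one_def,
        Over.comp_left, Scheme.Hom.comp_apply]
      exact hunit _
    obtain ⟨z, -, hzA, hzB⟩ := (IrreducibleSpace.isIrreducible_univ ↥(X ⊗ T).left).2 A B' hA hB
      ⟨_, Set.mem_univ _, haA⟩ ⟨_, Set.mem_univ _, hbB⟩
    let P := lift v₁ v₂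
    obtain ⟨w, hw⟩ := Groth.Agent.WeilRes.range_tensor_mem κ (P.left z)
      (by rw [← Scheme.Hom.comp_apply, ← Over.comp_left, lift_fst]; exact hzA)
      (by rw [← Scheme.Hom.comp_apply, ← Over.comp_left, lift_snd]; exact hzB)
    refine ⟨w, ?_⟩
    rw [Over.comp_left, Scheme.Hom.comp_apply, hw, ← Scheme.Hom.comp_apply, ← Over.comp_left,
      show P ≫ μ[X] = snd X T ≫ xT by
        rw [← Hom.mul_def]
        exact mul_inv_cancel_left _ _,
      Over.comp_left, Scheme.Hom.comp_apply]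
    show X.left.fromSpecResidueField x _ = x
    rw [Scheme.fromSpecResidueField_apply]
  haveI : QuasiCompact (O ⊗ O).hom := by
    rw [show (O ⊗ O).hom = pullback.fst O.hom O.hom ≫ O.hom from rfl]
    infer_instance
  haveI : QuasiCompact q.left := by
    haveI : QuasiCompact (q.left ≫ X.hom) := by rw [Over.w q]; infer_instance
    exact QuasiCompact.of_comp q.left X.hom
  let qB := (q ▷ B).left
  have hqB : (@Surjective ⊓ @Flat ⊓ @QuasiCompact : MorphismProperty Scheme.{u}) qB := by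
    have hpb := Groth.Agent.WeilRes.isPullback_whiskerRight B q
    exact ⟨⟨MorphismProperty.of_isPullback (P := @Surjective) hpb.flip inferInstance,
      MorphismProperty.of_isPullback (P := @Flat) hpb.flip inferInstance⟩,
      MorphismProperty.of_isPullback (P := @QuasiCompact) hpb.flip inferInstance⟩
  let i := pullback.fst c.left j.left
  haveI : IsClosedImmersion i := MorphismProperty.pullback_fst (P := @IsClosedImmersion) _ _ inferInstance
  haveI : IsSplitEpi (pullback.fst qB i) :=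
    ⟨⟨⟨pullback.lift (𝟙 _) (pullback.lift qB w.left (by
        rw [← Over.comp_left, ← Over.comp_left, hw])) (by
        rw [Category.id_comp]; exact (pullback.lift_fst _ _ _).symm), pullback.lift_fst _ _ _⟩⟩⟩
  haveI : IsIso (pullback.fst qB i) := isIso_of_mono_of_isSplitEpi _
  haveI : IsIso i := MorphismProperty.of_pullback_fst_of_descendsAlong
    (P := MorphismProperty.isomorphisms Scheme.{u}) (Q := @Surjective ⊓ @Flat ⊓ @QuasiCompact) (f := qB) hqB
    (show IsIso (pullback.fst qB i) from inferInstance)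
  have e : (inv i ≫ pullback.snd c.left j.left) ≫ j.left = c.left := by
    rw [Category.assoc, ← pullback.condition, IsIso.inv_hom_id_assoc]
  exact ⟨Over.homMk (inv i ≫ pullback.snd c.left j.left) (by rw [← Over.w j, ← Category.assoc, e, Over.w c]),
    Over.OverMorphism.ext e⟩

variable [ConnectedSpace S] {H U : Over S} [GrpObj H] [GrpObj U] (h : H ⟶ G) (hH : RedSub.IsSubgrp h)
  [Smooth H.hom] (t : D.T ⟶ H) (ht : t ≫ h = D.i)
  (hconn : ∀ s : S, ConnectedSpace ↥(Red.geomFibre s H).left) {R₀ : Set D.idx}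
  (hR₀ : ∀ (K : Type u) [Field K] [IsAlgClosed K] (ξ : Spec (CommRingCat.of K) ⟶ S), rootsAt D h ξ = R₀)
  (hfac : ∀ k ∈ R₀, ∃ w : Red.Ga S ⟶ H, w ≫ h = D.u k) (b : Sides D.P) (hb : R₀ ⊆ b.pos)
  (u : U ⟶ H) (hU : Par.IsUnipotentRadical u)
include hH ht hconn hR₀ hfac hb hU

/-- **The given unipotent radical is parametrised by the root groups.** -/
theorem exists_param : IsClosedImmersion (u ≫ h).left ∧ ∃ (m : ℕ) (e : Fin m → D.idx)
    (ψ : RedSub.pow (Red.Ga S) m ≅ U), RedSub.Enumerates R₀ e ∧ ψ.hom ≫ u ≫ h = rprod D e := by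
  haveI := hH.1
  haveI : IsImmersion h.left := hH.2
  haveI : Mono h := (Over.forget S).mono_of_mono_map (inferInstanceAs (Mono h.left))
  obtain ⟨U₀, _, u₀, hu₀, hcl, -, hrad, -, hpar⟩ := exists_unipRadical D h hH t ht hconn hR₀ hfac b hb
  haveI := hrad.2.1
  haveI := hU.2.1
  haveI : Mono u₀ := (Over.forget S).mono_of_mono_map (inferInstanceAs (Mono u₀.left))
  haveI : Mono u := (Over.forget S).mono_of_mono_map (inferInstanceAs (Mono u.left))
  haveI := hU.1
  obtain ⟨f, hf⟩ := hrad.2.2.2.2.2.2 U u hU.2.1 hU.2.2.1 hU.2.2.2.1 hU.2.2.2.2.1 hU.2.2.2.2.2.1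
  obtain ⟨g, hg⟩ := hU.2.2.2.2.2.2 U₀ u₀ hrad.2.1 hrad.2.2.1 hrad.2.2.2.1 hrad.2.2.2.2.1 hrad.2.2.2.2.2.1
  let E : U ≅ U₀ := ⟨f, g, (cancel_mono u).1 (by rw [Category.assoc, hg, hf, Category.id_comp]),
    (cancel_mono u₀).1 (by rw [Category.assoc, hf, hg, Category.id_comp])⟩
  obtain ⟨m, e, he⟩ := SplitFib.exists_enumerates R₀
  obtain ⟨ψ, hψ⟩ := hpar e he
  refine ⟨?_, m, e, ψ ≪≫ E.symm, he, ?_⟩
  · haveI := hcl
    haveI : IsIso E.hom.left := inferInstanceAs (IsIso ((Over.forget S).mapIso E).hom)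
    have he' : (u ≫ h).left = E.hom.left ≫ (u₀ ≫ h).left := by
      rw [← Over.comp_left]; exact congrArg CommaMorphism.left (by rw [← Category.assoc]; exact congrArg (· ≫ h) hf.symm)
    rw [he']
    infer_instance
  · refine Eq.trans ?_ hψ
    rw [Iso.trans_hom, Category.assoc]
    congr 1
    rw [← Category.assoc]
    exact congrArg (· ≫ h) hg

/-- The elements conjugating the radical into itself. -/
def Stab (U : Over S) [GrpObj U] (j : U ⟶ G) {X : Over S} (g : X ⟶ G) : Prop :=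
  ∀ x : X ⟶ U, ∃ x' : X ⟶ U, g * (x ≫ j) * g⁻¹ = x' ≫ j

/-- **A root element normalises the radical.** -/
theorem stab_u (hcl : ∀ a b c : D.idx, a ∈ R₀ → b ∈ R₀ → D.P.root a + D.P.root b = D.P.root c → c ∈ R₀) {β : D.idx}
    (hmix : ∀ a c : D.idx, a ∈ R₀ → D.P.root a + D.P.root β = D.P.root c → c ∈ R₀)
    (hopp : ∀ α ∈ R₀, β ≠ D.P.reflectionPerm α α) {X : Over S} (y : X ⟶ Red.Ga S) : Stab U (u ≫ h) (y ≫ D.u β) := by
  classical
  haveI := hH.1
  haveI := hU.1
  haveI : ∀ k, IsMonHom (D.u k) := isMonHom_u D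
  obtain ⟨-, m, e, ψ, he, hψ⟩ := exists_param D h hH t ht hconn hR₀ hfac b hb u hU
  let Φ : (X ⟶ U) →* (X ⟶ G) := MonoidHom.mk' (fun z => z ≫ u ≫ h) fun z z' => MonObj.mul_comp _ _ _
  have hP : ∀ k ∈ R₀, ∀ z : X ⟶ Red.Ga S, z ≫ D.u k ∈ Φ.range := fun k hk z => by
    obtain ⟨i, rfl⟩ := he.2.symm.subset hk
    obtain ⟨l, hl⟩ := exists_u_rprod D (e := e) i
    refine MonoidHom.mem_range.2 ⟨z ≫ l ≫ ψ.hom, ?_⟩
    show (z ≫ l ≫ ψ.hom) ≫ u ≫ h = _
    rw [Category.assoc, Category.assoc, hψ, hl]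
  intro x
  suffices hx : MulAut.conj (y ≫ D.u β) (x ≫ u ≫ h) ∈ Φ.range by
    obtain ⟨x', hx'⟩ := MonoidHom.mem_range.1 hx
    exact ⟨x', hx'.symm⟩
  rw [show x ≫ u ≫ h = (x ≫ ψ.inv) ≫ rprod D e by rw [← hψ, Category.assoc, Iso.inv_hom_id_assoc],
    prodMap_eq, map_list_prod, List.map_ofFn]
  refine Subgroup.list_prod_mem _ fun z hz => ?_
  obtain ⟨i, rfl⟩ := List.mem_ofFn.1 hz
  rw [Function.comp_apply, MulAut.conj_apply, ← Category.assoc]
  exact conj_u_mem D hcl (he.2.subset (Set.mem_range_self i)) hmix (hopp _ (he.2.subset (Set.mem_range_self i)))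
    Φ.range hP _ y

/-- **A subgroup whose torus and root groups normalise the radical normalises it.** -/
theorem stab_of_roots (hcl : ∀ a b c : D.idx, a ∈ R₀ → b ∈ R₀ → D.P.root a + D.P.root b = D.P.root c → c ∈ R₀)
    {H'' : Over S} [GrpObj H''] (h'' : H'' ⟶ G) [IsMonHom h''] [Mono h''] [Smooth H''.hom] [QuasiSeparated H''.hom]
    (t'' : D.T ⟶ H'') (ht'' : t'' ≫ h'' = D.i) (hconn'' : ∀ s : S, ConnectedSpace ↥(Red.geomFibre s H'').left)
    {R₁ : Set D.idx} (hR₁ : ∀ (K : Type u) [Field K] [IsAlgClosed K] (ξ : Spec (CommRingCat.of K) ⟶ S),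
      rootsAt D h'' ξ = R₁) (hfac'' : ∀ k ∈ R₁, ∃ w : Red.Ga S ⟶ H'', w ≫ h'' = D.u k)
    (hmix : ∀ β ∈ R₁, ∀ a c : D.idx, a ∈ R₀ → D.P.root a + D.P.root β = D.P.root c → c ∈ R₀)
    (hopp : ∀ β ∈ R₁, ∀ α ∈ R₀, β ≠ D.P.reflectionPerm α α) {X : Over S} (y : X ⟶ H'') :
    Stab U (u ≫ h) (y ≫ h'') := by
  classical
  haveI := hH.1
  haveI := hU.1
  haveI := SplitFib.isReduced_root D
  haveI := isMonHom_i D
  haveI : ∀ k, IsMonHom (D.u k) := isMonHom_u D
  obtain ⟨hucl, -⟩ := exists_param D h hH t ht hconn hR₀ hfac b hb u hU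
  haveI := hucl
  obtain ⟨σ⟩ := exists_sides D.P
  obtain ⟨n, m, eneg, epos, hneg, hpos, gn, gp⟩ := exists_good_sides D σ (R := Set.univ)
  rw [Set.univ_inter] at hneg hpos
  obtain ⟨n', eN, hN⟩ := SplitFib.exists_enumerates (R₁ ∩ σ.neg)
  obtain ⟨m', eP, hP⟩ := SplitFib.exists_enumerates (R₁ ∩ σ.pos)
  obtain ⟨f, g, hg, hf⟩ := exists_cell D σ h'' t'' ht'' hconn'' hR₁ hfac'' hneg hpos gn gp hN hP
  have hmul : ∀ {Y : Over S} {a c : Y ⟶ G}, Stab U (u ≫ h) a → Stab U (u ≫ h) c → Stab U (u ≫ h) (a * c) := by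
    intro Y a c ha hc x
    obtain ⟨x₁, h₁⟩ := hc x
    obtain ⟨x₂, h₂⟩ := ha x₁
    exact ⟨x₂, by rw [← h₂, ← h₁]; group⟩
  have hone : ∀ {Y : Over S}, Stab U (u ≫ h) (1 : Y ⟶ G) := fun {Y} x => ⟨x, by group⟩
  have hlist : ∀ {Y : Over S} (l : List (Y ⟶ G)), (∀ a ∈ l, Stab U (u ≫ h) a) → Stab U (u ≫ h) l.prod := by
    intro Y l
    induction l with
    | nil => intro _; rw [List.prod_nil]; exact hone
    | cons a l ih =>
      intro hl
      rw [List.prod_cons]
      exact hmul (hl a (List.mem_cons_self ..)) (ih fun c hc => hl c (List.mem_cons_of_mem _ hc))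
  have hprod : ∀ {Y : Over S} {l : ℕ} (e : Fin l → D.idx), (∀ i, e i ∈ R₁) → ∀ c : Y ⟶ RedSub.pow (Red.Ga S) l,
      Stab U (u ≫ h) (c ≫ rprod D e) := by
    intro Y l e hl c
    rw [prodMap_eq]
    refine hlist _ fun a ha => ?_
    obtain ⟨i, rfl⟩ := List.mem_ofFn.1 ha
    rw [← Category.assoc]
    exact stab_u D h hH t ht hconn hR₀ hfac b hb u hU hcl (hmix _ (hl i)) (hopp _ (hl i)) _
  have htor : ∀ {Y : Over S} (s : Y ⟶ D.T), Stab U (u ≫ h) (s ≫ D.i) := by
    intro Y s x
    obtain ⟨x', hx'⟩ := hU.2.2.1 Y (s ≫ t) x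
    refine ⟨x', ?_⟩
    rw [← Category.assoc x', ← hx', MonObj.mul_comp, MonObj.mul_comp, GrpObj.inv_comp, Category.assoc, Category.assoc,
      ht]
  have hcell : ∀ {Y : Over S} (o : Y ⟶ src D n' m'), Stab U (u ≫ h) (o ≫ f ≫ h'') := by
    intro Y o
    have e : o ≫ f ≫ h'' = ((o ≫ fst _ _) ≫ rprod D eN) *
        (((o ≫ snd _ _ ≫ fst _ _) ≫ D.i) * ((o ≫ snd _ _ ≫ snd _ _) ≫ rprod D eP)) := by
      rw [hf, RedSub.cellMap, MonObj.comp_mul, MonObj.comp_mul]
      simp only [Category.assoc]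
    rw [e]
    exact hmul (hprod eN (fun i => (hN.2.subset (Set.mem_range_self i)).1) _)
      (hmul (htor _) (hprod eP (fun i => (hP.2.subset (Set.mem_range_self i)).1) _))
  let O := src D n' m'
  haveI : IsAffineHom O.hom := by
    haveI := isAffineHom_pow (S := S) n'
    haveI := isAffineHom_src D m'
    haveI : IsAffineHom (pullback.fst (RedSub.pow (Red.Ga S) n').hom (D.T ⊗ RedSub.pow (Red.Ga S) m').hom) :=
      MorphismProperty.pullback_fst (P := @IsAffineHom) _ _ inferInstance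
    show IsAffineHom (pullback.fst _ (D.T ⊗ RedSub.pow (Red.Ga S) m').hom ≫ _)
    infer_instance
  haveI : IsOpenImmersion f.left := by
    haveI := isOpenImmersion_fst D h'' eneg epos σ hneg hpos
    haveI : IsIso g.hom.left := inferInstanceAs (IsIso ((Over.forget S).map g.hom))
    rw [← hg, Over.comp_left]
    infer_instance
  let ε : 𝟙_ (Over S) ⟶ O := lift (tup fun _ => 1) (lift 1 (tup fun _ => 1))
  have hzero : ∀ {l : ℕ} (e : Fin l → D.idx), (tup fun _ => (1 : 𝟙_ (Over S) ⟶ Red.Ga S)) ≫ rprod D e = 1 := fun e => by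
    rw [prodMap_eq]
    refine List.prod_eq_one fun z hz => ?_
    obtain ⟨i, rfl⟩ := List.mem_ofFn.1 hz
    rw [← Category.assoc, tup_prj, MonObj.one_comp]
  have hε : ε ≫ f = η[H''] := by
    rw [← cancel_mono h'', IsMonHom.one_hom, Category.assoc, hf]
    simp only [ε, RedSub.cellMap, MonObj.comp_mul, lift_fst_assoc, lift_snd_assoc, MonObj.one_comp]
    rw [show (tup fun _ => (1 : 𝟙_ (Over S) ⟶ Red.Ga S)) ≫ RedSub.prodMap (Red.Ga S) n' (fun k => D.u (eN k)) = 1
      from hzero eN, show (tup fun _ => (1 : 𝟙_ (Over S) ⟶ Red.Ga S)) ≫ RedSub.prodMap (Red.Ga S) m'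
      (fun k => D.u (eP k)) = 1 from hzero eP]
    simp only [_root_.mul_one]
    rw [MonObj.one_eq_one]
  haveI : GeometricallyConnected H''.hom := Groth.Agent.WeilRes.geometricallyConnected_of_geomPt H''.hom hconn''
  let c : H'' ⊗ U ⟶ G := (fst H'' U ≫ h'') * (snd H'' U ≫ u ≫ h) * (fst H'' U ≫ h'')⁻¹
  obtain ⟨w, hw⟩ : ∃ w, w ≫ u ≫ h = (((f ⊗ₘ f) ≫ μ[H'']) ▷ U) ≫ c := by
    obtain ⟨w, hw⟩ := hmul (hcell (fst (O ⊗ O) U ≫ fst O O)) (hcell (fst (O ⊗ O) U ≫ snd O O)) (snd (O ⊗ O) U)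
    refine ⟨w, ?_⟩
    rw [← hw]
    simp only [c, MonObj.comp_mul, GrpObj.comp_inv, whiskerRight_fst_assoc, whiskerRight_snd_assoc,
      MonObj.mul_eq_mul, MonObj.mul_comp, Category.assoc, tensorHom_fst_assoc, tensorHom_snd_assoc, O]
  obtain ⟨l, hl⟩ := factor_of_chart (B := U) O f ε hε c (u ≫ h) w hw
  intro x
  refine ⟨lift y x ≫ l, ?_⟩
  rw [Category.assoc, hl]
  simp only [c, MonObj.comp_mul, GrpObj.comp_inv, lift_fst_assoc, lift_snd_assoc]

end RootSubgrp

end
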