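import Groth.Agent.RootSubgrpLib.Structure
import Groth.Agent.SplitFibLib.Reduced
import Groth.Agent.S5522
import Groth.Agent.CartanMultLib.Central

/-!
# Solvable subgroups containing the torus: roots and structure
-/

set_option autoImplicit false
set_option linter.style.haveILetI false
set_option linter.unusedSectionVars false
set_option backward.isDefEq.respectTransparency false
set_option maxHeartbeats 1000000
set_option synthInstance.maxHeartbeats 400000

universe u

open CategoryTheory CategoryTheory.Limits MonoidalCategory CartesianMonoidalCategory AlgebraicGeometry WithConv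
open scoped MonObj
open CoactBr (sp)
open Groth.Agent.BorelLib

noncomputable section

attribute [-instance] CategoryTheory.Hom.commGroup

namespace RootSubgrp

attribute [local instance] pTop pTopTensor

open SplitCell SplitFib

variable {S : Scheme.{u}} {G : Over S} [GrpObj G] (D : Red.SplitRed G)

/-- One-sided sets of roots lie in systems of positive roots. -/
theorem exists_base_of_sides [Nonempty S] (b : Sides D.P) : ∃ B : D.P.Base, b.pos ⊆ RedSub.posRoots D.P B := by
  obtain ⟨f, hp, hn⟩ := b.regular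
  refine Groth.Agent.S5522.result D b.pos (fun i j k hi hj e => ?_) fun i hi hi' => ?_
  · refine (b.total k).resolve_right fun hk => ?_
    have h1 := hp i hi
    have h2 := hp j hj
    have h3 := hn k hk
    rw [← e, map_add] at h3
    omega
  · have h1 := hp i hi
    have h2 := hp _ hi'
    rw [RootPairing.root_reflectionPerm, RootPairing.reflection_apply_self, map_neg] at h2
    omega

/-- One side contains no opposite roots. -/
theorem asym_of_pos (b : Sides D.P) {R : Set D.idx} (h : R ⊆ b.pos) : ∀ k ∈ R, D.P.reflectionPerm k k ∉ R := by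
  obtain ⟨f, hp, -⟩ := b.regular
  intro k hk hk'
  have h1 := hp k (h hk)
  have h2 := hp _ (h hk')
  rw [RootPairing.root_reflectionPerm, RootPairing.reflection_apply_self, map_neg] at h2
  omega

variable {H : Over S} [GrpObj H] (h : H ⟶ G) [IsMonHom h] [Mono h] [Smooth H.hom] (t : D.T ⟶ H) (ht : t ≫ h = D.i)
  (hconn : ∀ s : S, ConnectedSpace ↥(Red.geomFibre s H).left)
include ht hconn

/-- The geometric fibre at a point with the facts on the ambient group. -/
theorem exists_geom_data (s : S) : IsAffine (Red.bc (Red.geomPt s) G).left ∧ Smooth (Red.bc (Red.geomPt s) G).hom ∧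
    ∃ (A : Type u) (_ : CommRing A) (_ : HopfAlgebra (AlgebraicClosure (S.residueField s)) A)
      (v : sp (AlgebraicClosure (S.residueField s)) A ≅ Red.bc (Red.geomPt s) G) (_ : IsMonHom v.hom),
      Algebra.FiniteType (AlgebraicClosure (S.residueField s)) A ∧ _root_.IsReduced A ∧
      _root_.IsPreconnected (Set.univ : Set (Pt (AlgebraicClosure (S.residueField s)) A)) ∧
      IsRedPts (AlgebraicClosure (S.residueField s)) A ∧ IsMaxTor ⊤ (Tsub D (Red.geomPt s) v) ∧
      ∃ H' : Subgroup (Pt (AlgebraicClosure (S.residueField s)) A),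
        IsClosed (H' : Set (Pt (AlgebraicClosure (S.residueField s)) A)) ∧
        _root_.IsPreconnected (H' : Set (Pt (AlgebraicClosure (S.residueField s)) A)) ∧
        Tsub D (Red.geomPt s) v ≤ H' ∧ (∀ x, ptG (Red.geomPt s) v x ∈ H' ↔ ∃ z, z ≫ h = x) ∧
        rootsIn D (Red.geomPt s) v H' = rootsAt D h (Red.geomPt s) ∧
        (Red.IsSolvableGrp (Red.geomFibre s H) ↔ IsSol H') := by
  obtain ⟨ha, hsm, A, iA, iA', v, hv, hA, hA', hc, hred, hT⟩ := exists_fibre D s
  haveI := ha; haveI := hsm; haveI := hv; haveI := hA; haveI := hA'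
  let ξ := Red.geomPt s
  haveI := Groth.Agent.DiagRep.isMonHom_bc_map ξ h
  haveI := isClosedImmersion_bc_hom D h ξ t ht hconn
  haveI := mono_bc ξ h
  haveI : Smooth (Red.bc ξ H).hom := MorphismProperty.pullback_snd (P := @Smooth) _ _ inferInstance
  haveI : ConnectedSpace (Red.bc ξ H).left := hconn s
  have hmem := fun x => mem_ptsSub_bc ξ v h x
  refine ⟨ha, hsm, A, iA, iA', v, hv, hA, hA', hc, hred, hT, ptsSub v ((Over.pullback ξ).map h), isClosed_ptsSub v,
    isPreconnected_ptsSub v, ?_, hmem, Set.ext fun k => forall_congr' fun r => hmem _, fun hs => isSol_ptsSub v hs,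
    fun ⟨n, hn⟩ => ?_⟩
  · rintro _ ⟨τ, rfl⟩
    exact (hmem _).2 ⟨τ ≫ t, by rw [Category.assoc, ht]; rfl⟩
  · let φ : RPt (Red.bc ξ H) →* Pt (AlgebraicClosure (S.residueField s)) A :=
      (ptEquiv v).symm.toMonoidHom.comp (ptHom ((Over.pullback ξ).map h))
    have hφ : Function.Injective φ := fun x y e =>
      (cancel_mono ((Over.pullback ξ).map h)).1 ((ptEquiv v).symm.injective e)
    have key : ∀ k, (derivedSeries (RPt (Red.bc ξ H)) k).map φ ≤ der (ptsSub v ((Over.pullback ξ).map h)) k := by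
      intro k
      induction k with
      | zero =>
        rw [der_zero]
        rintro _ ⟨x, -, rfl⟩
        exact ⟨x, ((ptEquiv v).apply_symm_apply _).symm⟩
      | succ k ih =>
        rw [derivedSeries_succ, Subgroup.map_commutator, der_succ]
        exact Subgroup.commutator_mono ih ih
    refine isSolvableGrp_of_points (n := n) ((Subgroup.map_eq_bot_iff_of_injective _ hφ).1 ?_)
    exact le_bot_iff.1 ((key n).trans hn.le)

variable [ConnectedSpace S] {R₀ : Set D.idx}
  (hR₀ : ∀ (K : Type u) [Field K] [IsAlgClosed K] (ξ : Spec (CommRingCat.of K) ⟶ S), rootsAt D h ξ = R₀)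
include hR₀

/-- **Solvable fibres have roots on one side.** -/
theorem exists_sides_of_solvable (s : S) (hs : Red.IsSolvableGrp (Red.geomFibre s H)) :
    ∃ b : Sides D.P, R₀ ⊆ b.pos := by
  obtain ⟨ha, hsm, A, _, _, v, hv, hA, hA', hc, hred, hT, H', hH, hHc, hTH, -, hroots, hsol⟩ :=
    exists_geom_data D h t ht hconn s
  haveI := ha; haveI := hsm; haveI := hv; haveI := hA; haveI := hA'
  rw [← hR₀ _ (Red.geomPt s), ← hroots]
  exact exists_sides_of_sol D (Red.geomPt s) v hH hTH hHc hT hc hred (hsol.1 hs)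

/-- **Fibres without opposite roots are solvable.** -/
theorem isSolvable_of_asym (hR : ∀ k ∈ R₀, D.P.reflectionPerm k k ∉ R₀) (s : S) :
    Red.IsSolvableGrp (Red.geomFibre s H) := by
  obtain ⟨ha, hsm, A, _, _, v, hv, hA, hA', hc, hred, hT, H', hH, hHc, hTH, -, hroots, hsol⟩ :=
    exists_geom_data D h t ht hconn s
  haveI := ha; haveI := hsm; haveI := hv; haveI := hA; haveI := hA'
  refine hsol.2 (isSol_of_asym D (Red.geomPt s) v hH hTH hHc hT ?_)
  rw [hroots, hR₀]
  exact hR

/-- **Roots without opposites lie on one side.** -/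
theorem exists_sides_of_asym (hR : ∀ k ∈ R₀, D.P.reflectionPerm k k ∉ R₀) : ∃ b : Sides D.P, R₀ ⊆ b.pos := by
  obtain ⟨s⟩ := (inferInstance : Nonempty S)
  exact exists_sides_of_solvable D h t ht hconn hR₀ s (isSolvable_of_asym D h t ht hconn hR₀ hR s)

/-- **The subgroup is the product of the torus and its root groups when these lie on one side.** -/
theorem exists_iso_of_pos (b : Sides D.P) (hb : R₀ ⊆ b.pos)
    (hfac : ∀ k ∈ R₀, ∃ w : Red.Ga S ⟶ H, w ≫ h = D.u k) {m : ℕ} {e : Fin m → D.idx}
    (he : RedSub.Enumerates R₀ e) : ∃ φ : D.T ⊗ RedSub.pow (Red.Ga S) m ≅ H, φ.hom ≫ h = RedSub.borelMap D e := by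
  classical
  haveI := SplitFib.isReduced_root D
  obtain ⟨n₀, m₀, eneg, epos, hneg, hpos, gn, gp⟩ := exists_good_sides D b (R := Set.univ)
  rw [Set.univ_inter] at hneg hpos
  have hN : RedSub.Enumerates (R₀ ∩ b.neg) (Fin.elim0 : Fin 0 → D.idx) :=
    ⟨fun i => i.elim0, by
      rw [Set.range_eq_empty]
      exact (Set.eq_empty_of_forall_notMem fun k hk => (disjoint_sides D b).le_bot ⟨hb hk.1, hk.2⟩).symm⟩
  have hP : RedSub.Enumerates (R₀ ∩ b.pos) e := by rwa [Set.inter_eq_left.2 hb]
  obtain ⟨f, g, hg, hf⟩ := exists_cell D b h t ht hconn hR₀ hfac hneg hpos gn gp hN hP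
  haveI := isOpenImmersion_fst D h eneg epos b hneg hpos
  haveI : Surjective (pullback.fst h (RedSub.cellMap D eneg epos)).left := by
    refine ⟨fun x => ?_⟩
    by_contra hx
    set ι₀ := (pullback.fst h (RedSub.cellMap D eneg epos)).left
    let s := H.hom x
    obtain ⟨ha, hsm, A, _, _, v, hv, hA, hA', hc, hred, hT, H', hH, hHc, hTH, hmem, hroots, -⟩ :=
      exists_geom_data D h t ht hconn s
    haveI := ha; haveI := hsm; haveI := hv; haveI := hA; haveI := hA'
    obtain ⟨p, hp⟩ : ∃ p, Red.geomPt s p = s :=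
      ⟨IsLocalRing.closedPoint _, (Scheme.Hom.comp_apply _ _ _).trans (Scheme.fromSpecResidueField_apply _ _)⟩
    obtain ⟨y, hy, -⟩ := Scheme.Pullback.exists_preimage_pullback (f := H.hom) (g := Red.geomPt s) x p hp.symm
    haveI : LocallyOfFiniteType (Red.bc (Red.geomPt s) H).hom :=
      MorphismProperty.pullback_snd (P := @LocallyOfFiniteType) _ _ inferInstance
    obtain ⟨q, hq⟩ := NRQuotLib.exists_pt_mem (X := Red.bc (Red.geomPt s) H)
      (Z := (pullback.fst H.hom (Red.geomPt s)).base ⁻¹' (Set.range ι₀)ᶜ)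
      ⟨y, show _ ∈ (Set.range ι₀)ᶜ from hy.symm ▸ hx⟩
      ((ι₀.isOpenEmbedding.isOpen_range.isClosed_compl).preimage (pullback.fst H.hom (Red.geomPt s)).continuous)
    refine hq ?_
    obtain ⟨B₀, hB₀, -, -⟩ := exists_bplus D (Red.geomPt s) v b hpos hT.tor
    have hle : H' ≤ B₀ := le_of_rootsIn D (Red.geomPt s) v hH hTH hHc
      (fun y ⟨τ, hy⟩ => (hB₀ y).2 ⟨τ, 0, by rw [uPe_zero, _root_.mul_one]; exact hy.symm⟩) fun k hk r => by
        obtain ⟨i, rfl⟩ := hpos.2.symm.subset (hb (show k ∈ R₀ by rw [← hR₀ _ (Red.geomPt s), ← hroots]; exact hk))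
        exact (hB₀ _).2 ⟨1, Pi.single i r, by rw [map_one, _root_.one_mul, uPe_single]⟩
    obtain ⟨τ, c, hτc⟩ := (hB₀ _).1 (hle ((hmem _).2 ⟨ofR (Red.geomPt s) q, rfl⟩))
    have heq : ofR (Red.geomPt s) q ≫ h = cpt D (Red.geomPt s) (fun _ => 0) τ c ≫ RedSub.cellMap D eneg epos := by
      haveI : ∀ j, IsMonHom ((fun j => D.u (eneg j)) j) := fun j => isMonHom_u D _
      refine (ptG (Red.geomPt s) v).injective (hτc.trans ?_)
      rw [cpt_cellMap, pe_zero, _root_.one_mul, map_mul]
      rfl
    let z := pullback.lift (ofR (Red.geomPt s) q) _ heq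
    refine ⟨z.left (IsLocalRing.closedPoint _), ?_⟩
    show ι₀ (z.left _) = _
    rw [← Scheme.Hom.comp_apply, show z.left ≫ ι₀ = (ofR (Red.geomPt s) q).left from
      congrArg CommaMorphism.left (pullback.lift_fst _ _ heq)]
    rfl
  haveI : IsIso (pullback.fst h (RedSub.cellMap D eneg epos)).left :=
    (isIso_iff_isOpenImmersion_and_surjective _).2 ⟨inferInstance, inferInstance⟩
  haveI : IsIso ((Over.forget S).map (pullback.fst h (RedSub.cellMap D eneg epos))) :=
    ‹IsIso (pullback.fst h (RedSub.cellMap D eneg epos)).left›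
  haveI := isIso_of_reflects_iso (pullback.fst h (RedSub.cellMap D eneg epos)) (Over.forget S)
  refine ⟨(λ_ _).symm ≪≫ g ≪≫ asIso (pullback.fst h _), ?_⟩
  simp only [Iso.trans_hom, asIso_hom, Category.assoc, Iso.symm_hom]
  rw [← Category.assoc g.hom, hg, hf]
  show (lift (toUnit _) (𝟙 _) : D.T ⊗ RedSub.pow (Red.Ga S) m ⟶ src D 0 m) ≫ RedSub.cellMap D Fin.elim0 e = _
  simp only [RedSub.cellMap, RedSub.prodMap, MonObj.comp_mul, MonObj.comp_one, lift_snd_assoc, Category.id_comp,
    _root_.one_mul]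
  rfl

omit [GrpObj G] [Smooth H.hom] [IsMonHom h] [Mono h] ht hconn [ConnectedSpace S] hR₀ in
theorem typeR_data [GrpObj G] (hH : RedSub.IsTypeR h) :
    IsMonHom h ∧ Mono h ∧ Smooth H.hom ∧ ∀ s : S, ConnectedSpace ↥(Red.geomFibre s H).left := by
  obtain ⟨⟨hm, hi⟩, hs, -, hc, -⟩ := hH
  haveI := hi; haveI := hs
  haveI : Mono h.left := inferInstance
  exact ⟨hm, (Over.forget S).mono_of_mono_map ‹Mono h.left›, hs,
    fun s => Groth.Agent.CartanMult.connectedSpace_geomFibre H s (hc s)⟩

end RootSubgrp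

end
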