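import Groth.Agent.RootSubgrpLib.Trivial
import Groth.Agent.WeilResLib.GeomConn
import Groth.Agent.SubDescLib.Main
import Groth.Agent.SplitCellLib.Closed

/-!
# Inclusions between smooth subgroups containing the torus
-/

set_option autoImplicit false
set_option linter.style.haveILetI false
set_option linter.unusedSectionVars false
set_option backward.isDefEq.respectTransparency false
set_option maxHeartbeats 1000000
set_option synthInstance.maxHeartbeats 400000

universe u

open CategoryTheory CategoryTheory.Limits MonoidalCategory CartesianMonoidalCategory AlgebraicGeometry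
open Groth.Agent.GaPts
open scoped MonObj

noncomputable section

attribute [-instance] CategoryTheory.Hom.commGroup

namespace RootSubgrp

open SplitCell SplitFib

variable {S : Scheme.{u}} [ConnectedSpace S] {G : Over S} [GrpObj G] (D : Red.SplitRed G) {H H'' : Over S} [GrpObj H]
  [GrpObj H''] (h : H ⟶ G) [IsMonHom h] [Mono h] [Smooth H.hom] [QuasiSeparated H.hom] (t : D.T ⟶ H) (ht : t ≫ h = D.i)
  (hconn : ∀ s : S, ConnectedSpace ↥(Red.geomFibre s H).left) {R₀ : Set D.idx}
  (hR₀ : ∀ (K : Type u) [Field K] [IsAlgClosed K] (ξ : Spec (CommRingCat.of K) ⟶ S), rootsAt D h ξ = R₀)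
  (hfac : ∀ k ∈ R₀, ∃ w : Red.Ga S ⟶ H, w ≫ h = D.u k) (h'' : H'' ⟶ G) [IsMonHom h''] [Mono h'']
  (t'' : D.T ⟶ H'') (ht'' : t'' ≫ h'' = D.i)
include ht hconn hR₀ hfac ht''

/-- **A subgroup is contained in another one if its root groups are.** -/
theorem exists_le (hle : ∀ k ∈ R₀, ∃ w : Red.Ga S ⟶ H'', w ≫ h'' = D.u k) : ∃ f : H ⟶ H'', f ≫ h'' = h := by
  classical
  haveI := SplitFib.isReduced_root D
  haveI := isMonHom_i D
  haveI : ∀ k, IsMonHom (D.u k) := isMonHom_u D
  obtain ⟨b⟩ := exists_sides D.P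
  obtain ⟨n, m, eneg, epos, hneg, hpos, gn, gp⟩ := exists_good_sides D b (R := Set.univ)
  rw [Set.univ_inter] at hneg hpos
  obtain ⟨n', eN, hN⟩ := SplitFib.exists_enumerates (R₀ ∩ b.neg)
  obtain ⟨m', eP, hP⟩ := SplitFib.exists_enumerates (R₀ ∩ b.pos)
  obtain ⟨f, g, hg, hf⟩ := exists_cell D b h t ht hconn hR₀ hfac hneg hpos gn gp hN hP
  obtain ⟨fN, hfN⟩ := exists_prodMap_lift h'' (fun k => D.u (eN k)) fun k =>
    hle _ (hN.2.subset (Set.mem_range_self k)).1
  obtain ⟨fP, hfP⟩ := exists_prodMap_lift h'' (fun k => D.u (eP k)) fun k =>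
    hle _ (hP.2.subset (Set.mem_range_self k)).1
  have hzero : ∀ {l : ℕ} (e : Fin l → D.idx), (tup fun _ => (1 : 𝟙_ (Over S) ⟶ Red.Ga S)) ≫ rprod D e = 1 := fun e => by
    rw [prodMap_eq]
    refine List.prod_eq_one fun z hz => ?_
    obtain ⟨j, rfl⟩ := List.mem_ofFn.1 hz
    rw [← Category.assoc, tup_prj, MonObj.one_comp]
  -- the part of the subgroup lying in the other one
  let Y : Over S := pullback h h''
  let i : Y ⟶ H := pullback.fst h h''
  obtain ⟨hY, hi⟩ := Groth.Agent.SubDesc.exists_grpObj_of_mono i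
    ⟨pullback.lift ((fst Y Y ≫ i) * (snd Y Y ≫ i)) ((fst Y Y ≫ pullback.snd h h'') * (snd Y Y ≫ pullback.snd h h''))
      (by rw [MonObj.mul_comp, MonObj.mul_comp]; simp only [i, Category.assoc, pullback.condition]),
      pullback.lift_fst _ _ _⟩
    ⟨pullback.lift 1 1 (by rw [MonObj.one_comp, MonObj.one_comp]), pullback.lift_fst _ _ _⟩
    ⟨pullback.lift i⁻¹ (pullback.snd h h'')⁻¹ (by
      rw [GrpObj.inv_comp, GrpObj.inv_comp]; simp only [i, pullback.condition]), pullback.lift_fst _ _ _⟩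
  letI := hY; haveI := hi
  let f'' : src D n' m' ⟶ H'' := (fst _ _ ≫ fN) * ((snd _ _ ≫ fst _ _ ≫ t'') * (snd _ _ ≫ snd _ _ ≫ fP))
  have hf'' : f'' ≫ h'' = RedSub.cellMap D eN eP := by
    simp only [f'', MonObj.mul_comp, Category.assoc, ht'', hfN, hfP, RedSub.cellMap, _root_.mul_assoc]
  let o : src D n' m' ⟶ Y := pullback.lift f f'' (hf.trans hf''.symm)
  let one : 𝟙_ (Over S) ⟶ src D n' m' := lift (tup fun _ => 1) (lift 1 (tup fun _ => 1))
  have hone : one ≫ f = η[H] := by
    rw [← cancel_mono h, IsMonHom.one_hom, Category.assoc, hf]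
    simp only [one, RedSub.cellMap, MonObj.comp_mul, lift_fst_assoc, lift_snd_assoc, MonObj.one_comp]
    rw [show (tup fun _ => (1 : 𝟙_ (Over S) ⟶ Red.Ga S)) ≫ RedSub.prodMap (Red.Ga S) n' (fun k => D.u (eN k)) = 1
      from hzero eN, show (tup fun _ => (1 : 𝟙_ (Over S) ⟶ Red.Ga S)) ≫ RedSub.prodMap (Red.Ga S) m'
      (fun k => D.u (eP k)) = 1 from hzero eP]
    simp only [_root_.mul_one, _root_.one_mul]
    rw [MonObj.one_eq_one]
  haveI : IsAffineHom (src D n' m').hom := by
    haveI := isAffineHom_pow (S := S) n'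
    haveI := isAffineHom_src D m'
    haveI : IsAffineHom (pullback.fst (RedSub.pow (Red.Ga S) n').hom (D.T ⊗ RedSub.pow (Red.Ga S) m').hom) :=
      MorphismProperty.pullback_fst (P := @IsAffineHom) _ _ inferInstance
    show IsAffineHom (pullback.fst _ (D.T ⊗ RedSub.pow (Red.Ga S) m').hom ≫ _)
    infer_instance
  haveI : IsOpenImmersion f.left := by
    haveI := isOpenImmersion_fst D h eneg epos b hneg hpos
    haveI : IsIso g.hom.left := inferInstanceAs (IsIso ((Over.forget S).map g.hom))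
    rw [← hg, Over.comp_left]
    infer_instance
  haveI : GeometricallyConnected H.hom := Groth.Agent.WeilRes.geometricallyConnected_of_geomPt H.hom hconn
  haveI : Mono i := inferInstanceAs (Mono (pullback.fst h h''))
  haveI := Groth.Agent.WeilRes.isIso_of_chart H Y i (src D n' m') f o (pullback.lift_fst _ _ _) one hone
  exact ⟨inv i ≫ pullback.snd h h'', by rw [Category.assoc, ← pullback.condition, IsIso.inv_hom_id_assoc]⟩

end RootSubgrp

end
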