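import Groth.Agent.RootSubgrpLib.Factor
import Groth.Agent.SplitFibLib.Levels

/-!
# Morphisms from a root group to the torus invariant under the torus are constant
-/

set_option autoImplicit false
set_option linter.style.haveILetI false
set_option linter.unusedSectionVars false
set_option backward.isDefEq.respectTransparency false
set_option maxHeartbeats 1000000
set_option synthInstance.maxHeartbeats 400000

universe u

open CategoryTheory CategoryTheory.Limits MonoidalCategory CartesianMonoidalCategory AlgebraicGeometry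
open Groth.Agent.GaPts
open Groth.Agent.RankOne (comp_ptOf eq_ptOf)
open scoped MonObj LaurentPolynomial

noncomputable section

attribute [-instance] CategoryTheory.Hom.commGroup

namespace RootSubgrp

open SplitCell

variable {S : Scheme.{u}} [Nonempty S] {G : Over S} [GrpObj G] (D : Red.SplitRed G)

/-- The character by which the torus acts on a root group. -/
abbrev alpha (k : D.idx) : D.T ⟶ Red.Gm S := D.split.hom.hom.hom ≫ Red.chi S (D.P.root k)

/-- **A morphism from a root group to the torus which is invariant under the torus is constant.** -/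
theorem eq_one_of_invariant (k : D.idx) (τ : Red.Ga S ⟶ D.T) (h0 : (1 : Red.Ga S ⟶ Red.Ga S) ≫ τ = 1)
    (hinv : ∀ (X : Over S) (s : X ⟶ D.T) (x y : X ⟶ Red.Ga S),
      Red.gaFn y = Red.gmFn (s ≫ alpha D k) * Red.gaFn x → y ≫ τ = x ≫ τ) : τ = 1 := by
  refine Groth.Agent.BigCell.eq_of_affine fun Y y hY => ?_
  haveI := hY
  let a : Spec (CommRingCat.of Γ(Y.left, ⊤)) ⟶ S := Y.left.isoSpec.inv ≫ Y.hom
  let j : aP a Γ(Y.left, ⊤) ≅ Y := Over.isoMk Y.left.isoSpec.symm (by
    show Y.left.isoSpec.inv ≫ Y.hom = Spec.map (CommRingCat.ofHom (algebraMap Γ(Y.left, ⊤) Γ(Y.left, ⊤))) ≫ a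
    rw [show CommRingCat.ofHom (algebraMap Γ(Y.left, ⊤) Γ(Y.left, ⊤)) = 𝟙 _ from rfl, Spec.map_id, Category.id_comp])
  let A := Γ(Y.left, ⊤)
  let X₁ : aP a (Polynomial A) ⟶ Red.Ga S := ptOf (cst a _ Polynomial.X)
  obtain ⟨r, hr⟩ := (cst_bijective a).2 (Red.gaFn (j.hom ≫ y))
  have hjy : j.hom ≫ y = aM a (Polynomial.aeval r) ≫ X₁ := by
    rw [comp_ptOf, aM_cst, Polynomial.aeval_X]
    exact eq_ptOf _ hr.symm
  suffices key : X₁ ≫ τ = 1 by
    rw [← cancel_epi j.hom, ← Category.assoc, hjy, Category.assoc, key, MonObj.comp_one, MonObj.comp_one,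
      MonObj.comp_one]
  let L := (Polynomial A)[T;T⁻¹]
  let φ₁ : Polynomial A →ₐ[A] L := AlgHom.mk' LaurentPolynomial.C fun r p => by
    rw [Algebra.smul_def, Algebra.smul_def, map_mul]
    rfl
  obtain ⟨f, hf⟩ : ∃ f : D.M →ₗ[ℤ] ℤ, f (D.P.root k) ≠ 0 := by
    by_contra hcon
    push_neg at hcon
    exact D.P.ne_zero k ((Module.finBasis ℤ D.M).ext_elem fun i => by
      rw [map_zero, Finsupp.zero_apply]
      exact hcon ((Module.finBasis ℤ D.M).coord i))
  set N := f (D.P.root k) with hN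
  let φ₂ : Polynomial A →ₐ[A] L := Polynomial.aeval (LaurentPolynomial.C Polynomial.X * LaurentPolynomial.T N)
  let zz := Units.map (cst a L).toMonoidHom (unitT (Polynomial A))
  let s : aP a L ⟶ D.T := cochT D f (GmPts.ptOfUnit zz)
  have hT : ∀ q : ℤ, (((unitT (Polynomial A)) ^ q : Lˣ) : L) = LaurentPolynomial.T q := fun q => by
    obtain ⟨k, rfl | rfl⟩ := Int.eq_nat_or_neg q
    · rw [zpow_natCast, Units.val_pow_eq_pow_val, unitT_val, LaurentPolynomial.T_pow, _root_.mul_one]
    · rw [zpow_neg, zpow_natCast]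
      refine Units.inv_eq_of_mul_eq_one_right ?_
      rw [Units.val_pow_eq_pow_val, unitT_val, LaurentPolynomial.T_pow, _root_.mul_one, ← LaurentPolynomial.T_add,
        add_neg_cancel, LaurentPolynomial.T_zero]
  have hσ : aM a φ₂ ≫ X₁ ≫ τ = aM a φ₁ ≫ X₁ ≫ τ := by
    rw [← Category.assoc, ← Category.assoc]
    refine hinv _ s _ _ ?_
    rw [comp_ptOf, comp_ptOf, gaFn_ptOf, gaFn_ptOf, aM_cst, aM_cst, gmFn_cochT, GmPts.unitOfPt_ptOfUnit,
      ← map_zpow, Units.coe_map]
    show cst a L (φ₂ Polynomial.X) = cst a L _ * cst a L (φ₁ Polynomial.X)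
    rw [← map_mul, hT, Polynomial.aeval_X]
    exact congrArg _ (_root_.mul_comm _ _)
  rw [← cancel_mono D.split.hom.hom.hom]
  refine MultSubLib.chars_injective (MonoidHom.ext fun m => ?_)
  rw [MonObj.one_comp, MultSubLib.chars_one, MonoidHom.one_apply]
  obtain ⟨q, hq⟩ := (cst_bijective a).2 (MultSubLib.chars ((X₁ ≫ τ) ≫ D.split.hom.hom.hom) m)
  rw [← hq]
  have hnat : ∀ {B : Type u} [CommRing B] [Algebra A B] (φ : Polynomial A →ₐ[A] B),
      MultSubLib.chars ((aM a φ ≫ X₁ ≫ τ) ≫ D.split.hom.hom.hom) m = cst a B (φ q) := fun {B} _ _ φ => by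
    rw [Category.assoc, MultSubLib.chars_comp]
    show (aM a φ).left.appTop (MultSubLib.chars _ m) = _
    rw [← hq, aM_cst]
  have hpoly : φ₂ q = φ₁ q := (cst_bijective a).1 (by rw [← hnat φ₂, ← hnat φ₁, hσ])
  have hconst : q = Polynomial.C (q.coeff 0) := Polynomial.ext fun n₀ => by
    rw [Polynomial.coeff_C]
    split_ifs with hn
    · rw [hn]
    · refine coeff_eq_zero_of_weight (N := N) (M := 0) ?_ n₀ (mul_ne_zero (by exact_mod_cast hn) hf)
      rw [LaurentPolynomial.T_zero, _root_.mul_one]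
      refine Eq.trans ?_ hpoly
      rw [Polynomial.aeval_def]
      rfl
  have hzero : aM a (Polynomial.aeval (0 : A)) ≫ X₁ ≫ τ = 1 := by
    rw [← Category.assoc, comp_ptOf, aM_cst, Polynomial.aeval_X, map_zero, SplitFib.ptOf_zero', ←
      MonObj.comp_one (aM a (Polynomial.aeval (0 : A)) ≫ X₁), Category.assoc, h0, MonObj.comp_one]
  have hc : q.coeff 0 = 1 := (cst_bijective a).1 (by
    have h1 := hnat (Polynomial.aeval (0 : A))
    rw [hzero, MonObj.one_comp, MultSubLib.chars_one, MonoidHom.one_apply, hconst, Polynomial.aeval_C] at h1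
    rw [map_one]
    exact h1.symm)
  rw [hconst, hc, map_one, map_one]

end RootSubgrp
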