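import Groth.Agent.RootSubgrpLib.Trivial
import Groth.Agent.RootSubgrpLib.Weight
import Groth.Agent.UnipTorusLib.Trivial
import Groth.Agent.BorelLib.RedUnip
import Groth.Agent.BorelLib.RedPtsMore

/-!
# Unipotent subgroups normalised by the torus
-/

set_option autoImplicit false
set_option linter.style.haveILetI false
set_option linter.unusedSectionVars false
set_option backward.isDefEq.respectTransparency false
set_option maxHeartbeats 1000000
set_option synthInstance.maxHeartbeats 400000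

universe u

open CategoryTheory CategoryTheory.Limits MonoidalCategory CartesianMonoidalCategory AlgebraicGeometry WithConv
open scoped MonObj commutatorElement
open CoactBr (sp)
open Groth.Agent
open Groth.Agent.BorelLib

noncomputable section

attribute [-instance] CategoryTheory.Hom.commGroup

namespace RootSubgrp

attribute [local instance] pTop pTopTensor

open SplitCell SplitFib UnipTorus

variable {S : Scheme.{u}} {G U : Over S} [GrpObj G] [GrpObj U] (D : Red.SplitRed G) (j : U ⟶ G)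

/-- The product map of the semidirect product. -/
def semiHom : semi U D.T ⟶ G := emb D.i j ≫ fst G D.T

theorem pair_semiHom {X : Over S} (x : X ⟶ U) (s : X ⟶ D.T) :
    pair x s ≫ semiHom D j = (x ≫ j) * (s ≫ D.i) := by
  rw [semiHom, reassoc_of% lift_emb, lift_fst]

/-- The torus component. -/
def semiSnd (U : Over S) : semi U D.T ⟶ D.T := snd U D.T

variable [GrpObj (semi U D.T)] [hE : IsMonHom (emb D.i j)]

theorem isMonHom_semiHom : IsMonHom (semiHom D j) :=
  Groth.Agent.BigCell.isMonHom_of_mul' _ fun X x y => by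
    rw [semiHom, ← Category.assoc, MonObj.mul_comp x y (emb D.i j)]
    rw [show (x ≫ emb D.i j) * (y ≫ emb D.i j) = lift ((x ≫ emb D.i j ≫ fst G D.T) * (y ≫ emb D.i j ≫ fst G D.T))
      ((x ≫ emb D.i j ≫ snd G D.T) * (y ≫ emb D.i j ≫ snd G D.T)) from by
        rw [← lift_mul]; simp only [← Category.assoc, lift_comp_fst_snd], lift_fst]

include j hE in
theorem mul_semiSnd {X : Over S} (x y : X ⟶ semi U D.T) :
    (x * y) ≫ semiSnd D U = (x ≫ semiSnd D U) * (y ≫ semiSnd D U) := by
  rw [show semiSnd D U = emb D.i j ≫ snd G D.T from (lift_snd _ _).symm, ← Category.assoc, MonObj.mul_comp x y (emb D.i j)]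
  rw [show (x ≫ emb D.i j) * (y ≫ emb D.i j) = lift ((x ≫ emb D.i j ≫ fst G D.T) * (y ≫ emb D.i j ≫ fst G D.T))
      ((x ≫ emb D.i j ≫ snd G D.T) * (y ≫ emb D.i j ≫ snd G D.T)) from by
        rw [← lift_mul]; simp only [← Category.assoc, lift_comp_fst_snd], lift_snd]

variable (hU : RedSub.IsSubgrp j) [Smooth U.hom]
    (hfib : ∀ s : S, ConnectedSpace ↥(Red.geomFibre s U).left ∧
      Red.HasNoSubtorus (AlgebraicClosure (S.residueField s)) (Red.geomFibre s U))
    (hnorm : ∀ (X : Over S) (x : X ⟶ D.T) (y : X ⟶ U), ∃ y' : X ⟶ U, (x ≫ D.i) * (y ≫ j) * (x ≫ D.i)⁻¹ = y' ≫ j)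
include hU hfib hnorm

theorem mono_semiHom : Mono (semiHom D j) := by
  haveI := hU.1; haveI := hU.2
  haveI := isMonHom_i D
  haveI : Mono j := (Over.forget S).mono_of_mono_map (inferInstanceAs (Mono j.left))
  refine ⟨fun {X} a b e => ?_⟩
  rw [← eq_pair a, ← eq_pair b, pair_semiHom, pair_semiHom] at e
  set u₁ := a ≫ fst U D.T
  set t₁ := a ≫ snd U D.T
  set u₂ := b ≫ fst U D.T
  set t₂ := b ≫ snd U D.T
  have h : (u₂⁻¹ * u₁) ≫ j = (t₂ * t₁⁻¹) ≫ D.i := by
    rw [MonObj.mul_comp, MonObj.mul_comp, GrpObj.inv_comp, GrpObj.inv_comp, inv_mul_eq_iff_eq_mul,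
      ← _root_.mul_assoc, eq_mul_inv_iff_mul_eq]
    exact e
  have hu := UnipTorus.eq_one_of_commute D.reductive D.i D.maximalTorus j hU hfib hnorm (u₂⁻¹ * u₁) fun X' f s => by
    rw [h, ← Category.assoc, ← MonObj.mul_comp, ← MonObj.mul_comp, RCentre.commute_torus D.maximalTorus.2.2.1]
  rw [hu, MonObj.one_comp] at h
  haveI : Mono D.i := (Over.forget S).mono_of_mono_map (haveI := D.maximalTorus.2.1; inferInstanceAs (Mono D.i.left))
  have ht : t₂ * t₁⁻¹ = 1 := (cancel_mono D.i).1 (by rw [← h, MonObj.one_comp])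
  rw [← eq_pair a, ← eq_pair b]
  show pair u₁ t₁ = pair u₂ t₂
  rw [inv_mul_eq_one.1 hu, mul_inv_eq_one.1 ht]

theorem semi_data : Smooth (semi U D.T).hom ∧ ∀ s : S, ConnectedSpace ↥(Red.geomFibre s (semi U D.T)).left := by
  have hTt := D.maximalTorus.2.2.1
  haveI : Smooth D.T.hom := MaxTorConj.smooth_of_isTorus hTt
  haveI : GeometricallyConnected U.hom :=
    WeilRes.geometricallyConnected_of_geomPt U.hom fun s => (hfib s).1
  haveI : GeometricallyConnected D.T.hom := WeilRes.geometricallyConnected_of_geomPt D.T.hom fun s => by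
    haveI : LocallyOfFiniteType (Red.geomFibre s D.T).hom :=
      MorphismProperty.pullback_snd (P := @LocallyOfFiniteType) _ _ inferInstance
    exact (AlbLib.smooth_connected_of_isTorus (RedRank.isTorus_bc hTt (Red.geomPt s))).2
  haveI hPgc : GeometricallyConnected (semi U D.T).hom := by
    change GeometricallyConnected (pullback.fst U.hom D.T.hom ≫ U.hom)
    exact GeometricallyConnected.comp _ _
  haveI hPsm : Smooth (semi U D.T).hom := by
    change Smooth (pullback.fst U.hom D.T.hom ≫ U.hom)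
    infer_instance
  exact ⟨hPsm, fun s => inferInstanceAs (ConnectedSpace ↥(pullback (semi U D.T).hom (Red.geomPt s)))⟩

theorem semi_inT : inT D.T U ≫ semiHom D j = D.i := by
  haveI := hU.1
  rw [inT, pair_semiHom, MonObj.one_comp, _root_.one_mul, Category.id_comp]

/-- **The root homomorphisms into the semidirect product land in the unipotent subgroup.** -/
theorem exists_factor_of_semi [Nonempty S] {k : D.idx} (w : Red.Ga S ⟶ semi U D.T) (hw : w ≫ semiHom D j = D.u k) :
    ∃ x : Red.Ga S ⟶ U, x ≫ j = D.u k := by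
  haveI := hU.1
  haveI := isMonHom_u D k
  haveI := isMonHom_i D
  haveI := mono_semiHom D j hU hfib hnorm
  haveI := isMonHom_semiHom D j
  have hτ : w ≫ semiSnd D U = 1 := by
    refine eq_one_of_invariant D k _ ?_ fun X s x y e => ?_
    · have h1 : (1 : Red.Ga S ⟶ Red.Ga S) ≫ w = 1 := by
        rw [← cancel_mono (semiHom D j), Category.assoc, hw, MonObj.one_comp, MonObj.one_comp]
      rw [← Category.assoc, h1]
      have h2 := mul_semiSnd D j (1 : Red.Ga S ⟶ semi U D.T) 1
      rw [_root_.one_mul] at h2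
      exact mul_eq_left.1 h2.symm
    · obtain ⟨y', hy', he⟩ := (D.rootHom k).2.2 X s x
      obtain rfl : y = y' := Groth.Agent.GaPts.gaFn_injective (e.trans he.symm)
      have h1 : y ≫ w = (s ≫ inT D.T U) * (x ≫ w) * (s ≫ inT D.T U)⁻¹ := by
        rw [← cancel_mono (semiHom D j), MonObj.mul_comp, MonObj.mul_comp, GrpObj.inv_comp, Category.assoc,
          Category.assoc, Category.assoc, semi_inT D j hU hfib hnorm, hw, hy']
      have h2 : (s ≫ inT D.T U)⁻¹ ≫ semiSnd D U = ((s ≫ inT D.T U) ≫ semiSnd D U)⁻¹ := eq_inv_of_mul_eq_one_left (by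
        rw [← mul_semiSnd D j, inv_mul_cancel]
        have h2 := mul_semiSnd D j (1 : X ⟶ semi U D.T) 1
        rw [_root_.one_mul] at h2
        exact mul_eq_left.1 h2.symm)
      rw [← Category.assoc, h1, mul_semiSnd D j, mul_semiSnd D j, h2, ← Category.assoc,
        RCentre.commute_torus D.maximalTorus.2.2.1 _ ((x ≫ w) ≫ semiSnd D U), mul_inv_cancel_right]
  refine ⟨w ≫ fst U D.T, ?_⟩
  rw [← hw]
  conv_rhs => rw [← eq_pair w, pair_semiHom, show w ≫ snd U D.T = 1 from hτ, MonObj.one_comp, _root_.mul_one]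

/-- **Some system of positive roots contains the roots.** -/
theorem exists_sides_semi [ConnectedSpace S] {R₀ : Set D.idx}
    (hR₀ : ∀ (K : Type u) [Field K] [IsAlgClosed K] (ξ : Spec (CommRingCat.of K) ⟶ S),
      rootsAt D (semiHom D j) ξ = R₀) : ∃ b : Sides D.P, R₀ ⊆ b.pos := by
  haveI := hU.1; haveI := hU.2
  haveI := isMonHom_i D
  haveI := isMonHom_semiHom D j
  haveI := mono_semiHom D j hU hfib hnorm
  obtain ⟨hsm', hconn⟩ := semi_data D j hU hfib hnorm
  haveI := hsm'
  obtain ⟨s⟩ := (inferInstance : Nonempty S)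
  obtain ⟨ha, hsm, A, _, _, v, hv, hA, hA', hc, hred, hT, H', hH, hHc, hTH, hmem, hroots, -⟩ :=
    exists_geom_data D (semiHom D j) (inT D.T U) (semi_inT D j hU hfib hnorm) hconn s
  haveI := ha; haveI := hsm; haveI := hv; haveI := hA; haveI := hA'
  let ξ := Red.geomPt s
  haveI := Groth.Agent.DiagRep.isMonHom_bc_map ξ j
  haveI : Mono j := (Over.forget S).mono_of_mono_map (inferInstanceAs (Mono j.left))
  haveI := mono_bc ξ j
  haveI : Smooth (Red.bc ξ U).hom := MorphismProperty.pullback_snd (P := @Smooth) _ _ inferInstance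
  haveI : ConnectedSpace (Red.bc ξ U).left := (hfib s).1
  haveI : IsImmersion ((Over.pullback ξ).map j).left :=
    MorphismProperty.of_isPullback (P := @IsImmersion) (isPullback_bc_map ξ j) inferInstance
  haveI := S0351.result _ (Red.bc ξ U) (Red.bc ξ G) ((Over.pullback ξ).map j)
  have hu := uni_of_hasNoSubtorus v ((Over.pullback ξ).map j) (hfib s).2
  obtain ⟨n, hn⟩ := isSol_of_uni (isClosed_ptsSub v) (isPreconnected_ptsSub v) hu
  set U' := ptsSub v ((Over.pullback ξ).map j)
  have h1 : ⁅H', H'⁆ ≤ U' := by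
    rw [Subgroup.commutator_le]
    intro p hp q hq
    obtain ⟨p₀, rfl⟩ := (ptG ξ v).surjective p
    obtain ⟨q₀, rfl⟩ := (ptG ξ v).surjective q
    obtain ⟨z, rfl⟩ := (hmem _).1 hp
    obtain ⟨z', rfl⟩ := (hmem _).1 hq
    rw [show ⁅ptG ξ v (z ≫ semiHom D j), ptG ξ v (z' ≫ semiHom D j)⁆ = ptG ξ v (⁅z, z'⁆ ≫ semiHom D j) from by
      simp only [commutatorElement_def, MonObj.mul_comp, GrpObj.inv_comp, map_mul, map_inv]]
    refine (SplitFib.mem_ptsSub_bc ξ v j _).2 ⟨⁅z, z'⁆ ≫ fst U D.T, ?_⟩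
    have hsnd : ⁅z, z'⁆ ≫ snd U D.T = 1 := by
      let F : (aP ξ (AlgebraicClosure (S.residueField s)) ⟶ semi U D.T) →*
          (aP ξ (AlgebraicClosure (S.residueField s)) ⟶ D.T) :=
        MonoidHom.mk' (fun x => x ≫ semiSnd D U) (mul_semiSnd D j)
      show F ⁅z, z'⁆ = 1
      rw [map_commutatorElement, commutatorElement_eq_one_iff_mul_comm, RCentre.commute_torus D.maximalTorus.2.2.1]
    conv_rhs => rw [← eq_pair ⁅z, z'⁆, pair_semiHom, hsnd, MonObj.one_comp, _root_.mul_one]
  have key : ∀ k, der H' (k + 1) ≤ der U' k := fun k => by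
    induction k with
    | zero => exact h1
    | succ k ih => exact Subgroup.commutator_mono ih ih
  have hsol : IsSol H' := ⟨n + 1, le_bot_iff.1 ((key n).trans hn.le)⟩
  rw [← hR₀ _ ξ, ← hroots]
  exact exists_sides_of_sol D ξ v hH hTH hHc hT hc hred hsol

omit [GrpObj (semi U D.T)] hE in
/-- **A unipotent subgroup normalised by the torus is the product of its root groups.** -/
theorem unip_structure [ConnectedSpace S] :
    (∃ b : Sides D.P, {a : D.idx | ∃ v : Red.Ga S ⟶ U, v ≫ j = D.u a} ⊆ b.pos) ∧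
      ∀ {m : ℕ} (e : Fin m → D.idx), RedSub.Enumerates {a : D.idx | ∃ v : Red.Ga S ⟶ U, v ≫ j = D.u a} e →
        ∃ ψ : RedSub.pow (Red.Ga S) m ≅ U, ψ.hom ≫ j = RedSub.prodMap (Red.Ga S) m (fun k => D.u (e k)) := by
  haveI := hU.1; haveI := hU.2
  haveI := isMonHom_i D
  haveI : ∀ k, IsMonHom (D.u k) := isMonHom_u D
  haveI : Mono j := (Over.forget S).mono_of_mono_map (inferInstanceAs (Mono j.left))
  obtain ⟨P, hP⟩ := exists_semiProd D.i j hnorm
  letI := P; haveI := hP
  haveI := isMonHom_semiHom D j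
  haveI := mono_semiHom D j hU hfib hnorm
  obtain ⟨hsm, hconn⟩ := semi_data D j hU hfib hnorm
  haveI := hsm
  have ht := semi_inT D j hU hfib hnorm
  obtain ⟨R₀, hR₀, hiff⟩ := exists_roots D (semiHom D j) (inT D.T U) ht hconn
  have hset : {a : D.idx | ∃ v : Red.Ga S ⟶ U, v ≫ j = D.u a} = R₀ := Set.ext fun a => by
    constructor
    · rintro ⟨x, hx⟩
      exact (hiff a).2 ⟨pair x 1, by rw [pair_semiHom, MonObj.one_comp, _root_.mul_one, hx]⟩
    · intro ha
      obtain ⟨w, hw⟩ := (hiff a).1 ha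
      exact exists_factor_of_semi D j hU hfib hnorm w hw
  obtain ⟨b, hb⟩ := exists_sides_semi D j hU hfib hnorm hR₀
  rw [hset]
  refine ⟨⟨b, hb⟩, fun {m} e he => ?_⟩
  obtain ⟨φ, hφ⟩ := exists_iso_of_pos D (semiHom D j) (inT D.T U) ht hconn hR₀ b hb (fun k hk => (hiff k).1 hk) he
  obtain ⟨f, hf⟩ := exists_prodMap_lift j (fun k => D.u (e k)) fun k =>
    hset.symm.subset (he.2.subset (Set.mem_range_self k))
  let g : U ⟶ RedSub.pow (Red.Ga S) m := pair (𝟙 U) 1 ≫ φ.inv ≫ snd _ _
  refine ⟨⟨f, g, ?_, ?_⟩, hf⟩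
  · have h1 : f ≫ pair (𝟙 U) (1 : U ⟶ D.T) = lift 1 (𝟙 _) ≫ φ.hom := by
      rw [← cancel_mono (semiHom D j), Category.assoc, Category.assoc, hφ, pair_semiHom, Category.id_comp,
        MonObj.one_comp, _root_.mul_one, hf, RedSub.borelMap, MonObj.comp_mul, lift_fst_assoc, lift_snd_assoc,
        MonObj.one_comp, _root_.one_mul, Category.id_comp]
    rw [reassoc_of% h1, Iso.hom_inv_id_assoc, lift_snd]
  · set z := pair (𝟙 U) (1 : U ⟶ D.T) ≫ φ.inv with hz
    have hg : g = z ≫ snd _ _ := (Category.assoc _ _ _).symm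
    obtain ⟨x, hx⟩ := hnorm U (z ≫ fst _ _) (g ≫ f)
    have hz' : z ≫ φ.hom = pair (𝟙 U) (1 : U ⟶ D.T) := by rw [hz, Category.assoc, Iso.inv_hom_id, Category.comp_id]
    have h2 : z ≫ φ.hom = pair x (z ≫ fst _ _) := by
      rw [← cancel_mono (semiHom D j), Category.assoc, hφ, pair_semiHom, ← hx, Category.assoc g, hf, hg,
        RedSub.borelMap, MonObj.comp_mul, inv_mul_cancel_right]
      simp only [Category.assoc]
    rw [hz'] at h2
    have hτ : z ≫ fst _ _ = 1 := by
      have := congrArg (fun q => q ≫ snd U D.T) h2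
      simpa [UnipTorus.pair, semi] using this.symm
    have hx1 : x = 𝟙 U := by
      have := congrArg (fun q => q ≫ fst U D.T) h2
      simpa [UnipTorus.pair, semi] using this.symm
    rw [← cancel_mono j]
    rw [hτ, MonObj.one_comp, _root_.one_mul, inv_one, _root_.mul_one, hx1] at hx
    exact hx

end RootSubgrp

end
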