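import Groth.Agent.RootSubgrpLib.LineChart
import Groth.Agent.S5518

/-!
# Homomorphisms out of a split reductive group are determined on the torus and the simple root groups
-/

set_option autoImplicit false
set_option linter.style.haveILetI false
set_option linter.unusedSectionVars false
set_option backward.isDefEq.respectTransparency false
set_option maxHeartbeats 1000000
set_option synthInstance.maxHeartbeats 400000

universe u

open CategoryTheory CategoryTheory.Limits MonoidalCategory CartesianMonoidalCategory AlgebraicGeometry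
open Groth.Agent.GaPts
open Groth.Agent
open scoped MonObj

noncomputable section

attribute [-instance] CategoryTheory.Hom.commGroup

namespace RootSubgrp

open SplitCell SplitFib

section

variable {S : Scheme.{u}} [Nonempty S] {G : Over S} [GrpObj G] {D : Red.SplitRed G}

/-- **Conjugating a root homomorphism by a reflection representative.** -/
theorem exists_conj_scale (a j : D.idx) (n : 𝟙_ (Over S) ⟶ G)
    (hn : ∀ (X : Over S) (t : X ⟶ D.T), (toUnit X ≫ n) * (t ≫ D.i) * (toUnit X ≫ n)⁻¹ =
      t ≫ D.split.hom.hom.hom ≫ Red.DSmap S (D.P.reflection a).toLinearMap.toAddMonoidHom ≫ D.split.inv.hom.hom ≫ D.i) :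
    ∃ w : Red.Ga S ⟶ Red.Ga S, D.u (D.P.reflectionPerm a j) =
      w ≫ ((toUnit (Red.Ga S) ≫ n) * D.u j * (toUnit (Red.Ga S) ≫ n)⁻¹) := by
  haveI := isMonHom_u D j
  haveI := mono_u D j
  let v : Red.Ga S ⟶ G := (toUnit (Red.Ga S) ≫ n) * D.u j * (toUnit (Red.Ga S) ≫ n)⁻¹
  have hv0 : ∀ {X : Over S} (x : X ⟶ Red.Ga S), x ≫ v = (toUnit X ≫ n) * (x ≫ D.u j) * (toUnit X ≫ n)⁻¹ := fun x => by
    simp only [v, MonObj.comp_mul, GrpObj.comp_inv, ← Category.assoc, Subsingleton.elim (x ≫ toUnit _) (toUnit _)]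
  haveI : IsMonHom v := Groth.Agent.BigCell.isMonHom_of_mul' v fun X x y => by
    have e2 : (x * y) ≫ D.u j = (x ≫ D.u j) * (y ≫ D.u j) := MonObj.mul_comp x y _
    rw [hv0, hv0, hv0, e2]
    group
  haveI : Mono v := ⟨fun {X} x y e => by
    rw [hv0, hv0] at e
    exact (cancel_mono (D.u j)).1 (mul_left_cancel (mul_right_cancel e))⟩
  obtain ⟨L, hL⟩ := exists_line D (D.P.reflectionPerm a j)
  obtain ⟨LC⟩ := exists_lineCent D L
  obtain ⟨w, hw⟩ := LC.exists_scale hL v fun X s x y e => by
    let s' : X ⟶ D.T :=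
      s ≫ D.split.hom.hom.hom ≫ Red.DSmap S (D.P.reflection a).toLinearMap.toAddMonoidHom ≫ D.split.inv.hom.hom
    have hs' : MultSubLib.chars (s' ≫ D.split.hom.hom.hom) =
        (MultSubLib.chars (s ≫ D.split.hom.hom.hom)).comp (D.P.reflection a).toLinearMap.toAddMonoidHom.toMultiplicative := by
      rw [← Groth.Agent.DSImg.chars_comp_DSmap]
      congr 1
      simp only [s', Category.assoc]
      rw [show D.split.inv.hom.hom ≫ D.split.hom.hom.hom = 𝟙 _ from by
        change (D.split.inv ≫ D.split.hom).hom.hom = _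
        rw [D.split.inv_hom_id]; rfl]
      simp
    have hback : (toUnit X ≫ n) * (s' ≫ D.i) * (toUnit X ≫ n)⁻¹ = s ≫ D.i := by
      rw [hn]
      have e1 : ((s' ≫ D.split.hom.hom.hom) ≫ Red.DSmap S (D.P.reflection a).toLinearMap.toAddMonoidHom) =
          s ≫ D.split.hom.hom.hom := by
        refine MultSubLib.chars_injective ?_
        rw [Groth.Agent.DSImg.chars_comp_DSmap, hs']
        refine MonoidHom.ext fun m => ?_
        obtain ⟨m, rfl⟩ := Multiplicative.ofAdd.surjective m
        show MultSubLib.chars _ (Multiplicative.ofAdd (D.P.reflection a (D.P.reflection a m))) = _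
        rw [D.P.reflection_same]
      rw [← Category.assoc s', ← Category.assoc (s' ≫ _), e1, Category.assoc, split_hom_inv D]
    obtain ⟨y', hy', he'⟩ := (D.rootHom j).2.2 X s' x
    have hyy : y = y' := gaFn_injective (by
      show Red.gaFn y = Red.gaFn y'
      rw [e, he', ← Category.assoc, ← Category.assoc, gmFn_chi, gmFn_chi, hs',
        RootPairing.root_reflectionPerm]
      rfl)
    subst hyy
    rw [hv0, hv0, hy', ← hback]
    group
  exact ⟨w, hw.symm⟩

end

variable {S : Scheme.{u}} {G H : Over S} [GrpObj G] [GrpObj H] (D : Red.SplitRed G) (b : D.P.Base) (f g : G ⟶ H)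
  [IsMonHom f] [IsMonHom g] (hT : D.i ≫ f = D.i ≫ g)
  (hU : ∀ a : D.idx, a ∈ b.support → D.u a ≫ f = D.u a ≫ g ∧
      D.u (D.P.reflectionPerm a a) ≫ f = D.u (D.P.reflectionPerm a a) ≫ g)
include hT hU

/-- **All root groups.** -/
theorem eq_on_roots [Nonempty S] (i : D.idx) : D.u i ≫ f = D.u i ≫ g := by
  haveI := SplitFib.isReduced_root D
  suffices h : D.u i ≫ f = D.u i ≫ g ∧ D.u (D.P.reflectionPerm i i) ≫ f = D.u (D.P.reflectionPerm i i) ≫ g from h.1
  refine b.induction_reflect i (p := fun i => D.u i ≫ f = D.u i ≫ g ∧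
    D.u (D.P.reflectionPerm i i) ≫ f = D.u (D.P.reflectionPerm i i) ≫ g) (fun i h => ⟨h.2, ?_⟩) hU
    fun i j h hj => ?_
  · rw [show D.P.reflectionPerm (D.P.reflectionPerm i i) (D.P.reflectionPerm i i) = i from D.P.root.injective (by
      rw [root_neg, root_neg, neg_neg])]
    exact h.1
  · obtain ⟨n, hn⟩ := D.refl j
    obtain ⟨L, hL⟩ := exists_line D j
    obtain ⟨LC⟩ := exists_lineCent D L
    obtain ⟨z, hz⟩ := LC.exists_refl hL n hn
    have hnfg : n ≫ f = n ≫ g := by
      rw [← hz, Category.assoc, Category.assoc, LC.hom_eq hL f g hT (hU j hj).1 (hU j hj).2]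
    have step : ∀ k : D.idx, D.u k ≫ f = D.u k ≫ g →
        D.u (D.P.reflectionPerm j k) ≫ f = D.u (D.P.reflectionPerm j k) ≫ g := fun k hk => by
      obtain ⟨w, hw⟩ := exists_conj_scale j k n hn
      rw [hw, Category.assoc, Category.assoc]
      congr 1
      simp only [MonObj.mul_comp, GrpObj.inv_comp, Category.assoc, hk, hnfg]
    refine ⟨step i h.1, ?_⟩
    rw [show D.P.reflectionPerm (D.P.reflectionPerm j i) (D.P.reflectionPerm j i) =
      D.P.reflectionPerm j (D.P.reflectionPerm i i) from D.P.root.injective (by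
        rw [root_neg, RootPairing.root_reflectionPerm, RootPairing.root_reflectionPerm, root_neg, map_neg])]
    exact step _ h.2

/-- **Two homomorphisms agreeing on the torus and the simple root groups and their opposites agree.** -/
theorem hom_eq_of_simple : f = g := by
  rcases isEmpty_or_nonempty S with hS | hS
  · refine Over.OverMorphism.ext ?_
    haveI : IsEmpty G.left := ⟨fun x => hS.false (G.hom x)⟩
    exact (isInitialOfIsEmpty (X := G.left)).hom_ext _ _
  haveI := hS
  haveI : ∀ k, IsMonHom (D.u k) := isMonHom_u D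
  obtain ⟨n, m, eneg, epos, hneg, hpos⟩ := exists_enum D (sidesOfBase D.P b)
  have hprod : ∀ {l : ℕ} (e : Fin l → D.idx), rprod D e ≫ f = rprod D e ≫ g := fun {l} e => by
    have key : ∀ (l : ℕ) (p : Fin l → (Red.Ga S ⟶ G)), (∀ i, p i ≫ f = p i ≫ g) →
        RedSub.prodMap (Red.Ga S) l p ≫ f = RedSub.prodMap (Red.Ga S) l p ≫ g := by
      intro l
      induction l with
      | zero =>
        intro p _
        show (1 : _ ⟶ G) ≫ f = 1 ≫ g
        rw [MonObj.one_comp, MonObj.one_comp]
      | succ l ih =>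
        intro p hp
        show ((fst _ _ ≫ p 0) * (snd _ _ ≫ RedSub.prodMap (Red.Ga S) l fun k => p k.succ)) ≫ f =
          ((fst _ _ ≫ p 0) * (snd _ _ ≫ RedSub.prodMap (Red.Ga S) l fun k => p k.succ)) ≫ g
        simp only [MonObj.mul_comp, Category.assoc, hp 0, ih _ fun k => hp k.succ]
    exact key l _ fun i => eq_on_roots D b f g hT hU (e i)
  have hc : RedSub.cellMap D eneg epos ≫ f = RedSub.cellMap D eneg epos ≫ g := by
    simp only [RedSub.cellMap, MonObj.mul_comp, Category.assoc]
    rw [show RedSub.prodMap (Red.Ga S) n (fun k => D.u (eneg k)) ≫ f = _ ≫ g from hprod eneg,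
      show RedSub.prodMap (Red.Ga S) m (fun k => D.u (epos k)) ≫ f = _ ≫ g from hprod epos, hT]
  obtain ⟨φ, -, hφ⟩ := S5518.result D b eneg epos hneg hpos (RedSub.cellMap D eneg epos ≫ f) fun X x y z e => by
    rw [← Category.assoc, e, MonObj.mul_comp, Category.assoc, Category.assoc]
  exact (hφ f ⟨inferInstance, rfl⟩).trans (hφ g ⟨inferInstance, hc.symm⟩).symm

end RootSubgrp

end
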