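import Groth.Agent.RootSubgrpLib.Factor
import Groth.Agent.AxGrothLib.Main
import Groth.Agent.SplitFibLib.BorelGrp
import Groth.Agent.SplitFibLib.Levels
import Groth.Agent.MultEqLib.Props

/-!
# The structure of a smooth subgroup containing the split torus
-/

set_option autoImplicit false
set_option linter.style.haveILetI false
set_option linter.unusedSectionVars false
set_option backward.isDefEq.respectTransparency false
set_option maxHeartbeats 1000000
set_option synthInstance.maxHeartbeats 400000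

universe u

open CategoryTheory CategoryTheory.Limits MonoidalCategory CartesianMonoidalCategory AlgebraicGeometry
open Groth.Agent.GaPts
open Groth.Agent.RankOne (comp_ptOf)
open scoped MonObj

noncomputable section

attribute [-instance] CategoryTheory.Hom.commGroup

namespace RootSubgrp

open SplitCell SplitFib

variable {S : Scheme.{u}} {G : Over S} [GrpObj G] (D : Red.SplitRed G) (b : Sides D.P)

/-- A single root homomorphism factors through a product containing it. -/
theorem exists_u_rprod {m : ℕ} {e : Fin m → D.idx} (i : Fin m) :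
    ∃ y : Red.Ga S ⟶ RedSub.pow (Red.Ga S) m, y ≫ rprod D e = D.u (e i) := by
  classical
  refine ⟨tup fun j => if j = i then 𝟙 _ else 1, ?_⟩
  rw [prodMap_eq, prod_ofFn_single _ i]
  · rw [← Category.assoc, tup_prj, if_pos rfl, Category.id_comp]
  · intro j hj
    haveI := isMonHom_u D (e j)
    rw [← Category.assoc, tup_prj, if_neg hj, MonObj.one_comp]

/-- Products of positive root groups in another order lie in the positive unipotent subgroup. -/
theorem exists_reorder {l m : ℕ} {e' : Fin l → D.idx} {e : Fin m → D.idx} (hpos : RedSub.Enumerates b.pos e)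
    (hmem : ∀ i, e' i ∈ b.pos) :
    ∃ y : RedSub.pow (Red.Ga S) l ⟶ RedSub.pow (Red.Ga S) m, y ≫ rprod D e = rprod D e' := by
  obtain ⟨grp, hhom⟩ := SplitCell.exists_grpObj b (isSatur_pos D b hpos) hpos.1
    fun k => hpos.2.subset (Set.mem_range_self k)
  letI := grp
  haveI := hhom
  exact exists_prodMap_lift (rprod D e) _ fun k => by
    obtain ⟨i, hi⟩ := hpos.2.symm.subset (hmem k)
    rw [← hi]
    exact exists_u_rprod D i

/-- Partial cell maps are monomorphisms. -/
theorem mono_cellMap' {n m : ℕ} {eneg : Fin n → D.idx} {epos : Fin m → D.idx} (hn : Function.Injective eneg)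
    (hnm : ∀ i, eneg i ∈ b.neg) (hp : Function.Injective epos) (hpm : ∀ i, epos i ∈ b.pos) :
    Mono (RedSub.cellMap D eneg epos) := by
  haveI : ∀ k, IsMonHom (D.u k) := isMonHom_u D
  obtain ⟨n₁, rn, hne, -⟩ := exists_append_enum eneg hn hnm
  obtain ⟨m₁, rp, hpe, -⟩ := exists_append_enum epos hp hpm
  haveI := isOpenImmersion_cellMap D b hne hpe
  haveI : Mono (RedSub.cellMap D (Fin.append eneg rn) (Fin.append epos rp)) := mono_cellMap D b hne hpe
  let z : ∀ l l' : ℕ, RedSub.pow (Red.Ga S) l ⟶ RedSub.pow (Red.Ga S) (l + l') := fun l l' =>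
    lift (𝟙 _) (tup fun _ => 1) ≫ (powSplit l l').inv
  have hz : ∀ {l l' : ℕ} (e : Fin l → D.idx) (e' : Fin l' → D.idx),
      z l l' ≫ rprod D (Fin.append e e') = rprod D e := fun {l l'} e e' => by
    rw [Category.assoc, powSplit_rprod, MonObj.comp_mul, lift_fst_assoc, lift_snd_assoc, Category.id_comp,
      prodMap_eq (X := RedSub.pow (Red.Ga S) l), List.prod_eq_one (fun x hx => by
        obtain ⟨k, rfl⟩ := List.mem_ofFn.1 hx
        rw [← Category.assoc, tup_prj, MonObj.one_comp]), _root_.mul_one]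
  have hzm : ∀ l l', Mono (z l l') := fun l l' => by
    haveI : Mono (lift (𝟙 (RedSub.pow (Red.Ga S) l)) (tup fun _ : Fin l' => (1 : _ ⟶ Red.Ga S))) :=
      ⟨fun g g' e => by simpa using congrArg (· ≫ fst _ _) e⟩
    infer_instance
  haveI := hzm n n₁
  haveI := hzm m m₁
  haveI : Mono (z n n₁ ⊗ₘ (𝟙 D.T ⊗ₘ z m m₁)) := ⟨fun g g' e => by
    refine CartesianMonoidalCategory.hom_ext _ _ ?_ (CartesianMonoidalCategory.hom_ext _ _ ?_ ?_)
    · rw [← cancel_mono (z n n₁)]; simpa using congrArg (· ≫ fst _ _) e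
    · simpa using congrArg (· ≫ snd _ _ ≫ fst _ _) e
    · rw [← cancel_mono (z m m₁)]; simpa using congrArg (· ≫ snd _ _ ≫ snd _ _) e⟩
  have key : RedSub.cellMap D eneg epos =
      (z n n₁ ⊗ₘ (𝟙 D.T ⊗ₘ z m m₁)) ≫ RedSub.cellMap D (Fin.append eneg rn) (Fin.append epos rp) := by
    have hz' : ∀ {l l' : ℕ} (e : Fin l → D.idx) (e' : Fin l' → D.idx),
        z l l' ≫ RedSub.prodMap (Red.Ga S) (l + l') (fun k => D.u (Fin.append e e' k)) =
          RedSub.prodMap (Red.Ga S) l fun k => D.u (e k) := hz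
    simp [RedSub.cellMap, MonObj.comp_mul, hz']
  rw [key]
  infer_instance

variable {H : Over S} [GrpObj H] (h : H ⟶ G) [IsMonHom h] [Mono h] [Smooth H.hom] (t : D.T ⟶ H) (ht : t ≫ h = D.i)
  (hconn : ∀ s : S, ConnectedSpace ↥(Red.geomFibre s H).left) [Nonempty S]
include ht hconn

/-- **The roots of a smooth subgroup over a connected base.** -/
theorem exists_roots [ConnectedSpace S] : ∃ R₀ : Set D.idx,
    (∀ (K : Type u) [Field K] [IsAlgClosed K] (ξ : Spec (CommRingCat.of K) ⟶ S), rootsAt D h ξ = R₀) ∧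
      ∀ k, k ∈ R₀ ↔ ∃ w : Red.Ga S ⟶ H, w ≫ h = D.u k := by
  classical
  obtain ⟨b⟩ := exists_sides D.P
  haveI := SplitFib.isReduced_root D
  obtain ⟨n, m, eneg, epos, hneg, hpos, gn, gp⟩ := exists_good_sides D b (R := Set.univ)
  rw [Set.univ_inter] at hneg hpos
  obtain ⟨s₁⟩ := (inferInstance : Nonempty S)
  have hlc := isLocallyConstant_Rs D h eneg epos b hneg hpos t ht hconn gn gp
  set R₀ := Rs D h eneg epos s₁
  have hR₀ : ∀ (K : Type u) [Field K] [IsAlgClosed K] (ξ : Spec (CommRingCat.of K) ⟶ S), rootsAt D h ξ = R₀ :=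
    fun K _ _ ξ => Set.ext fun k => by
      rw [← mem_Rs_iff D h eneg epos ξ b hneg hpos t ht hconn gn gp k, hlc.apply_eq_of_preconnectedSpace _ s₁]
  refine ⟨R₀, hR₀, fun k => ⟨fun hk => ?_, fun ⟨w, hw⟩ => ?_⟩⟩
  · obtain ⟨n', σN, hσN⟩ := SplitFib.exists_enumerates {i : Fin n | eneg i ∈ R₀}
    obtain ⟨m', σP, hσP⟩ := SplitFib.exists_enumerates {i : Fin m | epos i ∈ R₀}
    exact exists_factor_u D h t ht hconn eneg epos b hneg hpos gn gp hR₀ hσN.1 hσP.1
      (fun i => by rw [hσN.2]; rfl) (fun i => by rw [hσP.2]; rfl) hk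
  · rw [← hR₀ _ (Red.geomPt s₁)]
    intro r
    exact ⟨ptOf (cst _ _ r) ≫ w, by rw [Category.assoc, hw]; rfl⟩

/-- **The trace of the cell in any order of the roots.** -/
theorem exists_cell {R₀ : Set D.idx}
    (hR₀ : ∀ (K : Type u) [Field K] [IsAlgClosed K] (ξ : Spec (CommRingCat.of K) ⟶ S), rootsAt D h ξ = R₀)
    (hfac : ∀ k ∈ R₀, ∃ w : Red.Ga S ⟶ H, w ≫ h = D.u k)
    {n m : ℕ} {eneg : Fin n → D.idx} {epos : Fin m → D.idx} (hneg : RedSub.Enumerates b.neg eneg)
    (hpos : RedSub.Enumerates b.pos epos) (gn : Good D eneg) (gp : Good D epos)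
    {n' m' : ℕ} {eN : Fin n' → D.idx} {eP : Fin m' → D.idx} (hN : RedSub.Enumerates (R₀ ∩ b.neg) eN)
    (hP : RedSub.Enumerates (R₀ ∩ b.pos) eP) :
    ∃ (f : src D n' m' ⟶ H) (g : src D n' m' ≅ hCell D h eneg epos),
      g.hom ≫ pullback.fst h _ = f ∧ f ≫ h = RedSub.cellMap D eN eP := by
  classical
  have memN : ∀ i, eN i ∈ R₀ ∩ b.neg := fun i => hN.2.subset (Set.mem_range_self i)
  have memP : ∀ i, eP i ∈ R₀ ∩ b.pos := fun i => hP.2.subset (Set.mem_range_self i)
  obtain ⟨fN, hfN⟩ := exists_prodMap_lift h (fun k => D.u (eN k)) fun k => hfac _ (memN k).1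
  obtain ⟨fP, hfP⟩ := exists_prodMap_lift h (fun k => D.u (eP k)) fun k => hfac _ (memP k).1
  obtain ⟨yN, hyN⟩ := exists_reorder D (flipSides b) (e := eneg) hneg fun i => (memN i).2
  obtain ⟨yP, hyP⟩ := exists_reorder D b (e := epos) hpos fun i => (memP i).2
  let f : src D n' m' ⟶ H := (fst _ _ ≫ fN) * ((snd _ _ ≫ fst _ _ ≫ t) * (snd _ _ ≫ snd _ _ ≫ fP))
  have hf : f ≫ h = RedSub.cellMap D eN eP := by
    simp only [f, MonObj.mul_comp, Category.assoc, hfN, hfP, ht]
    rfl
  have hw : (yN ⊗ₘ (𝟙 D.T ⊗ₘ yP)) ≫ RedSub.cellMap D eneg epos = RedSub.cellMap D eN eP := by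
    simp only [RedSub.cellMap, MonObj.comp_mul, rprod] at hyN hyP ⊢
    rw [← hyN, ← hyP]
    simp
  let l : src D n' m' ⟶ hCell D h eneg epos := pullback.lift f (yN ⊗ₘ (𝟙 D.T ⊗ₘ yP)) (hf.trans hw.symm)
  haveI := mono_cellMap' D b hN.1 (fun i => (memN i).2) hP.1 (fun i => (memP i).2)
  haveI : Mono f := by
    haveI : Mono (f ≫ h) := by rw [hf]; infer_instance
    exact mono_of_mono f h
  haveI : Mono l := by
    haveI : Mono (l ≫ pullback.fst h _) := by rw [pullback.lift_fst]; infer_instance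
    exact mono_of_mono l (pullback.fst h _)
  choose σN hσN using fun i => hneg.2.symm.subset (memN i).2
  choose σP hσP using fun i => hpos.2.symm.subset (memP i).2
  have iN : Function.Injective σN := fun i j e => hN.1 (by rw [← hσN, ← hσN, e])
  have iP : Function.Injective σP := fun i j e => hP.1 (by rw [← hσP, ← hσP, e])
  haveI := isIso_proj D h t ht hconn eneg epos b hneg hpos gn gp hR₀ iN iP
    (fun i => ⟨fun ⟨j, hj⟩ => hj ▸ hσN j ▸ (memN j).1, fun hi => by
      obtain ⟨j, hj⟩ := hN.2.symm.subset ⟨hi, hneg.2.subset (Set.mem_range_self i)⟩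
      exact ⟨j, hneg.1 ((hσN j).trans hj)⟩⟩)
    (fun i => ⟨fun ⟨j, hj⟩ => hj ▸ hσP j ▸ (memP j).1, fun hi => by
      obtain ⟨j, hj⟩ := hP.2.symm.subset ⟨hi, hpos.2.subset (Set.mem_range_self i)⟩
      exact ⟨j, hpos.1 ((hσP j).trans hj)⟩⟩)
  let E := l ≫ proj D h eneg epos σN σP
  haveI : Mono E.left := Over.mono_left_of_mono E
  haveI := smoothRel_cell D n' m'
  haveI : Smooth (src D n' m').hom := SmoothOfRelativeDimension.smooth (m' + Module.finrank ℤ D.M + n') _
  haveI : IsAffineHom (src D n' m').hom := by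
    haveI := isAffineHom_pow (S := S) n'
    haveI := isAffineHom_src D m'
    haveI : IsAffineHom (pullback.fst (RedSub.pow (Red.Ga S) n').hom (D.T ⊗ RedSub.pow (Red.Ga S) m').hom) :=
      MorphismProperty.pullback_fst (P := @IsAffineHom) _ _ inferInstance
    show IsAffineHom (pullback.fst _ (D.T ⊗ RedSub.pow (Red.Ga S) m').hom ≫ _)
    infer_instance
  haveI : IsIso E.left := AxGroth.isIso_of_mono (src D n' m').hom E.left (Over.w E)
  haveI : IsIso ((Over.forget S).map E) := ‹IsIso E.left›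
  haveI : IsIso E := isIso_of_reflects_iso E (Over.forget S)
  haveI : IsIso l := IsIso.of_isIso_comp_right l (proj D h eneg epos σN σP)
  exact ⟨f, asIso l, pullback.lift_fst _ _ _, hf⟩

end RootSubgrp

end
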