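import Groth.Agent.RootSubgrpLib.Fibre
import Groth.Agent.AlgSpLib.RelDim2
import Groth.Agent.AVAmpleLib.HomDiv
import Groth.Agent.BorelLib.NonAffBasic
import Groth.Agent.S18817

/-!
# The trace of the big cell on a smooth subgroup containing the torus
-/

set_option autoImplicit false
set_option linter.style.haveILetI false
set_option linter.unusedSectionVars false
set_option backward.isDefEq.respectTransparency false
set_option maxHeartbeats 1000000
set_option synthInstance.maxHeartbeats 400000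

universe u

open CategoryTheory CategoryTheory.Limits MonoidalCategory CartesianMonoidalCategory AlgebraicGeometry
open Groth.Agent.GaPts
open Groth.Agent.BorelLib (mono_bc)
open scoped MonObj

noncomputable section

attribute [-instance] CategoryTheory.Hom.commGroup

namespace RootSubgrp

open SplitCell

variable {S : Scheme.{u}} {G H : Over S} [GrpObj G] [GrpObj H] (D : Red.SplitRed G) (h : H ⟶ G)
  {n m : ℕ} (eneg : Fin n → D.idx) (epos : Fin m → D.idx)

/-- The source of the cell map. -/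
abbrev src (n m : ℕ) : Over S := RedSub.pow (Red.Ga S) n ⊗ (D.T ⊗ RedSub.pow (Red.Ga S) m)

/-- The trace of the cell. -/
abbrev hCell : Over S := pullback h (RedSub.cellMap D eneg epos)

/-- A negative coordinate on the trace. -/
def cN (i : Fin n) : hCell D h eneg epos ⟶ Red.Ga S := pullback.snd h _ ≫ fst _ _ ≫ prj S i

/-- A positive coordinate on the trace. -/
def cP (i : Fin m) : hCell D h eneg epos ⟶ Red.Ga S := pullback.snd h _ ≫ snd _ _ ≫ snd _ _ ≫ prj S i

/-- The roots over a point of the base. -/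
def Rs (s : S) : Set D.idx :=
  {k | (∃ i, eneg i = k ∧ s ∈ nonvan (cN D h eneg epos i)) ∨ ∃ i, epos i = k ∧ s ∈ nonvan (cP D h eneg epos i)}

variable {K : Type u} [Field K] (ξ : Spec (CommRingCat.of K) ⟶ S)

theorem cst_ne_zero {r : K} : cst ξ K r ≠ 0 ↔ r ≠ 0 :=
  not_congr ⟨fun e => (cst_bijective ξ).1 (e.trans (map_zero (cst ξ K)).symm), fun e => by rw [e, map_zero]⟩

theorem gaFn_cpt_N (y : Fin n → K) (τ : aP ξ K ⟶ D.T) (c : Fin m → K) (i : Fin n) :
    Red.gaFn (cpt D ξ y τ c ≫ fst _ _ ≫ prj S i) = cst ξ K (y i) := by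
  rw [cpt, lift_fst_assoc, pw_prj, gaFn_ptOf]

theorem gaFn_cpt_P (y : Fin n → K) (τ : aP ξ K ⟶ D.T) (c : Fin m → K) (i : Fin m) :
    Red.gaFn (cpt D ξ y τ c ≫ snd _ _ ≫ snd _ _ ≫ prj S i) = cst ξ K (c i) := by
  rw [cpt, lift_snd_assoc, lift_snd_assoc, pw_prj, gaFn_ptOf]

theorem exists_prod_lift [IsMonHom h] {l : ℕ} (e : Fin l → D.idx) (c : Fin l → K)
    (hc : ∀ i, c i ≠ 0 → e i ∈ rootsAt D h ξ) : ∃ z : aP ξ K ⟶ H, z ≫ h = pe ξ (fun k => D.u (e k)) c := by
  let φ : (aP ξ K ⟶ H) →* (aP ξ K ⟶ G) := MonoidHom.mk' (fun z => z ≫ h) fun z z' => MonObj.mul_comp _ _ _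
  suffices hm : pe ξ (fun k => D.u (e k)) c ∈ φ.range from MonoidHom.mem_range.1 hm
  refine Subgroup.list_prod_mem _ fun x hx => ?_
  obtain ⟨i, rfl⟩ := List.mem_ofFn.1 hx
  by_cases hi : c i = 0
  · haveI := isMonHom_u D (e i)
    show el ξ (D.u (e i)) (c i) ∈ φ.range
    rw [hi, el_zero]
    exact φ.range.one_mem
  · exact MonoidHom.mem_range.2 (hc i hi (c i))

variable [IsAlgClosed K] [IsMonHom h] [Mono h] [Smooth H.hom] (b : Sides D.P)
  (hneg : RedSub.Enumerates b.neg eneg) (hpos : RedSub.Enumerates b.pos epos)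
include hneg hpos

theorem isOpenImmersion_fst : IsOpenImmersion (pullback.fst h (RedSub.cellMap D eneg epos)).left := by
  haveI := isOpenImmersion_cellMap D b hneg hpos
  exact MorphismProperty.of_isPullback (P := @IsOpenImmersion)
    ((IsPullback.of_hasPullback h (RedSub.cellMap D eneg epos)).map (Over.forget S)).flip
    ‹IsOpenImmersion (RedSub.cellMap D eneg epos).left›

theorem smooth_hCell : Smooth (hCell D h eneg epos).hom := by
  haveI := isOpenImmersion_fst D h eneg epos b hneg hpos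
  rw [← Over.w (pullback.fst h (RedSub.cellMap D eneg epos))]
  infer_instance

variable (t : D.T ⟶ H) (ht : t ≫ h = D.i) (hconn : ∀ s : S, ConnectedSpace ↥(Red.geomFibre s H).left)
  (gn : Good D eneg) (gp : Good D epos)
include ht hconn gn gp

omit [Smooth H.hom] in
/-- **The roots of a geometric fibre depend only on the point of the base.** -/
theorem mem_Rs_iff [Smooth H.hom] (k : D.idx) :
    k ∈ Rs D h eneg epos (ξ (⊥ : PrimeSpectrum K)) ↔ k ∈ rootsAt D h ξ := by
  haveI := smooth_hCell D h eneg epos b hneg hpos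
  constructor
  · rintro (⟨i, rfl, hi⟩ | ⟨i, rfl, hi⟩) <;>
    · obtain ⟨z, hz⟩ := (mem_nonvan_iff ξ _).1 hi
      obtain ⟨y, τ, c, hy⟩ := exists_cpt D ξ (z ≫ pullback.snd h _)
      obtain ⟨h1, h2⟩ := supp_of_lift D h ξ t ht hconn b hneg hpos gn gp (y := y) (τ := τ) (c := c)
        (z ≫ pullback.fst h _) (by rw [hy, Category.assoc, Category.assoc, pullback.condition])
      first
        | rw [cN, ← Category.assoc, ← hy, gaFn_cpt_N, cst_ne_zero] at hz; exact h1 i hz
        | rw [cP, ← Category.assoc, ← hy, gaFn_cpt_P, cst_ne_zero] at hz; exact h2 i hz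
  · intro hk
    obtain ⟨z, hz⟩ := hk 1
    haveI : ∀ j, IsMonHom ((fun j => D.u (eneg j)) j) := fun j => isMonHom_u D _
    haveI : ∀ j, IsMonHom ((fun j => D.u (epos j)) j) := fun j => isMonHom_u D _
    haveI := isMonHom_i D
    rcases b.total k with hk' | hk'
    · obtain ⟨i, rfl⟩ := hpos.2.symm.subset hk'
      refine Or.inr ⟨i, rfl, (mem_nonvan_iff ξ _).2
        ⟨pullback.lift z (cpt D ξ 0 1 fun j => if j = i then 1 else 0) ?_, ?_⟩⟩
      · rw [hz, cpt_cellMap, pe_single, show (0 : Fin n → K) = fun _ => 0 from rfl, pe_zero, MonObj.one_comp,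
          _root_.one_mul, _root_.one_mul]
      · rw [cP, pullback.lift_snd_assoc, gaFn_cpt_P, cst_ne_zero, if_pos rfl]
        exact one_ne_zero
    · obtain ⟨i, rfl⟩ := hneg.2.symm.subset hk'
      refine Or.inl ⟨i, rfl, (mem_nonvan_iff ξ _).2
        ⟨pullback.lift z (cpt D ξ (fun j => if j = i then 1 else 0) 1 0) ?_, ?_⟩⟩
      · rw [hz, cpt_cellMap, pe_single, show (0 : Fin m → K) = fun _ => 0 from rfl, pe_zero, MonObj.one_comp,
          _root_.mul_one, _root_.mul_one]
      · rw [cN, pullback.lift_snd_assoc, gaFn_cpt_N, cst_ne_zero, if_pos rfl]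
        exact one_ne_zero

omit ht hconn gn gp in
theorem isOpen_mem_Rs (k : D.idx) : IsOpen {s | k ∈ Rs D h eneg epos s} := by
  haveI := smooth_hCell D h eneg epos b hneg hpos
  have ho : ∀ c : hCell D h eneg epos ⟶ Red.Ga S, IsOpen (nonvan c) := fun c =>
    (hCell D h eneg epos).hom.isOpenMap _ ((hCell D h eneg epos).left.basicOpen (Red.gaFn c)).2
  have e : {s | k ∈ Rs D h eneg epos s} = (⋃ (i) (_ : eneg i = k), nonvan (cN D h eneg epos i)) ∪
      ⋃ (i) (_ : epos i = k), nonvan (cP D h eneg epos i) := by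
    ext s
    simp [Rs]
  rw [e]
  exact (isOpen_iUnion fun i => isOpen_iUnion fun _ => ho _).union (isOpen_iUnion fun i => isOpen_iUnion fun _ => ho _)

section Proj

variable {n' m' : ℕ} (σN : Fin n' → Fin n) (σP : Fin m' → Fin m)

/-- The projection to the coordinates of chosen roots. -/
def proj : hCell D h eneg epos ⟶ src D n' m' := pullback.snd h _ ≫ (sel σN ⊗ₘ (𝟙 D.T ⊗ₘ sel σP))

/-- The zero extension of the chosen coordinates. -/
def incl : src D n' m' ⟶ src D n m := ext σN ⊗ₘ (𝟙 D.T ⊗ₘ ext σP)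

omit hneg hpos ht hconn gn gp in
theorem incl_sel {σN : Fin n' → Fin n} {σP : Fin m' → Fin m} (hN : Function.Injective σN)
    (hP : Function.Injective σP) : incl D σN σP ≫ (sel σN ⊗ₘ (𝟙 D.T ⊗ₘ sel σP)) = 𝟙 (src D n' m') := by
  rw [incl, MonoidalCategory.tensorHom_comp_tensorHom, MonoidalCategory.tensorHom_comp_tensorHom, ext_sel hN,
    ext_sel hP, Category.id_comp, MonoidalCategory.id_tensorHom_id, MonoidalCategory.id_tensorHom_id]

omit hneg hpos ht hconn gn gp [IsAlgClosed K] in
theorem cpt_incl {σN : Fin n' → Fin n} {σP : Fin m' → Fin m} (hN : Function.Injective σN)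
    (hP : Function.Injective σP) (y : Fin n' → K) (τ : aP ξ K ⟶ D.T) (c : Fin m' → K) :
    cpt D ξ y τ c ≫ incl D σN σP = cpt D ξ (Function.extend σN y 0) τ (Function.extend σP c 0) := by
  rw [cpt, incl, lift_map, lift_map, pw_ext_map ξ hN, pw_ext_map ξ hP, Category.comp_id]
  rfl

omit hneg hpos ht hconn gn gp [IsAlgClosed K] in
theorem cpt_sel (y : Fin n → K) (τ : aP ξ K ⟶ D.T) (c : Fin m → K) :
    cpt D ξ y τ c ≫ (sel σN ⊗ₘ (𝟙 D.T ⊗ₘ sel σP)) = cpt D ξ (y ∘ σN) τ (c ∘ σP) := by
  rw [cpt, lift_map, lift_map, pw_sel, pw_sel, Category.comp_id]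
  rfl

omit [Smooth H.hom] in
/-- **The trace of the cell on a geometric fibre.** -/
theorem isIso_bc_proj [Smooth H.hom] {σN : Fin n' → Fin n} {σP : Fin m' → Fin m} (hN : Function.Injective σN)
    (hP : Function.Injective σP) (rN : ∀ i, i ∈ Set.range σN ↔ eneg i ∈ rootsAt D h ξ)
    (rP : ∀ i, i ∈ Set.range σP ↔ epos i ∈ rootsAt D h ξ) :
    IsIso ((Over.pullback ξ).map (proj D h eneg epos σN σP)) := by
  classical
  haveI := D.reductive.1
  haveI := D.reductive.2.1
  haveI := smooth_hCell D h eneg epos b hneg hpos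
  haveI := isClosedImmersion_bc_hom D h ξ t ht hconn
  haveI := mono_bc ξ h
  haveI := mono_cellMap D b hneg hpos
  haveI := mono_bc ξ (RedSub.cellMap D eneg epos)
  haveI := smoothRel_cell D n' m'
  haveI : Smooth (src D n' m').hom := SmoothOfRelativeDimension.smooth (m' + Module.finrank ℤ D.M + n') _
  haveI : Smooth (Red.bc ξ (src D n' m')).hom := MorphismProperty.pullback_snd (P := @Smooth) _ _ inferInstance
  haveI : Smooth (Red.bc ξ (hCell D h eneg epos)).hom :=
    MorphismProperty.pullback_snd (P := @Smooth) _ _ inferInstance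
  haveI : AlgebraicGeometry.IsReduced (Red.bc ξ (src D n' m')).left :=
    AlgSpLib.isReduced_of_smooth (Red.bc ξ (src D n' m')).hom
  haveI : AlgebraicGeometry.IsReduced (Red.bc ξ (hCell D h eneg epos)).left :=
    AlgSpLib.isReduced_of_smooth (Red.bc ξ (hCell D h eneg epos)).hom
  haveI : Smooth (Red.bc ξ G).hom := MorphismProperty.pullback_snd (P := @Smooth) _ _ inferInstance
  haveI := Groth.Agent.RedRank.isAffineHom_bc G ξ
  let ρ : src D n' m' ⟶ G := incl D σN σP ≫ RedSub.cellMap D eneg epos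
  obtain ⟨σH, hσH⟩ := Groth.Agent.BorelLib.NA.exists_factor_of_pts ((Over.pullback ξ).map ρ) ((Over.pullback ξ).map h)
    fun q => by
    obtain ⟨y, τ, c, hq⟩ := exists_cpt D ξ (ofR ξ q)
    obtain ⟨z₁, hz₁⟩ := exists_prod_lift D h ξ eneg (Function.extend σN y 0) fun i hi => (rN i).1 (by
      by_contra hno
      exact hi (Function.extend_apply' _ _ _ hno))
    obtain ⟨z₂, hz₂⟩ := exists_prod_lift D h ξ epos (Function.extend σP c 0) fun i hi => (rP i).1 (by
      by_contra hno
      exact hi (Function.extend_apply' _ _ _ hno))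
    refine ⟨toR ξ (z₁ * ((τ ≫ t) * z₂)), ?_⟩
    rw [← toR_ofR ξ (toR ξ _ ≫ _), ← toR_ofR ξ (q ≫ _), ofR_comp, ofR_comp, ofR_toR, MonObj.mul_comp, MonObj.mul_comp,
      hz₁, hz₂, Category.assoc, ht, ← hq, ← Category.assoc (cpt D ξ y τ c), cpt_incl D ξ hN hP, cpt_cellMap]
  let sq := (IsPullback.of_hasPullback h (RedSub.cellMap D eneg epos)).map (Over.pullback ξ)
  let l := sq.lift σH ((Over.pullback ξ).map (incl D σN σP)) (by rw [hσH, ← CategoryTheory.Functor.map_comp])
  have key : (Over.pullback ξ).map (proj D h eneg epos σN σP ≫ ρ) =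
      (Over.pullback ξ).map (pullback.snd h _ ≫ RedSub.cellMap D eneg epos) := by
    refine AVAmpleLib.hom_ext_of_points _ _ fun q => ?_
    rw [← toR_ofR ξ (q ≫ (Over.pullback ξ).map _), ofR_comp,
      ← toR_ofR ξ (q ≫ (Over.pullback ξ).map (pullback.snd h _ ≫ _)), ofR_comp]
    congr 1
    obtain ⟨y, τ, c, hy⟩ := exists_cpt D ξ (ofR ξ q ≫ pullback.snd h _)
    obtain ⟨h1, h2⟩ := supp_of_lift D h ξ t ht hconn b hneg hpos gn gp (y := y) (τ := τ) (c := c)
      (ofR ξ q ≫ pullback.fst h _) (by rw [hy, Category.assoc, Category.assoc, pullback.condition])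
    have hsupp : ∀ {l l' : ℕ} {σ : Fin l' → Fin l} (_ : Function.Injective σ) (e : Fin l → D.idx)
        (_ : ∀ i, i ∈ Set.range σ ↔ e i ∈ rootsAt D h ξ) (w : Fin l → K) (_ : ∀ i, w i ≠ 0 → e i ∈ rootsAt D h ξ),
        Function.extend σ (w ∘ σ) 0 = w := fun {l l' σ} hσ e r w hw => funext fun i => by
      by_cases hi : ∃ j, σ j = i
      · obtain ⟨j, rfl⟩ := hi
        rw [hσ.extend_apply]; rfl
      · rw [Function.extend_apply' _ _ _ hi]
        by_contra hne
        exact hi ((r i).2 (hw i (Ne.symm hne)))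
    simp only [proj, ρ, Category.assoc]
    rw [← reassoc_of% hy, ← reassoc_of% hy, ← Category.assoc (cpt D ξ y τ c), cpt_sel, ← Category.assoc (cpt D ξ _ τ _),
      cpt_incl D ξ hN hP, hsupp hN eneg rN y h1, hsupp hP epos rP c h2]
  refine ⟨⟨l, ?_, ?_⟩⟩
  · have hw : (Over.pullback ξ).map (proj D h eneg epos σN σP) ≫ (Over.pullback ξ).map (incl D σN σP) =
        (Over.pullback ξ).map (pullback.snd h _) := by
      rw [← cancel_mono ((Over.pullback ξ).map (RedSub.cellMap D eneg epos)), Category.assoc,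
        ← CategoryTheory.Functor.map_comp, ← CategoryTheory.Functor.map_comp, ← CategoryTheory.Functor.map_comp]
      exact key
    refine sq.hom_ext ?_ ?_
    · rw [Category.assoc, IsPullback.lift_fst, Category.id_comp, ← cancel_mono ((Over.pullback ξ).map h),
        Category.assoc, hσH, ← CategoryTheory.Functor.map_comp, ← CategoryTheory.Functor.map_comp, pullback.condition]
      exact key
    · rw [Category.assoc, IsPullback.lift_snd, Category.id_comp, hw]
  · rw [proj, CategoryTheory.Functor.map_comp, IsPullback.lift_snd_assoc, ← CategoryTheory.Functor.map_comp,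
      incl_sel D hN hP, CategoryTheory.Functor.map_id]

end Proj

omit [IsAlgClosed K] in
/-- The unit of the trace of the cell. -/
theorem exists_one_hCell : ∃ E : 𝟙_ (Over S) ⟶ hCell D h eneg epos,
    E ≫ pullback.fst h _ = 1 := by
  haveI : ∀ k, IsMonHom (D.u k) := isMonHom_u D
  haveI := isMonHom_i D
  let z : ∀ l : ℕ, 𝟙_ (Over S) ⟶ RedSub.pow (Red.Ga S) l := fun l => tup fun _ => 1
  have hz : ∀ {l : ℕ} (e : Fin l → D.idx), z l ≫ RedSub.prodMap (Red.Ga S) l (fun k => D.u (e k)) = 1 := by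
    intro l e
    rw [prodMap_eq]
    refine List.prod_eq_one fun x hx => ?_
    obtain ⟨k, rfl⟩ := List.mem_ofFn.1 hx
    rw [← Category.assoc, tup_prj, MonObj.one_comp]
  refine ⟨pullback.lift 1 (lift (z n) (lift 1 (z m))) ?_, pullback.lift_fst _ _ _⟩
  rw [RedSub.cellMap, MonObj.one_comp, MonObj.comp_mul, MonObj.comp_mul, lift_fst_assoc, lift_snd_assoc,
    lift_fst_assoc, lift_snd_assoc, lift_snd_assoc, hz eneg, hz epos, MonObj.one_comp, _root_.one_mul, _root_.one_mul]

omit [IsAlgClosed K] in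
/-- **The roots are locally constant.** -/
theorem isLocallyConstant_Rs : IsLocallyConstant (Rs D h eneg epos) := by
  classical
  haveI := smooth_hCell D h eneg epos b hneg hpos
  obtain ⟨E, -⟩ := exists_one_hCell D h eneg epos b hneg hpos t ht hconn gn gp
  let N : S → ℕ := fun s => (Finset.univ.filter fun i => eneg i ∈ Rs D h eneg epos s).card +
    (Finset.univ.filter fun i => epos i ∈ Rs D h eneg epos s).card
  rw [IsLocallyConstant.iff_exists_open]
  intro s0
  let E' : S ⟶ (hCell D h eneg epos).left := E.left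
  have hE : ∀ s, (hCell D h eneg epos).hom (E' s) = s := fun s => by
    rw [← Scheme.Hom.comp_apply, show E' ≫ (hCell D h eneg epos).hom = 𝟙 S from Over.w E]
    rfl
  obtain ⟨O, d, hx0, hd⟩ := AlgSpLib.exists_open_fibreDimAt_of_smooth (hCell D h eneg epos).hom (E' s0)
  have hdim : ∀ s, E' s ∈ O → N s + Module.finrank ℤ D.M = d := by
    intro s hs
    let ξ := Red.geomPt s
    have hpt : ∀ p, ξ p = s := fun p => (Scheme.Hom.comp_apply _ _ _).trans (Scheme.fromSpecResidueField_apply _ _)
    have hR : ∀ k, k ∈ Rs D h eneg epos s ↔ k ∈ rootsAt D h ξ := fun k => by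
      rw [← mem_Rs_iff D h eneg epos ξ b hneg hpos t ht hconn gn gp k, hpt]
    let FN := Finset.univ.filter fun i => eneg i ∈ Rs D h eneg epos s
    let FP := Finset.univ.filter fun i => epos i ∈ Rs D h eneg epos s
    let σN : Fin FN.card → Fin n := fun j => (FN.equivFin.symm j).1
    let σP : Fin FP.card → Fin m := fun j => (FP.equivFin.symm j).1
    have hσN : Function.Injective σN := Subtype.val_injective.comp FN.equivFin.symm.injective
    have hσP : Function.Injective σP := Subtype.val_injective.comp FP.equivFin.symm.injective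
    haveI := isIso_bc_proj D h eneg epos ξ b hneg hpos t ht hconn gn gp (σN := σN) (σP := σP) hσN hσP
      (fun i => by
        rw [← hR]
        exact ⟨fun ⟨j, hj⟩ => hj ▸ (Finset.mem_filter.1 (FN.equivFin.symm j).2).2,
          fun hi => ⟨FN.equivFin ⟨i, Finset.mem_filter.2 ⟨Finset.mem_univ _, hi⟩⟩, by simp [σN]⟩⟩)
      (fun i => by
        rw [← hR]
        exact ⟨fun ⟨j, hj⟩ => hj ▸ (Finset.mem_filter.1 (FP.equivFin.symm j).2).2,
          fun hi => ⟨FP.equivFin ⟨i, Finset.mem_filter.2 ⟨Finset.mem_univ _, hi⟩⟩, by simp [σP]⟩⟩)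
    set π := (Over.pullback ξ).map (proj D h eneg epos σN σP) with hπ
    haveI : IsIso π.left := (Over.forget _).map_isIso π
    haveI := smoothRel_cell D FN.card FP.card
    haveI := smoothOfRelativeDimension_isStableUnderBaseChange (FP.card + Module.finrank ℤ D.M + FN.card)
    have h1 : SmoothOfRelativeDimension (FP.card + Module.finrank ℤ D.M + FN.card)
        (Red.bc ξ (src D FN.card FP.card)).hom :=
      MorphismProperty.pullback_snd (P := @SmoothOfRelativeDimension _) _ _ inferInstance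
    haveI : SmoothOfRelativeDimension (FP.card + Module.finrank ℤ D.M + FN.card)
        (pullback.snd (hCell D h eneg epos).hom ξ) := by
      haveI := h1
      have e := Over.w π
      rw [show pullback.snd (hCell D h eneg epos).hom ξ = π.left ≫ (Red.bc ξ (src D FN.card FP.card)).hom from e.symm,
        MorphismProperty.cancel_left_of_respectsIso (P := @SmoothOfRelativeDimension _)]
      exact h1
    obtain ⟨x', hx', -⟩ := Scheme.Pullback.exists_preimage_pullback (f := (hCell D h eneg epos).hom) (g := ξ) (E' s)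
      (IsLocalRing.closedPoint _) ((hE s).trans (hpt _).symm)
    have h2 := FibDimLib.fibreDimAt_baseChange (IsPullback.of_hasPullback (hCell D h eneg epos).hom ξ) x'
    rw [hx', hd _ hs, FibDimLib.fibreDimAt_smoothOfRelativeDimension (FP.card + Module.finrank ℤ D.M + FN.card)] at h2
    have h3 : FP.card + Module.finrank ℤ D.M + FN.card = d := by exact_mod_cast h2
    show FN.card + FP.card + _ = d
    omega
  let U : Set S := (⋂ k ∈ Rs D h eneg epos s0, {s | k ∈ Rs D h eneg epos s}) ∩ E' ⁻¹' O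
  refine ⟨U, ((Set.toFinite _).isOpen_biInter fun k _ => isOpen_mem_Rs D h eneg epos b hneg hpos k).inter
    (O.2.preimage E'.continuous), ⟨Set.mem_iInter₂.2 fun k hk => hk, hx0⟩, fun s hs => ?_⟩
  have hle : Rs D h eneg epos s0 ⊆ Rs D h eneg epos s := fun k hk => Set.mem_iInter₂.1 hs.1 k hk
  have hN : N s = N s0 := by
    have := hdim s hs.2
    have := hdim s0 hx0
    omega
  have sN : (Finset.univ.filter fun i => eneg i ∈ Rs D h eneg epos s0) ⊆
      Finset.univ.filter fun i => eneg i ∈ Rs D h eneg epos s := fun i hi =>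
    Finset.mem_filter.2 ⟨Finset.mem_univ _, hle (Finset.mem_filter.1 hi).2⟩
  have sP : (Finset.univ.filter fun i => epos i ∈ Rs D h eneg epos s0) ⊆
      Finset.univ.filter fun i => epos i ∈ Rs D h eneg epos s := fun i hi =>
    Finset.mem_filter.2 ⟨Finset.mem_univ _, hle (Finset.mem_filter.1 hi).2⟩
  have cN' := Finset.card_le_card sN
  have cP' := Finset.card_le_card sP
  have eN := Finset.eq_of_subset_of_card_le sN (by simp only [N] at hN; omega)
  have eP := Finset.eq_of_subset_of_card_le sP (by simp only [N] at hN; omega)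
  refine Set.Subset.antisymm (fun k hk => ?_) hle
  rcases b.total k with hk' | hk'
  · obtain ⟨i, rfl⟩ := hpos.2.symm.subset hk'
    exact (Finset.mem_filter.1 (eP.symm.subset (Finset.mem_filter.2 ⟨Finset.mem_univ _, hk⟩))).2
  · obtain ⟨i, rfl⟩ := hneg.2.symm.subset hk'
    exact (Finset.mem_filter.1 (eN.symm.subset (Finset.mem_filter.2 ⟨Finset.mem_univ _, hk⟩))).2

end RootSubgrp

end
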