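import Groth.Agent.RootSubgrpLib.Good
import Groth.Agent.DynLib.Smooth
import Groth.Agent.SplitFibLib.Reduced

/-!
# Solvable subgroups containing the torus and one-sided sets of roots
-/

set_option autoImplicit false
set_option linter.style.haveILetI false
set_option linter.unusedSectionVars false
set_option backward.isDefEq.respectTransparency false
set_option maxHeartbeats 1000000
set_option synthInstance.maxHeartbeats 400000

universe u

open CategoryTheory CategoryTheory.Limits MonoidalCategory CartesianMonoidalCategory AlgebraicGeometry WithConv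
open scoped MonObj LaurentPolynomial
open CoactBr (sp)
open Groth.Agent.BorelLib

noncomputable section

attribute [-instance] CategoryTheory.Hom.commGroup

namespace RootSubgrp

attribute [local instance] pTop pTopTensor

open SplitCell SplitFib

variable {S : Scheme.{u}} {G : Over S} [GrpObj G] (D : Red.SplitRed G) {K : Type u} [Field K] [IsAlgClosed K]
  (a : Spec (CommRingCat.of K) ⟶ S) {A : Type u} [CommRing A] [HopfAlgebra K A] [Algebra.FiniteType K A]
  (v : sp K A ≅ Red.bc a G) [IsMonHom v.hom] [_root_.IsReduced A] [IsAffine (Red.bc a G).left]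
  [Smooth (Red.bc a G).hom]

omit [IsAlgClosed K] in
include a in
theorem isReduced_P [IsAlgClosed K] : D.P.IsReduced := by
  haveI : Nonempty S := ⟨a (⊥ : PrimeSpectrum K)⟩
  exact SplitFib.isReduced_root D

theorem disjoint_sides (b : Sides D.P) : Disjoint b.pos b.neg := Set.disjoint_left.2 fun k hp hn => by
  obtain ⟨f, hfp, hfn⟩ := b.regular
  exact lt_asymm (hfp k hp) (hfn k hn)

theorem exists_sides_mem (k : D.idx) : ∃ b : Sides D.P, k ∈ b.pos := by
  obtain ⟨b⟩ := exists_sides D.P
  rcases b.total k with h | h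
  exacts [⟨b, h⟩, ⟨flipSides b, h⟩]

variable {D} in
/-- A non-trivial root element is not in the torus. -/
theorem uEl_notMem_Tsub {k : D.idx} {r : K} (hr : r ≠ 0) : uEl D a v k r ∉ Tsub D a v := by
  rintro ⟨t, ht⟩
  obtain ⟨b, hb⟩ := exists_sides_mem D k
  obtain ⟨n, m, eneg, epos, hneg, hpos⟩ := exists_enum D b
  obtain ⟨i, rfl⟩ := hpos.2.symm.subset hb
  obtain ⟨-, -, h⟩ := cellPts_inj D a v b hneg hpos (y := 0) (y' := 0) (t := t) (t' := 1) (c := 0)
    (c' := Pi.single i r) (by rw [uPe_zero, uPe_zero, uPe_single, map_one, _root_.one_mul, _root_.one_mul,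
      _root_.mul_one, _root_.one_mul, ht])
  exact hr (by simpa using (congrFun h i).symm)

theorem uPe_mem {B : Subgroup (Pt K A)} {l : ℕ} (e : Fin l → D.idx) (c : Fin l → K)
    (h : ∀ i, c i ≠ 0 → e i ∈ rootsIn D a v B) : uPe D a v e c ∈ B := by
  rw [uPe_eq_prod]
  refine Subgroup.list_prod_mem _ fun x hx => ?_
  obtain ⟨i, rfl⟩ := List.mem_ofFn.1 hx
  by_cases hi : c i = 0
  · rw [hi, uEl_zero]; exact B.one_mem
  · exact h i hi _

variable {H' : Subgroup (Pt K A)} (hH : IsClosed (H' : Set (Pt K A))) (hTH : Tsub D a v ≤ H')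
include hH hTH

/-- The coordinates of the points of the subgroup in the cell. -/
theorem exists_cell_supp (b : Sides D.P) : ∃ (n m : ℕ) (eneg : Fin n → D.idx) (epos : Fin m → D.idx),
    RedSub.Enumerates b.neg eneg ∧ RedSub.Enumerates b.pos epos ∧
      ∀ x ∈ H', x ∈ cellPts D a v eneg epos → ∃ y t c, x = uPe D a v eneg y * (torusHom D a v t * uPe D a v epos c) ∧
        (∀ i, y i ≠ 0 → eneg i ∈ rootsIn D a v H') ∧ ∀ i, c i ≠ 0 → epos i ∈ rootsIn D a v H' := by
  haveI := isReduced_P D a
  obtain ⟨n, m, eneg, epos, hneg, hpos, gn, gp⟩ := exists_good_sides D b (R := Set.univ)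
  rw [Set.univ_inter] at hneg hpos
  refine ⟨n, m, eneg, epos, hneg, hpos, fun x hx ⟨y, t, c, e⟩ => ⟨y, t, c, e, ?_⟩⟩
  exact cell_supp D a v hH hTH b (fun i => hneg.2.subset (Set.mem_range_self i))
    (fun i => hpos.2.subset (Set.mem_range_self i)) gn gp y t c (e ▸ hx)

variable (hHc : _root_.IsPreconnected (H' : Set (Pt K A)))
include hHc

/-- A subgroup is contained in another one if it is so on the cell. -/
theorem le_of_cell (b : Sides D.P) {n m : ℕ} {eneg : Fin n → D.idx} {epos : Fin m → D.idx}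
    (hneg : RedSub.Enumerates b.neg eneg) (hpos : RedSub.Enumerates b.pos epos) {B : Subgroup (Pt K A)}
    (h : ∀ x ∈ H', x ∈ cellPts D a v eneg epos → x ∈ B) : H' ≤ B := by
  intro g hg
  obtain ⟨x, hx, hx1, hx2⟩ := (isIrreducible_of_connected hH hHc).2 (cellPts D a v eneg epos)
    ((fun y => g⁻¹ * y) ⁻¹' cellPts D a v eneg epos) (isOpen_cellPts D a v b hneg hpos)
    ((isOpen_cellPts D a v b hneg hpos).preimage (Groth.Agent.BorelLib.continuous_const_mul g⁻¹))
    ⟨1, H'.one_mem, one_mem_cellPts D a v⟩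
    ⟨g, hg, by show g⁻¹ * g ∈ cellPts D a v eneg epos; rw [inv_mul_cancel]; exact one_mem_cellPts D a v⟩
  rw [show g = x * (g⁻¹ * x)⁻¹ by group]
  exact B.mul_mem (h x hx hx1) (B.inv_mem (h _ (H'.mul_mem (H'.inv_mem hg) hx) hx2))

/-- A subgroup is contained in another one containing the torus if its roots are roots of the latter. -/
theorem le_of_rootsIn {B : Subgroup (Pt K A)} (hTB : Tsub D a v ≤ B)
    (h : rootsIn D a v H' ⊆ rootsIn D a v B) : H' ≤ B := by
  obtain ⟨b⟩ := exists_sides D.P
  obtain ⟨n, m, eneg, epos, hneg, hpos, hs⟩ := exists_cell_supp D a v hH hTH b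
  refine le_of_cell D a v hH hTH hHc b hneg hpos fun x hx hcell => ?_
  obtain ⟨y, t, c, rfl, hy, hc⟩ := hs x hx hcell
  exact B.mul_mem (uPe_mem D a v eneg y fun i hi => h (hy i hi))
    (B.mul_mem (hTB ⟨t, rfl⟩) (uPe_mem D a v epos c fun i hi => h (hc i hi)))

variable (hT : IsMaxTor ⊤ (Tsub D a v))
include hT

/-- A subgroup with positive roots is solvable. -/
theorem isSol_of_pos (b : Sides D.P) (hR : rootsIn D a v H' ⊆ b.pos) : IsSol H' := by
  obtain ⟨n, m, eneg, epos, hneg, hpos⟩ := exists_enum D b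
  obtain ⟨B₀, hB₀, -, hs⟩ := exists_bplus D a v b hpos hT.tor
  refine hs.mono (le_of_rootsIn D a v hH hTH hHc (fun x ⟨t, ht⟩ => (hB₀ x).2 ⟨t, 0, by
    rw [uPe_zero, _root_.mul_one]; exact ht.symm⟩) fun k hk r => ?_)
  obtain ⟨j, rfl⟩ := hpos.2.symm.subset (hR hk)
  exact (hB₀ _).2 ⟨1, Pi.single j r, by rw [map_one, _root_.one_mul, uPe_single]⟩

/-- **A subgroup without opposite roots is solvable.** -/
theorem isSol_of_asym (hR : ∀ k ∈ rootsIn D a v H', D.P.reflectionPerm k k ∉ rootsIn D a v H') : IsSol H' := by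
  haveI := isReduced_P D a
  obtain ⟨B, hB, hTB, -⟩ := exists_bor_commute_in hH hHc hTH hT.tor.conn hT.tor.isSol H'.one_mem
    (c := 1) fun h _ => by rw [_root_.one_mul, _root_.mul_one]
  refine hB.sol.mono (le_of_rootsIn D a v hH hTH hHc hTB fun k hk => ?_)
  obtain ⟨L, hL⟩ := exists_line D k
  obtain ⟨b, hb⟩ := exists_sides_mem D k
  set Z := Subgroup.centralizer (clSub (Sker a v L) : Set (Pt K A)) with hZ
  have hZle : Z ≤ Cen a v L := Subgroup.centralizer_le (le_clSub (Sker a v L))
  have hSB : clSub (Sker a v L) ≤ B := (clSub_le hT.tor.closed (Sker_le a v L)).trans hTB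
  have hTor := isTor_clSub_Sker a v L hT.tor
  set C := H' ⊓ Z with hC
  have hCc : IsClosed (C : Set (Pt K A)) := hH.inter (isClosed_centralizer _)
  have hCp := isPreconnected_centralizer_tor hH hHc hTor (hSB.trans hB.le)
  have hTC : Tsub D a v ≤ C := le_inf hTH fun x hx => Subgroup.mem_centralizer_iff.2 fun s hs =>
    hT.tor.comm s (clSub_le hT.tor.closed (Sker_le a v L) hs) x hx
  have hsolC : IsSol C := by
    refine isSol_of_pos D a v hCc hTC hCp hT b fun j hj => ?_
    suffices h : j = k by rw [h]; exact hb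
    have hjH : j ∈ rootsIn D a v H' := fun r => (hj r).1
    obtain ⟨b', hb'⟩ := exists_sides_mem D j
    obtain ⟨n, m, eneg, epos, hneg, hpos⟩ := exists_enum D b'
    obtain ⟨i, rfl⟩ := hpos.2.symm.subset hb'
    have hjL := (mem_line_of_Cen a v L b' hneg hpos (y := 0) (t := 1) (c := Pi.single i 1) (by
      rw [uPe_zero, map_one, _root_.one_mul, _root_.one_mul, uPe_single]
      exact hZle (hj 1).2)).2 i (by simp)
    by_contra hne
    have hd : D.P.root (epos i) ≠ -D.P.root k := fun e => hR k hk (by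
      convert hjH using 1
      refine D.P.root.injective ?_
      rw [RootPairing.root_reflectionPerm, D.P.reflection_apply_self, e])
    have hind := RootPairing.IsReduced.linearIndependent (P := D.P) hne hd
    refine L.weight_ne_zero hL (LinearIndependent.pair_iff.1 hind (L.co (D.P.root k))
      (-L.co (D.P.root (epos i))) ?_).1
    rw [show D.P.root (epos i) = L.co (D.P.root (epos i)) • L.χ from hjL]
    conv_lhs => arg 2; rw [show D.P.root k = L.co (D.P.root k) • L.χ from hL]
    rw [map_zsmul, L.co_χ, smul_eq_mul, _root_.mul_one, smul_smul, smul_smul, ← add_smul]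
    simp [_root_.mul_comm]
  have hbor := hB.inf_centralizer hH hHc hTor hSB
  have e : C = B ⊓ Z := hbor.maximal C le_rfl hCc hCp hsolC (inf_le_inf_right _ hB.le)
  intro r
  have hmem : uEl D a v k r ∈ C := ⟨hk r, (by
    have h := rootSub_le_Cen a v L (s := L.roots) subset_rfl (uEl_mem_rootSub D a v hL r)
    rw [Cen_eq] at h
    exact h.2)⟩
  rw [e] at hmem
  exact hmem.1

variable (hconn : _root_.IsPreconnected (Set.univ : Set (Pt K A))) (hred : IsRedPts K A)
include hconn hred

/-- **The roots of a solvable subgroup lie in a system of positive roots.** -/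
theorem exists_sides_of_sol (hsol : IsSol H') : ∃ b : Sides D.P, rootsIn D a v H' ⊆ b.pos := by
  classical
  obtain ⟨b₀⟩ := exists_sides D.P
  obtain ⟨n₀, m₀, eneg, epos, hneg, hpos⟩ := exists_enum D b₀
  obtain ⟨B, hB, hBiff⟩ := isBor_bplus a v b₀ hconn hred hT hpos
  have hTB : Tsub D a v ≤ B := fun x ⟨t, ht⟩ => (hBiff x).2 ⟨t, 0, by rw [uPe_zero, _root_.mul_one]; exact ht.symm⟩
  obtain ⟨B', hB', hle, -⟩ := exists_bor_commute hconn hHc hsol (c := 1) fun h _ => by
    rw [_root_.one_mul, _root_.mul_one]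
  have htc := isClosed_top (K := K) (A := A) hconn
  have htp := isPreconnected_top'' (K := K) (A := A) hconn
  obtain ⟨g, hg, hgB⟩ := hB.exists_conj htc htp hB'
  have hmax : IsMaxTor B' (Tsub D a v) :=
    ⟨hTH.trans hle, hT.tor, fun T' _ h hle => hT.maximal T' le_top h hle⟩
  obtain ⟨x, hx, hxT⟩ := hmax.exists_conj_le hB'.closed hB'.conn
    (by rw [← hgB]; exact conjSub_mono hTB) (hT.tor.conjSub g)
  rw [conjSub_conjSub] at hxT
  set n := x * g with hn
  have hnB : conjSub n B = B' := by rw [← conjSub_conjSub, hgB, conjSub_eq_self hx]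
  obtain ⟨f, hfp, hfn⟩ := b₀.regular
  obtain ⟨lam, lamNeg, hlneg, hlam, hlamNeg⟩ := exists_lam D a v f
  let P : aP a K[T;T⁻¹] ⟶ G := cfam a v n * cochFam D a f * (cfam a v n)⁻¹
  have hP : ∀ z : Kˣ, fam a v P (gmPt z) = n * torusHom D a v (tc D a f z) * n⁻¹ := fun z => by
    rw [fam_mul, fam_mul, fam_inv, fam_cfam, fam_cochFam]
  have hmemT : ∀ z, n * torusHom D a v (tc D a f z) * n⁻¹ ∈ Tsub D a v := fun z => hxT (by
    rw [mem_conjSub, show n⁻¹ * (n * torusHom D a v (tc D a f z) * n⁻¹) * n = torusHom D a v (tc D a f z) by group]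
    exact ⟨_, rfl⟩)
  obtain ⟨τ, hτ⟩ := exists_torus_coord D a v P fun y => by
    obtain ⟨z, rfl⟩ := exists_gmPt y
    rw [hP]; exact hmemT z
  have hτz : ∀ z : Kˣ, n * torusHom D a v (tc D a f z) * n⁻¹ = torusHom D a v (aM a (gmPt z).ofConv ≫ τ) :=
    fun z => (hP z).symm.trans (hτ (gmPt z))
  have h1 : aM a (gmPt (1 : Kˣ)).ofConv ≫ τ = 1 := torusHom_injective D a v (by
    rw [← hτz, show torusHom D a v (tc D a f 1) = 1 from map_one (tcHom D a v f), map_one, _root_.mul_one,
      mul_inv_cancel])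
  choose N hN using fun m : D.M => exists_zpow D a τ m (by rw [h1, ch_one]; rfl)
  have hNadd : ∀ m m' : D.M, N (m + m') = N m + N m' := fun m m' => by
    by_contra hne
    obtain ⟨z, hz⟩ := exists_units_zpow_ne_one K (sub_ne_zero.2 hne)
    exact hz (by rw [zpow_sub, ← hN, zpow_add, ← hN, ← hN, ofAdd_add, map_mul, mul_inv_cancel])
  set f' : D.M →ₗ[ℤ] ℤ := (AddMonoidHom.mk' N hNadd).toIntLinearMap with hf'
  have hf'z : ∀ z : Kˣ, n * torusHom D a v (tc D a f z) * n⁻¹ = torusHom D a v (tc D a f' z) := fun z => by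
    rw [hτz]
    congr 1
    refine ch_injective D a (MonoidHom.ext fun m => ?_)
    rw [show m = Multiplicative.ofAdd (Multiplicative.toAdd m) from rfl, ch_cochT, hN]
    rfl
  have key : ∀ k ∈ rootsIn D a v H', 0 < f' (D.P.root k) := by
    intro k hk
    set w := n⁻¹ * uEl D a v k 1 * n with hw
    obtain ⟨t, c, hwtc⟩ := (hBiff w).1 (by
      have : uEl D a v k 1 ∈ conjSub n B := hnB.symm ▸ hle (hk 1)
      exact mem_conjSub.1 this)
    have hconj : ∀ z : Kˣ, torusHom D a v (tc D a f z) * w * (torusHom D a v (tc D a f z))⁻¹ =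
        n⁻¹ * uEl D a v k ((z ^ f' (D.P.root k) : Kˣ) : K) * n := fun z => by
      have h := conj_uEl D a v k (tc D a f' z) 1
      rw [ch_cochT, _root_.mul_one, ← hf'z] at h
      rw [← h, hw]
      group
    have hwne : w ≠ 1 := fun h => uEl_notMem_Tsub (D := D) a v (k := k) (r := 1) one_ne_zero (by
      rw [show uEl D a v k 1 = n * w * n⁻¹ by rw [hw]; group, h, _root_.mul_one, mul_inv_cancel]
      exact Subgroup.one_mem _)
    rcases lt_trichotomy (f' (D.P.root k)) 0 with hlt | heq | hgt
    · exfalso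
      refine hwne ?_
      have hex : Dyn.LimExists K A lam K w.ofConv := by
        rw [hwtc]
        exact (limExists_of_nonneg D a v hlam epos
          (fun i => (hfp _ (hpos.2.subset (Set.mem_range_self i))).le) t c).1
      obtain ⟨d, hd, hd0⟩ : ∃ d : ℕ, f' (D.P.root k) = -(d : ℤ) ∧ d ≠ 0 :=
        ⟨(-f' (D.P.root k)).toNat, by omega, by omega⟩
      let Q : aP a (Polynomial K) ⟶ G := cfam a v n⁻¹ * el a (D.u k) (Polynomial.X ^ d) * cfam a v n
      have hQ : ∀ z : K, pull (ptR a v Q) (linePt z) = n⁻¹ * uEl D a v k (z ^ d) * n := fun z => by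
        refine ((ptG_aM a v _ _).symm : _).trans ?_
        show fam a v Q (linePt z) = _
        rw [fam_mul, fam_mul, fam_cfam, fam_cfam, fam_el]
        congr 3
        simp [linePt]
      have hone := (limExists_of_family lamNeg w (ptR a v Q) fun z => by
        rw [hQ, hlamNeg, hlamNeg, ← tc_inv, ← tc_inv, inv_inv, show torusHom D a v (tc D a f z) =
          (torusHom D a v (tc D a f z⁻¹))⁻¹ by
            rw [eq_inv_iff_mul_eq_one, ← map_mul, ← tc_mul, mul_inv_cancel]
            exact map_one (tcHom D a v f), hconj, hd, inv_zpow', neg_neg, zpow_natCast,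
          Units.val_pow_eq_pow_val]).2 (by rw [hQ, zero_pow hd0, uEl_zero, _root_.mul_one, inv_mul_cancel])
      exact Groth.Agent.DynLib.eq_one_of_both lam hlneg w.ofConv hex hone
    · exfalso
      have hc0 : c = 0 := funext fun i => by
        by_contra hci
        obtain ⟨z, hz⟩ := exists_units_zpow_ne_one K (hfp _ (hpos.2.subset (Set.mem_range_self i))).ne'
        have h := hconj z
        rw [heq, zpow_zero, Units.val_one, ← hw, hwtc] at h
        rw [show torusHom D a v (tc D a f z) * (torusHom D a v t * uPe D a v epos c) *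
            (torusHom D a v (tc D a f z))⁻¹ = torusHom D a v t * (torusHom D a v (tc D a f z) *
              uPe D a v epos c * (torusHom D a v (tc D a f z))⁻¹) by
          rw [← _root_.mul_assoc, ← map_mul, torus_comm, map_mul]; group, conj_uPe] at h
        have h2 := congrFun (uPe_injective a v b₀ hpos.1 (fun i => hpos.2.subset (Set.mem_range_self i))
          (mul_left_cancel h)) i
        rw [ch_cochT] at h2
        exact hz (Units.ext (mul_right_cancel₀ hci (h2.trans (_root_.one_mul _).symm)))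
      refine uEl_notMem_Tsub (D := D) a v (k := k) (r := 1) one_ne_zero (hxT ?_)
      rw [mem_conjSub, ← hw, hwtc, hc0, uPe_zero, _root_.mul_one]
      exact ⟨t, rfl⟩
    · exact hgt
  set M : ℤ := 1 + ∑ j, |f (D.P.root j)| with hM
  have hMf : ∀ j, |f (D.P.root j)| < M := fun j => by
    have := Finset.single_le_sum (f := fun j => |f (D.P.root j)|) (fun x _ => abs_nonneg _) (Finset.mem_univ j)
    omega
  have hreg : ∀ j, f (D.P.root j) ≠ 0 := fun j => (b₀.total j).elim (fun h => (hfp j h).ne') fun h => (hfn j h).ne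
  have hne : ∀ j, (M • f' + f) (D.P.root j) ≠ 0 := fun j h => by
    simp only [LinearMap.add_apply, LinearMap.smul_apply, smul_eq_mul] at h
    have h2 := abs_lt.1 (hMf j)
    rcases lt_trichotomy (f' (D.P.root j)) 0 with hs | hs | hs
    · nlinarith
    · exact hreg j (by rw [hs] at h; simpa using h)
    · nlinarith
  refine ⟨⟨{j | 0 < (M • f' + f) (D.P.root j)}, {j | (M • f' + f) (D.P.root j) < 0}, ⟨_, fun _ h => h, fun _ h => h⟩,
    fun j => (lt_or_gt_of_ne (hne j)).symm⟩, fun k hk => ?_⟩
  show 0 < (M • f' + f) (D.P.root k)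
  simp only [LinearMap.add_apply, LinearMap.smul_apply, smul_eq_mul]
  have := key k hk
  have := abs_lt.1 (hMf k)
  nlinarith

end RootSubgrp

end
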