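import Groth.Agent.RootSubgrpLib.Dyn
import Groth.Agent.SplitFibLib.Maximal

/-!
# The points of a closed subgroup containing the torus in the coordinates of the big cell
-/

set_option autoImplicit false
set_option linter.style.haveILetI false
set_option linter.unusedSectionVars false
set_option backward.isDefEq.respectTransparency false
set_option maxHeartbeats 1000000
set_option synthInstance.maxHeartbeats 400000

universe u

open CategoryTheory CategoryTheory.Limits MonoidalCategory CartesianMonoidalCategory AlgebraicGeometry WithConv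
open scoped MonObj LaurentPolynomial
open CoactBr (sp)
open Groth.Agent.BorelLib

noncomputable section

attribute [-instance] CategoryTheory.Hom.commGroup

namespace RootSubgrp

attribute [local instance] pTop pTopTensor

open SplitCell SplitFib

/-- Enumerations split recursively by functionals. -/
inductive Good {S : Scheme.{u}} {G : Over S} [GrpObj G] (D : Red.SplitRed G) : {l : ℕ} → (Fin l → D.idx) → Prop
  | empty (e : Fin 0 → D.idx) : Good D e
  | single (e : Fin 1 → D.idx) : Good D e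
  | node {l l' : ℕ} {e : Fin l → D.idx} {e' : Fin l' → D.idx} (g : D.M →ₗ[ℤ] ℤ)
      (hneg : ∀ i, g (D.P.root (e i)) < 0) (hpos : ∀ i, 0 < g (D.P.root (e' i)))
      (h : Good D e) (h' : Good D e') : Good D (Fin.append e e')

variable {S : Scheme.{u}} {G : Over S} [GrpObj G] (D : Red.SplitRed G) {K : Type u} [Field K] [IsAlgClosed K]
  (a : Spec (CommRingCat.of K) ⟶ S) {A : Type u} [CommRing A] [HopfAlgebra K A] [Algebra.FiniteType K A]
  (v : sp K A ≅ Red.bc a G) [IsMonHom v.hom] [_root_.IsReduced A] [IsAffine (Red.bc a G).left] [Smooth (Red.bc a G).hom]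

theorem gmPt_eq (z : Kˣ) :
    gmPt z = toConv (Groth.Agent.DynLib.ev (Algebra.ofId K K) z) := by
  refine WithConv.ext (Groth.Agent.DynLib.hom_ext fun n r => ?_)
  show evT (R := K) z (AddMonoidAlgebra.single n r) = Groth.Agent.DynLib.ev (Algebra.ofId K K) z _
  rw [Groth.Agent.DynLib.ev_single, LaurentPolynomial.single_eq_C_mul_T, map_mul, evT_C, evT_T]
  rfl

theorem gmPt_mul (z w : Kˣ) : gmPt (z * w) = gmPt z * gmPt w := by
  refine WithConv.ext (Groth.Agent.DynLib.hom_ext fun n r => ?_)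
  show (gmPt (z * w)).ofConv _ = (gmPt z * gmPt w) (AddMonoidAlgebra.single n r)
  rw [AlgHom.convMul_apply, AddMonoidAlgebra.comul_single, gmPt_eq, gmPt_eq, gmPt_eq]
  simp only [CommSemiring.comul_apply, TensorProduct.map_tmul, ofConv_toConv, Algebra.TensorProduct.lift_tmul,
    AddMonoidAlgebra.lsingle_apply, Groth.Agent.DynLib.ev_single, map_one, mul_zpow, Units.val_mul]
  ring

theorem gmPt_one : gmPt (1 : Kˣ) = 1 := by
  have h := gmPt_mul (1 : Kˣ) 1
  rw [_root_.one_mul] at h
  exact mul_left_cancel (h.symm.trans (_root_.mul_one _).symm)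

theorem pull_invert_gmPt (z : Kˣ) :
    pull ((LaurentPolynomial.invert (R := K)).toAlgHom) (gmPt z) = gmPt z⁻¹ := by
  refine WithConv.ext (Groth.Agent.DynLib.hom_ext fun n r => ?_)
  show (gmPt z).ofConv (LaurentPolynomial.invert (AddMonoidAlgebra.single n r)) = (gmPt z⁻¹).ofConv _
  rw [gmPt_eq, gmPt_eq, show (LaurentPolynomial.invert (AddMonoidAlgebra.single n r) : K[T;T⁻¹]) =
      AddMonoidAlgebra.single (-n) r by
    rw [LaurentPolynomial.single_eq_C_mul_T, map_mul, LaurentPolynomial.invert_C, LaurentPolynomial.invert_T,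
      LaurentPolynomial.single_eq_C_mul_T]]
  simp only [ofConv_toConv, Groth.Agent.DynLib.ev_single, inv_zpow']

theorem tc_inv (f : D.M →ₗ[ℤ] ℤ) (z : Kˣ) : tc D a f z⁻¹ = tc D a (-f) z := by
  refine ch_injective D a (MonoidHom.ext fun m => ?_)
  rw [show m = Multiplicative.ofAdd (Multiplicative.toAdd m) from rfl, ch_cochT, ch_cochT, LinearMap.neg_apply,
    inv_zpow']

/-- The one-parameter subgroup of a functional, as a map of bialgebras. -/
theorem exists_lam (f : D.M →ₗ[ℤ] ℤ) : ∃ lam lamNeg : A →ₐc[K] K[T;T⁻¹],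
    (lamNeg : A →ₐ[K] K[T;T⁻¹]) = Dyn.negParam K A lam ∧
      (∀ z, Groth.Agent.DynLib.lamAt lam z = torusHom D a v (tc D a f z)) ∧
      ∀ z, Groth.Agent.DynLib.lamAt lamNeg z = torusHom D a v (tc D a (-f) z) := by
  let φ : A →ₐ[K] K[T;T⁻¹] := ptR a v (cochFam D a f)
  have hφ : ∀ z : Kˣ, pull φ (gmPt z) = tcHom D a v f z := fun z =>
    ((ptG_aM a v _ _).symm.trans (fam_cochFam D a v f z) : _)
  have hmul : ∀ x y : Pt K K[T;T⁻¹], pull φ (x * y) = pull φ x * pull φ y := fun x y => by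
    obtain ⟨z, rfl⟩ := exists_gmPt x
    obtain ⟨w, rfl⟩ := exists_gmPt y
    rw [← gmPt_mul, hφ, hφ, hφ, map_mul]
  obtain ⟨lam, hlam⟩ := exists_bialgHom_of_pts φ (by rw [← gmPt_one, hφ, map_one]) hmul
  let φ' : A →ₐ[K] K[T;T⁻¹] := (LaurentPolynomial.invert (R := K)).toAlgHom.comp φ
  have hφ' : ∀ z : Kˣ, pull φ' (gmPt z) = tcHom D a v f z⁻¹ := fun z => by
    rw [pull_comp, pull_invert_gmPt, hφ]
  obtain ⟨lamNeg, hlamNeg⟩ := exists_bialgHom_of_pts φ' (by rw [← gmPt_one, hφ', inv_one, map_one]) fun x y => by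
    obtain ⟨z, rfl⟩ := exists_gmPt x
    obtain ⟨w, rfl⟩ := exists_gmPt y
    rw [← gmPt_mul, hφ', hφ', hφ', _root_.mul_inv, map_mul]
  refine ⟨lam, lamNeg, by rw [hlamNeg]; show _ = _; rw [Dyn.negParam, hlam], fun z => ?_, fun z => ?_⟩
  · show toConv ((Groth.Agent.DynLib.ev (Algebra.ofId K K) z).comp (lam : A →ₐ[K] K[T;T⁻¹])) = _
    rw [hlam]
    refine Eq.trans ?_ (hφ z)
    rw [gmPt_eq]
    rfl
  · show toConv ((Groth.Agent.DynLib.ev (Algebra.ofId K K) z).comp (lamNeg : A →ₐ[K] K[T;T⁻¹])) = _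
    rw [hlamNeg, ← tc_inv]
    refine Eq.trans ?_ (hφ' z)
    rw [gmPt_eq]
    rfl

/-- **Non-negative weights contract.** -/
theorem limExists_of_nonneg {g : D.M →ₗ[ℤ] ℤ} {lam : A →ₐc[K] K[T;T⁻¹]}
    (hlam : ∀ z, Groth.Agent.DynLib.lamAt lam z = torusHom D a v (tc D a g z)) {l : ℕ} (e : Fin l → D.idx)
    (he : ∀ i, 0 ≤ g (D.P.root (e i))) (t : aP a K ⟶ D.T) (c : Fin l → K) :
    Dyn.LimExists K A lam K (torusHom D a v t * uPe D a v e c).ofConv ∧
      (t = 1 → (∀ i, 0 < g (D.P.root (e i))) →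
        Dyn.LimIsOne K A lam K (torusHom D a v t * uPe D a v e c).ofConv) := by
  have hd : ∀ i, ∃ d : ℕ, g (D.P.root (e i)) = d := fun i => ⟨_, (Int.toNat_of_nonneg (he i)).symm⟩
  choose d hd using hd
  let P : aP a (Polynomial K) ⟶ G := cfam a v (torusHom D a v t) *
    pe a (fun i => D.u (e i)) fun i => Polynomial.C (c i) * Polynomial.X ^ d i
  have hP : ∀ z : K, fam a v P (linePt z) = torusHom D a v t * uPe D a v e fun i => c i * z ^ d i := fun z => by
    rw [fam_mul, fam_cfam, fam_pe]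
    congr 1
    congr 1
    funext i
    simp [linePt]
  have hfam : ∀ z : K, pull (ptR a v P) (linePt z) = fam a v P (linePt z) := fun z => (ptG_aM a v _ _).symm
  have key := limExists_of_family lam (torusHom D a v t * uPe D a v e c) (ptR a v P) fun z => by
    rw [hfam, hP, hlam, hlam, show tc D a g z⁻¹ = (tc D a g z)⁻¹ from map_inv (MonoidHom.mk' (tc D a g) (tc_mul D a g)) z,
      map_inv]
    have hs : torusHom D a v (tc D a g z) * torusHom D a v t =
        torusHom D a v t * torusHom D a v (tc D a g z) := by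
      rw [← map_mul, ← map_mul, torus_comm]
    rw [← _root_.mul_assoc (torusHom D a v (tc D a g z)), hs, _root_.mul_assoc, _root_.mul_assoc,
      ← _root_.mul_assoc (torusHom D a v (tc D a g z)), conj_uPe]
    congr 2
    funext i
    rw [ch_cochT, hd i, zpow_natCast, Units.val_pow_eq_pow_val, _root_.mul_comm]
  refine ⟨key.1, fun ht hpos => key.2 ?_⟩
  rw [hfam, hP, ht, map_one, _root_.one_mul, show (fun i => c i * (0 : K) ^ d i) = 0 from funext fun i => by
    have : d i ≠ 0 := fun h => by have := hpos i; rw [hd i, h] at this; simp at this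
    simp [zero_pow this], uPe_zero]

variable (H' : Subgroup (Pt K A))

/-- The root groups contained in a subgroup. -/
def rootsIn : Set D.idx := {k | ∀ r, uEl D a v k r ∈ H'}

variable {H'} (hH : IsClosed (H' : Set (Pt K A))) (hTH : Tsub D a v ≤ H')
include hH hTH

/-- **A factorisation by weights stays in the subgroup.** -/
theorem split_mem (g : D.M →ₗ[ℤ] ℤ) {l l' : ℕ} {e : Fin l → D.idx} {e' : Fin l' → D.idx}
    (he : ∀ i, g (D.P.root (e i)) < 0) (he' : ∀ i, 0 ≤ g (D.P.root (e' i))) (c : Fin l → K) (t : aP a K ⟶ D.T)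
    (c' : Fin l' → K) (h : uPe D a v e c * (torusHom D a v t * uPe D a v e' c') ∈ H') :
    uPe D a v e c ∈ H' ∧ uPe D a v e' c' ∈ H' := by
  obtain ⟨lam, lamNeg, hneg, hlam, hlamNeg⟩ := exists_lam D a v g
  have hu := (limExists_of_nonneg D a v hlamNeg e (fun i => by
    show 0 ≤ -(g (D.P.root (e i)))
    have := he i; omega) 1 c).2 rfl fun i => by
    show 0 < -(g (D.P.root (e i)))
    have := he i; omega
  rw [map_one, _root_.one_mul] at hu
  have hp := (limExists_of_nonneg D a v hlam e' he' t c').1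
  obtain ⟨h1, h2⟩ := factor_mem lam lamNeg hneg hH (fun z => hTH ⟨_, (hlam z).symm⟩) hu hp h
  exact ⟨h1, (H'.mul_mem_cancel_left (hTH ⟨t, rfl⟩)).1 h2⟩

/-- A root element in the subgroup brings the root group. -/
theorem mem_rootsIn {k : D.idx} {r : K} (hr : r ≠ 0) (h : uEl D a v k r ∈ H') : k ∈ rootsIn D a v H' := by
  intro s
  rcases eq_or_ne s 0 with rfl | hs
  · rw [uEl_zero]; exact H'.one_mem
  obtain ⟨f, hf⟩ : ∃ f : D.M →ₗ[ℤ] ℤ, f (D.P.root k) ≠ 0 := by
    obtain ⟨b⟩ := exists_sides D.P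
    obtain ⟨f, hp, hn⟩ := b.regular
    rcases b.total k with hk | hk
    exacts [⟨f, (hp _ hk).ne'⟩, ⟨f, (hn _ hk).ne⟩]
  obtain ⟨N, hN0, hN⟩ : ∃ N : ℕ, N ≠ 0 ∧ (f (D.P.root k) = N ∨ f (D.P.root k) = -(N : ℤ)) :=
    ⟨(f (D.P.root k)).natAbs, Int.natAbs_ne_zero.2 hf, Int.natAbs_eq _⟩
  obtain ⟨z, hz⟩ := exists_units_pow_eq (Units.mk0 (s / r) (div_ne_zero hs hr)) hN0
  obtain ⟨w, hw⟩ : ∃ w : Kˣ, w ^ f (D.P.root k) = Units.mk0 (s / r) (div_ne_zero hs hr) := by
    rcases hN with e | e
    · exact ⟨z, by rw [e, zpow_natCast, hz]⟩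
    · exact ⟨z⁻¹, by rw [e, zpow_neg, inv_zpow, inv_inv, zpow_natCast, hz]⟩
  have := H'.mul_mem (H'.mul_mem (hTH ⟨tc D a f w, rfl⟩) h) (H'.inv_mem (hTH ⟨tc D a f w, rfl⟩))
  rw [conj_uEl, ch_cochT, hw, Units.val_mk0, div_mul_cancel₀ s hr] at this
  exact this

/-- **The coordinates of a point of the subgroup are supported on its roots.** -/
theorem Good.supp {l : ℕ} {e : Fin l → D.idx} (he : Good D e) :
    ∀ c, uPe D a v e c ∈ H' → ∀ i, c i ≠ 0 → e i ∈ rootsIn D a v H' := by
  induction he with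
  | empty e => exact fun _ _ i => i.elim0
  | single e =>
    intro c hc i hi
    rw [Subsingleton.elim i 0] at hi ⊢
    refine mem_rootsIn D a v hH hTH hi ?_
    rwa [show c = Pi.single 0 (c 0) from funext fun j => by rw [Subsingleton.elim j 0, Pi.single_eq_same],
      uPe_single] at hc
  | @node l l' e e' g hneg hpos _ _ ih ih' =>
    intro c hc
    have hsplit : uPe D a v (Fin.append e e') c = uPe D a v e (fun i => c (Fin.castAdd l' i)) *
        (torusHom D a v 1 * uPe D a v e' fun i => c (Fin.natAdd l i)) := by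
      rw [map_one, _root_.one_mul]
      show ptG a v _ = ptG a v _ * ptG a v _
      rw [← map_mul, ← pe_append]
      congr 2
      · funext i
        induction i using Fin.addCases with
        | left i => simp only [Fin.append_left]
        | right i => simp only [Fin.append_right]
      · exact (Fin.append_castAdd_natAdd).symm
    rw [hsplit] at hc
    obtain ⟨h1, h2⟩ := split_mem D a v hH hTH g hneg (fun i => (hpos i).le) _ 1 _ hc
    intro i
    induction i using Fin.addCases with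
    | left i => rw [Fin.append_left]; exact ih _ h1 i
    | right i => simp only [Fin.append_right]; exact ih' _ h2 i

/-- **The points of the subgroup in the cell.** -/
theorem cell_supp (b : Sides D.P) {n m : ℕ} {eneg : Fin n → D.idx} {epos : Fin m → D.idx}
    (hn : ∀ i, eneg i ∈ b.neg) (hp : ∀ i, epos i ∈ b.pos) (gn : Good D eneg) (gp : Good D epos)
    (y : Fin n → K) (t : aP a K ⟶ D.T) (c : Fin m → K)
    (h : uPe D a v eneg y * (torusHom D a v t * uPe D a v epos c) ∈ H') :
    (∀ i, y i ≠ 0 → eneg i ∈ rootsIn D a v H') ∧ ∀ i, c i ≠ 0 → epos i ∈ rootsIn D a v H' := by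
  obtain ⟨f, hfp, hfn⟩ := b.regular
  obtain ⟨h1, h2⟩ := split_mem D a v hH hTH f (fun i => hfn _ (hn i)) (fun i => (hfp _ (hp i)).le) y t c h
  exact ⟨gn.supp D a v hH hTH y h1, gp.supp D a v hH hTH c h2⟩

end RootSubgrp

end
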