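import Groth.Agent.DynLib.Open
import Groth.Agent.DynLib.Functorial
import Groth.Agent.BorelLib.Frame
import Groth.Agent.HopfFFLib.Nilradical

/-!
# Factorisations in a closed subgroup under a one-parameter subgroup
-/

set_option autoImplicit false
set_option linter.style.haveILetI false
set_option linter.unusedSectionVars false
set_option backward.isDefEq.respectTransparency false
set_option maxHeartbeats 1000000
set_option synthInstance.maxHeartbeats 400000

universe u

open LaurentPolynomial TensorProduct WithConv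
open Groth.Agent.BorelLib
open Groth.Agent (DynLib.lamAt)

noncomputable section

namespace RootSubgrp

open Groth.Agent

attribute [local instance] pTop pTopTensor

variable {K : Type u} [Field K] [IsAlgClosed K] {A : Type u} [CommRing A] [HopfAlgebra K A]

/-- An algebra map which is multiplicative on points is a map of bialgebras. -/
theorem exists_bialgHom_of_pts {C : Type u} [CommRing C] [HopfAlgebra K C] [Algebra.FiniteType K C]
    [_root_.IsReduced C] (φ : A →ₐ[K] C) (h1 : pull φ (1 : Pt K C) = 1)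
    (hmul : ∀ x y : Pt K C, pull φ (x * y) = pull φ x * pull φ y) :
    ∃ f : A →ₐc[K] C, (f : A →ₐ[K] C) = φ := by
  haveI : _root_.IsReduced (C ⊗[K] C) := Groth.Agent.HopfFF.isReduced_tensor_of_perfectField K C C
  refine ⟨BialgHom.ofAlgHom φ (AlgHom.ext fun a => ?_) (AlgHom.ext fun a => ?_), rfl⟩
  · have h := congrArg (fun z : Pt K A => z.ofConv a) h1
    simpa [AlgHom.convOne_apply] using h
  · rw [AlgHom.comp_apply, AlgHom.comp_apply, Bialgebra.comulAlgHom_apply, Bialgebra.comulAlgHom_apply,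
      ← sub_eq_zero]
    refine BorelLib.eq_zero_of_forall_pair (k := K) fun x y => ?_
    have e : ∀ t : A ⊗[K] A, (pair x y).ofConv (Algebra.TensorProduct.map φ φ t) =
        (pair (pull φ x) (pull φ y)).ofConv t := fun t => by
      induction t using TensorProduct.induction_on with
      | zero => simp
      | add p q hp hq => simp only [map_add, hp, hq]
      | tmul p q => simp
    rw [map_sub, sub_eq_zero, e, ← mul_ofConv, ← mul_ofConv, ← hmul]
    rfl

/-- An algebra map factoring through a surjection of bialgebras. -/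
theorem exists_lift_bialgHom {B C : Type u} [CommRing B] [HopfAlgebra K B] [CommRing C] [HopfAlgebra K C]
    [Algebra.FiniteType K C] [_root_.IsReduced C] (ψ : A →ₐc[K] B) (hψ : Function.Surjective ψ)
    (l : A →ₐc[K] C) (hker : ∀ a, ψ a = 0 → l a = 0) :
    ∃ l' : B →ₐc[K] C, l'.comp ψ = l := by
  obtain ⟨φ, hφ⟩ : ∃ φ : B →ₐ[K] C, φ.comp (ψ : A →ₐ[K] B) = (l : A →ₐ[K] C) := by
    let e := Ideal.quotientKerAlgEquivOfSurjective (f := (ψ : A →ₐ[K] B)) hψ
    let q := Ideal.Quotient.liftₐ (RingHom.ker (ψ : A →ₐ[K] B)) (l : A →ₐ[K] C) fun a ha => hker a ha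
    refine ⟨q.comp e.symm.toAlgHom, AlgHom.ext fun a => ?_⟩
    have he : e.symm ((ψ : A →ₐ[K] B) a) = Ideal.Quotient.mk _ a := (AlgEquiv.symm_apply_eq _).2 rfl
    show q (e.symm ((ψ : A →ₐ[K] B) a)) = _
    rw [he]
    rfl
  have hinj : Function.Injective (pull (ψ : A →ₐ[K] B) : Pt K B → Pt K A) := pull_injective_of_surjective hψ
  have hp : ∀ x : Pt K C, pull (ψ : A →ₐ[K] B) (pull φ x) = pull (l : A →ₐ[K] C) x := fun x => by
    rw [← pull_comp, hφ]
  have hone : ∀ {D : Type u} [CommRing D] [HopfAlgebra K D] (g : A →ₐc[K] D),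
      pull (g : A →ₐ[K] D) (1 : Pt K D) = 1 := fun g => map_one (DynLib.pull g (R := K))
  have hmul : ∀ {D : Type u} [CommRing D] [HopfAlgebra K D] (g : A →ₐc[K] D) (x y : Pt K D),
      pull (g : A →ₐ[K] D) (x * y) = pull (g : A →ₐ[K] D) x * pull (g : A →ₐ[K] D) y :=
    fun g x y => map_mul (DynLib.pull g (R := K)) x y
  obtain ⟨l', hl'⟩ := exists_bialgHom_of_pts φ (hinj (by rw [hp, hone, hone]))
    fun x y => hinj (by rw [hp, hmul, hmul, hp, hp])
  refine ⟨l', BialgHom.ext fun a => ?_⟩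
  exact (DFunLike.congr_fun hl' _).trans (DFunLike.congr_fun hφ a)

/-- A point of the punctured line is an evaluation. -/
theorem exists_eq_ev (x : Pt K K[T;T⁻¹]) : ∃ z : Kˣ, x.ofConv = DynLib.ev (Algebra.ofId K K) z := by
  refine ⟨Units.map x.ofConv.toRingHom.toMonoidHom (DynLib.unitT K), DynLib.hom_ext fun n r => ?_⟩
  rw [DynLib.ev_single, single_eq_C_mul_T, map_mul, ← map_zpow]
  show x.ofConv (algebraMap K _ r) * x.ofConv (T n) = algebraMap K K r * x.ofConv ((DynLib.unitT K ^ n : (K[T;T⁻¹])ˣ) : K[T;T⁻¹])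
  rw [DynLib.unitT_zpow, AlgHom.commutes]

variable (lam : A →ₐc[K] K[T;T⁻¹])

/-- A family over the line extending the orbit. -/
theorem limExists_of_family (g : Pt K A) (φ : A →ₐ[K] Polynomial K)
    (hφ : ∀ z : Kˣ, pull φ (linePt (z : K)) = DynLib.lamAt lam z * g * DynLib.lamAt lam z⁻¹) :
    Dyn.LimExists K A lam K g.ofConv ∧ (pull φ (linePt 0) = 1 → Dyn.LimIsOne K A lam K g.ofConv) := by
  letI := DynLib.pointsGroup (k := K) (A := A) (R := K)
  have key : DynLib.push (DynLib.toL K K) (toConv φ) = DynLib.orbit K lam g := by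
    refine WithConv.ext (AlgHom.ext fun a => sub_eq_zero.1 (BorelLib.eq_zero_of_forall (k := K) fun x => ?_))
    obtain ⟨z, hz⟩ := exists_eq_ev x
    rw [hz, map_sub, sub_eq_zero]
    have hg : DynLib.push (DynLib.ev (Algebra.ofId K K) z) (DynLib.orbit K lam g) =
        DynLib.lamAt lam z * g * DynLib.lamAt lam z⁻¹ := by
      rw [DynLib.ev_orbit, DynLib.lamAt_inv]
      exact congrArg (fun w => DynLib.lamAt lam z * w * (DynLib.lamAt lam z)⁻¹)
        (WithConv.ext (AlgHom.ext fun _ => rfl))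
    have ht : (DynLib.ev (Algebra.ofId K K) z).comp (DynLib.toL K K) = Polynomial.aeval (z : K) := by
      refine Polynomial.algHom_ext ?_
      show DynLib.ev (Algebra.ofId K K) z (Polynomial.toLaurent Polynomial.X) = Polynomial.aeval (z : K) Polynomial.X
      rw [Polynomial.toLaurent_X, DynLib.ev_T, zpow_one, Polynomial.aeval_X]
    refine Eq.trans ?_ (congrArg (fun w : Pt K A => w.ofConv a) ((hφ z).trans hg.symm))
    exact DFunLike.congr_fun ht (φ a)
  refine ⟨(DynLib.limExists_iff lam g.ofConv).2 ⟨toConv φ, key⟩, fun h0 =>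
    (DynLib.limIsOne_iff lam g.ofConv).2 ⟨toConv φ, key, ?_⟩⟩
  refine Eq.trans (WithConv.ext (AlgHom.ext fun a => ?_)) h0
  rfl

variable [Algebra.FiniteType K A] (lamNeg : A →ₐc[K] K[T;T⁻¹])

/-- **The factors of a point of a closed subgroup lie in it.** -/
theorem factor_mem (hneg : (lamNeg : A →ₐ[K] K[T;T⁻¹]) = Dyn.negParam K A lam) {H' : Subgroup (Pt K A)}
    (hH : IsClosed (H' : Set (Pt K A))) (hlam : ∀ z : Kˣ, DynLib.lamAt lam z ∈ H') {u p : Pt K A}
    (hu : Dyn.LimIsOne K A lamNeg K u.ofConv) (hp : Dyn.LimExists K A lam K p.ofConv) (hup : u * p ∈ H') :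
    u ∈ H' ∧ p ∈ H' := by
  obtain ⟨B, _, _, f, hBf, hBr, -, -, -, hrange, φ, hφs, hfφ⟩ := exists_frame hH
  obtain ⟨ψ, hψ⟩ := exists_bialgHom_of_pts φ (by rw [← hfφ, map_one]) (fun x y => by rw [← hfφ, ← hfφ, ← hfφ, map_mul])
  subst hψ
  have hsurj : Function.Surjective ψ := hφs
  have hker : ∀ a, ψ a = 0 → lam a = 0 := fun a ha => BorelLib.eq_zero_of_forall (k := K) fun x => by
    obtain ⟨z, hz⟩ := exists_eq_ev x
    obtain ⟨w, hw⟩ := hrange.symm.le (hlam z)
    rw [hz]
    refine (congrArg (fun q : Pt K A => q.ofConv a) hw).symm.trans ?_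
    rw [hfφ]
    show w.ofConv (ψ a) = 0
    rw [ha, map_zero]
  obtain ⟨lamB, hlamB⟩ := exists_lift_bialgHom ψ hsurj lam hker
  obtain ⟨lamNB, hlamNB⟩ := exists_lift_bialgHom ψ hsurj lamNeg fun a ha => by
    show (lamNeg : A →ₐ[K] K[T;T⁻¹]) a = 0
    rw [hneg]
    show invert (lam a) = 0
    rw [hker a ha, map_zero]
  have hnegB : (lamNB : B →ₐ[K] K[T;T⁻¹]) = Dyn.negParam K B lamB := by
    refine AlgHom.ext fun b => ?_
    obtain ⟨a, rfl⟩ := hsurj b
    show lamNB.comp ψ a = invert (lamB.comp ψ a)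
    rw [hlamB, hlamNB]
    exact DFunLike.congr_fun hneg a
  obtain ⟨W⟩ := DynLib.exists_weightRep K lam
  let WB : DynLib.WeightRep K lamB :=
    { ι := W.ι
      w := W.w
      t := W.t.map ψ
      comul := fun i j => by
        show CoalgebraStruct.comul (R := K) (ψ (W.t i j)) = _
        rw [← CoalgHomClass.map_comp_comul_apply, W.comul, map_sum]
        rfl
      counit := fun i j => by
        show CoalgebraStruct.counit (R := K) (ψ (W.t i j)) = _
        rw [CoalgHomClass.counit_comp_apply, W.counit]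
      lam_t := fun i j => by
        show lamB.comp ψ (W.t i j) = _
        rw [hlamB, W.lam_t]
      adjoin := by
        rw [eq_top_iff]
        rintro b -
        obtain ⟨a, rfl⟩ := hsurj b
        have ha : a ∈ Algebra.adjoin K (Set.range fun q : W.ι × W.ι => W.t q.1 q.2) := by rw [W.adjoin]; trivial
        have h : (ψ : A →ₐ[K] B) a ∈ (Algebra.adjoin K (Set.range fun q : W.ι × W.ι => W.t q.1 q.2)).map
            (ψ : A →ₐ[K] B) := ⟨a, ha, rfl⟩
        rwa [AlgHom.map_adjoin, ← Set.range_comp] at h }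
  obtain ⟨x, hx⟩ := hrange.symm.le hup
  have hcell : IsUnit (x.ofConv WB.cell) := by
    have h1 := W.isUnit_cell hneg hu hp
    rw [← hx, hfφ, W.point_cell] at h1
    rw [WB.point_cell]
    exact h1
  obtain ⟨uB, pB, hprod, huB, hpB⟩ := WB.exists_factor hnegB x hcell
  have hu' : Dyn.LimIsOne K A lamNeg K (f uB).ofConv := by
    rw [hfφ, ← hlamNB]
    exact DynLib.limIsOne_pull ψ lamNB _ huB
  have hp' : Dyn.LimExists K A lam K (f pB).ofConv := by
    rw [hfφ, ← hlamB]
    exact DynLib.limExists_pull ψ lamB _ hpB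
  obtain ⟨e1, e2⟩ := W.factor_unique hneg hu hp hu' hp' (by rw [← map_mul, hprod, hx])
  rw [e1, e2]
  exact ⟨hrange.le ⟨uB, rfl⟩, hrange.le ⟨pB, rfl⟩⟩

end RootSubgrp

end
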