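import Groth.Agent.RootSubgrpLib.Cell

/-!
# The root groups of the roots of a smooth subgroup factor through it
-/

set_option autoImplicit false
set_option linter.style.haveILetI false
set_option linter.unusedSectionVars false
set_option backward.isDefEq.respectTransparency false
set_option maxHeartbeats 1000000
set_option synthInstance.maxHeartbeats 400000

universe u

open CategoryTheory CategoryTheory.Limits MonoidalCategory CartesianMonoidalCategory AlgebraicGeometry
open Groth.Agent.GaPts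
open Groth.Agent.RankOne (comp_ptOf eq_ptOf)
open scoped MonObj LaurentPolynomial

noncomputable section

attribute [-instance] CategoryTheory.Hom.commGroup

namespace RootSubgrp

open SplitCell

variable {S : Scheme.{u}} [Nonempty S] {G H : Over S} [GrpObj G] [GrpObj H] (D : Red.SplitRed G) (h : H ⟶ G)
  [IsMonHom h] [Mono h] [Smooth H.hom] (t : D.T ⟶ H) (ht : t ≫ h = D.i)
  (hconn : ∀ s : S, ConnectedSpace ↥(Red.geomFibre s H).left)
  {n m : ℕ} (eneg : Fin n → D.idx) (epos : Fin m → D.idx) (b : Sides D.P)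
  (hneg : RedSub.Enumerates b.neg eneg) (hpos : RedSub.Enumerates b.pos epos) (gn : Good D eneg) (gp : Good D epos)
  {R₀ : Set D.idx} (hR₀ : ∀ (K : Type u) [Field K] [IsAlgClosed K] (ξ : Spec (CommRingCat.of K) ⟶ S),
    rootsAt D h ξ = R₀)
  {n' m' : ℕ} {σN : Fin n' → Fin n} {σP : Fin m' → Fin m} (hN : Function.Injective σN) (hP : Function.Injective σP)
  (rN : ∀ i, i ∈ Set.range σN ↔ eneg i ∈ R₀) (rP : ∀ i, i ∈ Set.range σP ↔ epos i ∈ R₀)
include ht hconn hneg hpos gn gp hR₀ hN hP rN rP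

/-- **The trace of the cell is the product of the root groups of the roots and the torus.** -/
theorem isIso_proj : IsIso (proj D h eneg epos σN σP) := by
  haveI := smooth_hCell D h eneg epos b hneg hpos
  haveI := smoothRel_cell D n' m'
  haveI : Smooth (src D n' m').hom := SmoothOfRelativeDimension.smooth (m' + Module.finrank ℤ D.M + n') _
  refine Groth.Agent.S18817.isIso_of_geom _ fun K _ _ ξ => ?_
  exact isIso_bc_proj D h eneg epos ξ b hneg hpos t ht hconn gn gp hN hP (fun i => by rw [hR₀ K ξ]; exact rN i)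
    (fun i => by rw [hR₀ K ξ]; exact rP i)

variable {R : Type u} [CommRing R] (a : Spec (CommRingCat.of R) ⟶ S)

omit ht hconn hneg hpos gn gp hR₀ hN hP rN rP in
theorem cpt_injective {k l : ℕ} {A : Type u} [CommRing A] [Algebra R A] {y y' : Fin k → A} {τ τ' : aP a A ⟶ D.T}
    {c c' : Fin l → A} (e : cpt D a y τ c = cpt D a y' τ' c') : y = y' ∧ τ = τ' ∧ c = c' := by
  have h1 := congrArg (· ≫ fst _ _) e
  have h2 := congrArg (· ≫ snd _ _ ≫ fst _ _) e
  have h3 := congrArg (· ≫ snd _ _ ≫ snd _ _) e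
  simp only [cpt, lift_fst, lift_snd_assoc, lift_snd] at h1 h2 h3
  exact ⟨pw_injective a h1, h2, pw_injective a h3⟩

omit ht hconn hneg hpos gn gp hR₀ hN hP rN rP in
theorem cpt_sel' {A : Type u} [CommRing A] [Algebra R A] (y : Fin n → A) (τ : aP a A ⟶ D.T) (c : Fin m → A) :
    cpt D a y τ c ≫ (sel σN ⊗ₘ (𝟙 D.T ⊗ₘ sel σP)) = cpt D a (y ∘ σN) τ (c ∘ σP) := by
  rw [cpt, lift_map, lift_map, pw_sel, pw_sel, Category.comp_id]
  rfl

omit ht hconn hneg hpos gn gp hR₀ hN hP rN rP in
theorem aM_cpt {k l : ℕ} {A A' : Type u} [CommRing A] [Algebra R A] [CommRing A'] [Algebra R A'] (φ : A →ₐ[R] A')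
    (y : Fin k → A) (τ : aP a A ⟶ D.T) (c : Fin l → A) :
    aM a φ ≫ cpt D a y τ c = cpt D a (fun i => φ (y i)) (aM a φ ≫ τ) (fun i => φ (c i)) := by
  rw [cpt, cpt, comp_lift, comp_lift, ← tup_pw, ← tup_pw, ← tup_pw, ← tup_pw, comp_tup, comp_tup]
  simp only [comp_ptOf, aM_cst]

/-- **A line of the source lifts with vanishing extra coordinates.** -/
theorem line_lift (z : aP a (Polynomial R) ⟶ hCell D h eneg epos) {k : D.idx}
    (hk : (∃ i, eneg (σN i) = k) ∨ ∃ i, epos (σP i) = k) (y₀ : Fin n' → Polynomial R) (c₀ : Fin m' → Polynomial R)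
    (hy₀ : ∀ i, y₀ i = 0 ∨ (y₀ i = Polynomial.X ∧ eneg (σN i) = k))
    (hc₀ : ∀ i, c₀ i = 0 ∨ (c₀ i = Polynomial.X ∧ epos (σP i) = k))
    (hz : z ≫ proj D h eneg epos σN σP = cpt D a y₀ 1 c₀) :
    z ≫ pullback.snd h _ = cpt D a (Function.extend σN y₀ 0) 1 (Function.extend σP c₀ 0) := by
  classical
  haveI := isIso_proj D h t ht hconn eneg epos b hneg hpos gn gp hR₀ hN hP rN rP
  haveI := isMonHom_i D
  haveI : D.P.IsReduced := by
    haveI : Nonempty S := inferInstance
    exact SplitFib.isReduced_root D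
  obtain ⟨y, τ, c, hw⟩ := exists_cpt D a (z ≫ pullback.snd h _)
  have hsel := hz
  rw [proj, ← reassoc_of% hw, cpt_sel'] at hsel
  obtain ⟨hy, hτ, hc⟩ := cpt_injective D a hsel
  subst hτ
  let L := (Polynomial R)[T;T⁻¹]
  let φ₁ : Polynomial R →ₐ[R] L := AlgHom.mk' LaurentPolynomial.C fun r p => by
    rw [Algebra.smul_def, Algebra.smul_def, map_mul]
    rfl
  have hweight : ∀ f : D.M →ₗ[ℤ] ℤ, ∀ φ₂ : Polynomial R →ₐ[R] L,
      φ₂ = Polynomial.aeval (LaurentPolynomial.C Polynomial.X * LaurentPolynomial.T (f (D.P.root k))) →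
      (∀ j, φ₂ (y j) = LaurentPolynomial.T (f (D.P.root (eneg j))) * LaurentPolynomial.C (y j)) ∧
        ∀ j, φ₂ (c j) = LaurentPolynomial.T (f (D.P.root (epos j))) * LaurentPolynomial.C (c j) := by
    intro f φ₂ hφ₂
    let zz := Units.map (cst a L).toMonoidHom (unitT (Polynomial R))
    let τg : aP a L ⟶ D.T := cochT D f (GmPts.ptOfUnit zz)
    have hτg : τg ≫ D.i = gel a (coch D f) (unitT (Polynomial R)) := cochT_comp D f _
    let P1 := aM a φ₁ ≫ z
    let qH : aP a L ⟶ H := (τg ≫ t) * (P1 ≫ pullback.fst h _) * (τg ≫ t)⁻¹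
    let ys : Fin n → L := fun j => (((unitT (Polynomial R)) ^ f (D.P.root (eneg j)) : Lˣ) : L) * φ₁ (y j)
    let cs : Fin m → L := fun j => (((unitT (Polynomial R)) ^ f (D.P.root (epos j)) : Lˣ) : L) * φ₁ (c j)
    have hP1 : P1 ≫ pullback.snd h _ = cpt D a (fun j => φ₁ (y j)) 1 (fun j => φ₁ (c j)) := by
      rw [Category.assoc, ← hw, aM_cpt, MonObj.comp_one]
    have hq : qH ≫ h = cpt D a ys 1 cs ≫ RedSub.cellMap D eneg epos := by
      rw [MonObj.mul_comp, MonObj.mul_comp, GrpObj.inv_comp, Category.assoc, Category.assoc, ht, pullback.condition,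
        reassoc_of% hP1, cpt_cellMap, cpt_cellMap, MonObj.one_comp, _root_.one_mul, _root_.one_mul, hτg,
        ← conj_pe a (hasWeights_coch D f eneg), ← conj_pe a (hasWeights_coch D f epos)]
      group
    let P2 := pullback.lift qH (cpt D a ys 1 cs) hq
    have hT : ∀ q : ℤ, (((unitT (Polynomial R)) ^ q : Lˣ) : L) = LaurentPolynomial.T q := fun q => by
      obtain ⟨k, rfl | rfl⟩ := Int.eq_nat_or_neg q
      · rw [zpow_natCast, Units.val_pow_eq_pow_val, unitT_val, LaurentPolynomial.T_pow, _root_.mul_one]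
      · rw [zpow_neg, zpow_natCast]
        refine Units.inv_eq_of_mul_eq_one_right ?_
        rw [Units.val_pow_eq_pow_val, unitT_val, LaurentPolynomial.T_pow, _root_.mul_one, ← LaurentPolynomial.T_add,
          add_neg_cancel, LaurentPolynomial.T_zero]
    have heq : P2 = aM a φ₂ ≫ z := by
      rw [← cancel_mono (proj D h eneg epos σN σP)]
      rw [Category.assoc, hz, aM_cpt, MonObj.comp_one, proj, pullback.lift_snd_assoc, cpt_sel']
      congr 1 <;> funext i
      · show (((unitT (Polynomial R)) ^ _ : Lˣ) : L) * φ₁ (y (σN i)) = _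
        rw [show y (σN i) = y₀ i from congrFun hy i, hT]
        rcases hy₀ i with e | ⟨e, e'⟩
        · rw [e, map_zero, map_zero, mul_zero]
        · rw [e, e', hφ₂, Polynomial.aeval_X]; exact _root_.mul_comm _ _
      · show (((unitT (Polynomial R)) ^ _ : Lˣ) : L) * φ₁ (c (σP i)) = _
        rw [show c (σP i) = c₀ i from congrFun hc i, hT]
        rcases hc₀ i with e | ⟨e, e'⟩
        · rw [e, map_zero, map_zero, mul_zero]
        · rw [e, e', hφ₂, Polynomial.aeval_X]; exact _root_.mul_comm _ _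
    have hcoord := congrArg (· ≫ pullback.snd h _) heq
    simp only [P2, pullback.lift_snd, Category.assoc, ← hw, aM_cpt] at hcoord
    obtain ⟨e1, -, e3⟩ := cpt_injective D a hcoord
    exact ⟨fun j => by rw [← hT]; exact (congrFun e1 j).symm, fun j => by rw [← hT]; exact (congrFun e3 j).symm⟩
  have hzero : ∀ (j : D.idx) (q : Polynomial R), j ≠ k →
      (∀ f : D.M →ₗ[ℤ] ℤ, Polynomial.aeval
        (LaurentPolynomial.C Polynomial.X * LaurentPolynomial.T (f (D.P.root k)) : L) q =
          LaurentPolynomial.T (f (D.P.root j)) * LaurentPolynomial.C q) → q = 0 := by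
    intro j q hjk hq
    refine Polynomial.ext fun n₀ => ?_
    rw [Polynomial.coeff_zero]
    by_contra hne
    have hall : ∀ f : D.M →ₗ[ℤ] ℤ, f (D.P.root j) = f ((n₀ : ℤ) • D.P.root k) := fun f => by
      by_contra hf
      refine hne (coeff_eq_zero_of_weight (N := f (D.P.root k)) (M := f (D.P.root j)) ?_ n₀ fun e => hf ?_)
      · refine Eq.trans ?_ ((hq f).trans (_root_.mul_comm _ _))
        rw [Polynomial.aeval_def]
        rfl
      · rw [map_zsmul, smul_eq_mul]; exact e.symm
    have heq : D.P.root j = (n₀ : ℤ) • D.P.root k :=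
      (Module.finBasis ℤ D.M).ext_elem fun i => hall ((Module.finBasis ℤ D.M).coord i)
    have hneg' : D.P.root j ≠ -D.P.root k := fun e => by
      have : ((n₀ : ℤ) + 1) • D.P.root k = 0 := by rw [add_smul, one_smul, ← heq, e, neg_add_cancel]
      rcases smul_eq_zero.1 this with h0 | h0
      · omega
      · exact D.P.ne_zero k h0
    have hind := RootPairing.IsReduced.linearIndependent (P := D.P) hjk hneg'
    exact one_ne_zero (LinearIndependent.pair_iff.1 hind 1 (-(n₀ : ℤ)) (by rw [one_smul, neg_smul, heq, add_neg_cancel])).1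
  have hext : ∀ {l l' : ℕ} {σ : Fin l' → Fin l} (_ : Function.Injective σ) (e : Fin l → D.idx)
      (w : Fin l → Polynomial R), (∀ j, e j ≠ k → w j = 0) → (∀ j, e j = k → j ∈ Set.range σ) →
      w = Function.extend σ (w ∘ σ) 0 := fun {l l' σ} hσ e w h0 hr => funext fun j => by
    by_cases hj : ∃ i, σ i = j
    · obtain ⟨i, rfl⟩ := hj
      rw [hσ.extend_apply]; rfl
    · rw [Function.extend_apply' _ _ _ hj]
      exact h0 j fun e' => hj (hr j e')
  have hk₀ : k ∈ R₀ := by
    rcases hk with ⟨i, rfl⟩ | ⟨i, rfl⟩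
    · exact (rN _).1 ⟨i, rfl⟩
    · exact (rP _).1 ⟨i, rfl⟩
  rw [← hw]
  congr 1
  · rw [← hy]
    exact hext hN eneg y (fun j hjk => hzero _ _ hjk fun f => (hweight f _ rfl).1 j)
      fun j hj => (rN j).2 (hj ▸ hk₀)
  · rw [← hc]
    exact hext hP epos c (fun j hjk => hzero _ _ hjk fun f => (hweight f _ rfl).2 j)
      fun j hj => (rP j).2 (hj ▸ hk₀)

/-- **The root group of a root factors through the subgroup.** -/
theorem exists_factor_u {k : D.idx} (hk : k ∈ R₀) : ∃ w : Red.Ga S ⟶ H, w ≫ h = D.u k := by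
  classical
  haveI := isIso_proj D h t ht hconn eneg epos b hneg hpos gn gp hR₀ hN hP rN rP
  haveI := isMonHom_i D
  have hsel : (∃ i, eneg (σN i) = k) ∨ ∃ i, epos (σP i) = k := by
    rcases b.total k with hb | hb
    · obtain ⟨j, rfl⟩ := hpos.2.symm.subset hb
      obtain ⟨i, rfl⟩ := (rP j).2 hk
      exact Or.inr ⟨i, rfl⟩
    · obtain ⟨j, rfl⟩ := hneg.2.symm.subset hb
      obtain ⟨i, rfl⟩ := (rN j).2 hk
      exact Or.inl ⟨i, rfl⟩
  let zN : Fin n' → (Red.Ga S ⟶ Red.Ga S) := fun i => if eneg (σN i) = k then 𝟙 _ else ptOf 0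
  let zP : Fin m' → (Red.Ga S ⟶ Red.Ga S) := fun i => if epos (σP i) = k then 𝟙 _ else ptOf 0
  let line : Red.Ga S ⟶ src D n' m' := lift (tup zN) (lift 1 (tup zP))
  refine ⟨line ≫ inv (proj D h eneg epos σN σP) ≫ pullback.fst h _, ?_⟩
  refine Groth.Agent.BigCell.eq_of_affine fun Y y hY => ?_
  haveI := hY
  let a : Spec (CommRingCat.of Γ(Y.left, ⊤)) ⟶ S := Y.left.isoSpec.inv ≫ Y.hom
  let j : aP a Γ(Y.left, ⊤) ≅ Y := Over.isoMk Y.left.isoSpec.symm (by
    show Y.left.isoSpec.inv ≫ Y.hom = Spec.map (CommRingCat.ofHom (algebraMap Γ(Y.left, ⊤) Γ(Y.left, ⊤))) ≫ a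
    rw [show CommRingCat.ofHom (algebraMap Γ(Y.left, ⊤) Γ(Y.left, ⊤)) = 𝟙 _ from rfl, Spec.map_id, Category.id_comp])
  let X₁ : aP a (Polynomial Γ(Y.left, ⊤)) ⟶ Red.Ga S := ptOf (cst a _ Polynomial.X)
  obtain ⟨r, hr⟩ := (cst_bijective a).2 (Red.gaFn (j.hom ≫ y))
  have hjy : j.hom ≫ y = aM a (Polynomial.aeval r) ≫ X₁ := by
    rw [comp_ptOf, aM_cst, Polynomial.aeval_X]
    exact eq_ptOf _ hr.symm
  let y₀ : Fin n' → Polynomial Γ(Y.left, ⊤) := fun i => if eneg (σN i) = k then Polynomial.X else 0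
  let c₀ : Fin m' → Polynomial Γ(Y.left, ⊤) := fun i => if epos (σP i) = k then Polynomial.X else 0
  have hline : X₁ ≫ line = cpt D a y₀ 1 c₀ := by
    rw [comp_lift, comp_lift, comp_tup, comp_tup, MonObj.comp_one, cpt, ← tup_pw, ← tup_pw]
    have e : ∀ (p : Prop) [Decidable p], X₁ ≫ (if p then 𝟙 _ else ptOf 0) =
        ptOf (cst a _ (if p then (Polynomial.X : Polynomial Γ(Y.left, ⊤)) else 0)) := fun p _ => by
      split_ifs
      · rw [Category.comp_id]
      · rw [comp_ptOf, map_zero, map_zero]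
    simp only [zN, zP, y₀, c₀, e]
  have key : X₁ ≫ line ≫ inv (proj D h eneg epos σN σP) ≫ pullback.fst h _ ≫ h = X₁ ≫ D.u k := by
    rw [pullback.condition, ← Category.assoc, ← Category.assoc, ← Category.assoc]
    rw [line_lift D h t ht hconn eneg epos b hneg hpos gn gp hR₀ hN hP rN rP a
      ((X₁ ≫ line) ≫ inv (proj D h eneg epos σN σP)) hsel y₀ c₀
      (fun i => if e : eneg (σN i) = k then Or.inr ⟨if_pos e, e⟩ else Or.inl (if_neg e))
      (fun i => if e : epos (σP i) = k then Or.inr ⟨if_pos e, e⟩ else Or.inl (if_neg e))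
      (by rw [Category.assoc, IsIso.inv_hom_id, Category.comp_id, hline]), cpt_cellMap, MonObj.one_comp,
      _root_.one_mul]
    haveI : ∀ i, IsMonHom ((fun i => D.u (eneg i)) i) := fun i => isMonHom_u D _
    haveI : ∀ i, IsMonHom ((fun i => D.u (epos i)) i) := fun i => isMonHom_u D _
    show _ = el a (D.u k) Polynomial.X
    rcases hsel with ⟨i, rfl⟩ | ⟨i, rfl⟩
    · rw [show Function.extend σP c₀ 0 = fun _ => 0 from funext fun q => by
          by_cases hq : ∃ p, σP p = q
          · obtain ⟨p, rfl⟩ := hq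
            rw [hP.extend_apply]
            refine if_neg fun e => ?_
            exact (disjoint_sides D b).le_bot ⟨e ▸ hpos.2.subset (Set.mem_range_self _),
              hneg.2.subset (Set.mem_range_self _)⟩
          · exact Function.extend_apply' _ _ _ hq, pe_zero, _root_.mul_one,
        show Function.extend σN y₀ 0 = fun q => if q = σN i then Polynomial.X else 0 from funext fun q => by
          by_cases hq : ∃ p, σN p = q
          · obtain ⟨p, rfl⟩ := hq
            rw [hN.extend_apply]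
            exact if_congr hneg.1.eq_iff rfl rfl
          · rw [Function.extend_apply' _ _ _ hq, if_neg fun e => hq ⟨i, e.symm⟩]; rfl, pe_single]
    · rw [show Function.extend σN y₀ 0 = fun _ => 0 from funext fun q => by
          by_cases hq : ∃ p, σN p = q
          · obtain ⟨p, rfl⟩ := hq
            rw [hN.extend_apply]
            refine if_neg fun e => ?_
            exact (disjoint_sides D b).le_bot ⟨hpos.2.subset (Set.mem_range_self _),
              e ▸ hneg.2.subset (Set.mem_range_self _)⟩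
          · exact Function.extend_apply' _ _ _ hq, pe_zero, _root_.one_mul,
        show Function.extend σP c₀ 0 = fun q => if q = σP i then Polynomial.X else 0 from funext fun q => by
          by_cases hq : ∃ p, σP p = q
          · obtain ⟨p, rfl⟩ := hq
            rw [hP.extend_apply]
            exact if_congr hpos.1.eq_iff rfl rfl
          · rw [Function.extend_apply' _ _ _ hq, if_neg fun e => hq ⟨i, e.symm⟩]; rfl, pe_single]
  rw [← cancel_epi j.hom, ← Category.assoc, ← Category.assoc j.hom y (D.u k), hjy]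
  simp only [Category.assoc]
  rw [key]

end RootSubgrp

end
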