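import Groth.Agent.SplitCellLib.Order
import Groth.Agent.SplitCellLib.Unip

/-!
# Selection and extension of coordinates
-/

set_option autoImplicit false
set_option linter.style.haveILetI false
set_option linter.unusedSectionVars false
set_option backward.isDefEq.respectTransparency false
set_option maxHeartbeats 800000

universe u

open CategoryTheory CategoryTheory.Limits MonoidalCategory CartesianMonoidalCategory AlgebraicGeometry
open Groth.Agent.GaPts
open Groth.Agent.RankOne (comp_ptOf)
open scoped MonObj LaurentPolynomial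

noncomputable section

namespace RootSubgrp

open SplitCell
open Groth.Agent.BigCell (rt)

variable {S : Scheme.{u}} {n n' : ℕ}

/-- The chosen coordinates. -/
def sel (σ : Fin n' → Fin n) : RedSub.pow (Red.Ga S) n ⟶ RedSub.pow (Red.Ga S) n' :=
  tup fun i => prj S (σ i)

open Classical in
/-- The zero extension of coordinates. -/
def ext (σ : Fin n' → Fin n) : RedSub.pow (Red.Ga S) n' ⟶ RedSub.pow (Red.Ga S) n :=
  tup fun j => if hj : ∃ i, σ i = j then prj S hj.choose else ptOf 0

variable {R : Type u} [CommRing R] (a : Spec (CommRingCat.of R) ⟶ S) {A : Type u} [CommRing A] [Algebra R A]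

theorem pw_sel (σ : Fin n' → Fin n) (c : Fin n → A) : pw a c ≫ sel σ = pw a (c ∘ σ) :=
  pow_ext fun i => by rw [sel, Category.assoc, tup_prj, pw_prj, pw_prj]; rfl

theorem pw_ext_map {σ : Fin n' → Fin n} (hσ : Function.Injective σ) (c : Fin n' → A) :
    pw a c ≫ ext σ = pw a (Function.extend σ c 0) := by
  classical
  refine pow_ext fun j => ?_
  rw [ext, Category.assoc, tup_prj, pw_prj]
  by_cases hj : ∃ i, σ i = j
  · rw [dif_pos hj, pw_prj]
    conv_rhs => rw [← hj.choose_spec, hσ.extend_apply]
  · rw [dif_neg hj, Function.extend_apply' _ _ _ hj, comp_ptOf, map_zero, Pi.zero_apply, map_zero]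

theorem ext_sel {σ : Fin n' → Fin n} (hσ : Function.Injective σ) : ext (S := S) σ ≫ sel σ = 𝟙 _ := by
  classical
  refine pow_ext fun i => ?_
  have hj : ∃ i', σ i' = σ i := ⟨i, rfl⟩
  rw [sel, Category.assoc, tup_prj, ext, tup_prj, dif_pos hj, Category.id_comp, hσ hj.choose_spec]

theorem pw_injective {c c' : Fin n → A} (h : pw a c = pw a c') : c = c' := funext fun k => by
  have h1 := congrArg (fun z => Red.gaFn (z ≫ prj S k)) h
  simp only [pw_prj, gaFn_ptOf] at h1
  exact (cst_bijective a).1 h1

variable {G : Over S} [GrpObj G] {H : Over S} [GrpObj H]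

/-- A product of morphisms factoring through a subgroup factors through it. -/
theorem exists_prodMap_lift (h : H ⟶ G) [IsMonHom h] :
    ∀ {l : ℕ} (p : Fin l → (Red.Ga S ⟶ G)), (∀ k, ∃ v, v ≫ h = p k) →
      ∃ f, f ≫ h = RedSub.prodMap (Red.Ga S) l p := by
  intro l
  induction l with
  | zero => exact fun p _ => ⟨1, MonObj.one_comp h⟩
  | succ l ih =>
    intro p hp
    obtain ⟨v, hv⟩ := hp 0
    obtain ⟨f, hf⟩ := ih (fun k => p k.succ) fun k => hp k.succ
    refine ⟨(fst _ _ ≫ v) * (snd _ _ ≫ f), ?_⟩
    rw [MonObj.mul_comp, Category.assoc, Category.assoc, hv, hf]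
    rfl

/-- Weights of a homogeneous polynomial. -/
theorem coeff_eq_zero_of_weight {N M : ℤ} {c : Polynomial A}
    (h : Polynomial.eval₂ ((LaurentPolynomial.C : Polynomial A →+* (Polynomial A)[T;T⁻¹]).comp Polynomial.C)
      (LaurentPolynomial.C Polynomial.X * LaurentPolynomial.T N) c =
        LaurentPolynomial.C c * LaurentPolynomial.T M) (n₀ : ℕ) (hne : (n₀ : ℤ) * N ≠ M) : c.coeff n₀ = 0 := by
  classical
  have key : ∀ (q : Polynomial A) (k : ℕ) (r : A), q = Polynomial.C r * Polynomial.X ^ k →
      Polynomial.eval₂ ((LaurentPolynomial.C : Polynomial A →+* (Polynomial A)[T;T⁻¹]).comp Polynomial.C)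
        (LaurentPolynomial.C Polynomial.X * LaurentPolynomial.T N) q =
          AddMonoidAlgebra.single ((k : ℤ) * N) q := by
    rintro q k r rfl
    rw [LaurentPolynomial.single_eq_C_mul_T, Polynomial.eval₂_mul, Polynomial.eval₂_C, Polynomial.eval₂_X_pow,
      mul_pow, LaurentPolynomial.T_pow, RingHom.comp_apply, map_mul, map_pow, _root_.mul_assoc]
  conv_lhs at h => rw [c.as_sum_range_C_mul_X_pow, Polynomial.eval₂_finsetSum]
  rw [Finset.sum_congr rfl fun k _ => key _ k (c.coeff k) rfl, ← LaurentPolynomial.single_eq_C_mul_T] at h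
  have h1 := congrArg (fun F : (Polynomial A)[T;T⁻¹] => (F.coeff ((n₀ : ℤ) * N)).coeff n₀) h
  simp only [AddMonoidAlgebra.coeff_sum, Finset.sum_apply', AddMonoidAlgebra.coeff_single,
    Finsupp.single_apply, if_neg (Ne.symm hne), Polynomial.coeff_zero, Polynomial.finsetSum_coeff,
    apply_ite (fun q : Polynomial A => q.coeff n₀), Polynomial.coeff_C_mul_X_pow] at h1
  by_contra hc
  rw [Finset.sum_eq_single n₀] at h1
  · simp at h1; exact hc h1
  · intro k _ hk
    split_ifs with h2
    · exact absurd ‹n₀ = k› (Ne.symm hk)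
    · rfl
    · rfl
  · intro hn
    exact absurd (Finset.mem_range.2 (Nat.lt_succ_of_le (Polynomial.le_natDegree_of_ne_zero hc))) hn

end RootSubgrp

end
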