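import Groth.Agent.RootSubgrpLib.Classify
import Groth.Agent.RootSubgrpLib.Pts
import Groth.Agent.GrpHomLib.Field
import Groth.Agent.NRQuotLib.Basic
import Groth.Agent.RedRankLib.Max
import Groth.Agent.BorelLib.NormOpen

/-!
# Points of a smooth subgroup over an algebraically closed point of the base
-/

set_option autoImplicit false
set_option linter.style.haveILetI false
set_option linter.unusedSectionVars false
set_option backward.isDefEq.respectTransparency false
set_option maxHeartbeats 1000000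
set_option synthInstance.maxHeartbeats 400000

universe u

open CategoryTheory CategoryTheory.Limits MonoidalCategory CartesianMonoidalCategory AlgebraicGeometry WithConv
open scoped MonObj
open CoactBr (sp)
open Groth.Agent.BorelLib
open Groth.Agent.GaPts

noncomputable section

attribute [-instance] CategoryTheory.Hom.commGroup

namespace RootSubgrp

open SplitCell

variable {S : Scheme.{u}}

section Rat

variable {K : Type u} [Field K] (ξ : Spec (CommRingCat.of K) ⟶ S) {X Y : Over S}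

theorem aP_hom : (aP ξ K).hom = ξ := by
  show Spec.map (CommRingCat.ofHom (algebraMap K K)) ≫ ξ = ξ
  rw [show CommRingCat.ofHom (algebraMap K K) = 𝟙 _ from rfl, Spec.map_id, Category.id_comp]

/-- A rational point of a fibre as a point over the base. -/
def ofR (q : RPt (Red.bc ξ X)) : aP ξ K ⟶ X :=
  Over.homMk (q.left ≫ pullback.fst X.hom ξ) (by
    rw [aP_hom, Category.assoc, pullback.condition, ← Category.assoc]
    have hq : q.left ≫ pullback.snd X.hom ξ = 𝟙 _ := Over.w q
    rw [hq]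
    exact Category.id_comp ξ)

/-- A point over the base as a rational point of the fibre. -/
def toR (z : aP ξ K ⟶ X) : RPt (Red.bc ξ X) :=
  Over.homMk (pullback.lift z.left (𝟙 _) (by rw [Over.w z, aP_hom, Category.id_comp])) (pullback.lift_snd _ _ _)

theorem toR_ofR (q : RPt (Red.bc ξ X)) : toR ξ (ofR ξ q) = q := by
  refine Over.OverMorphism.ext (pullback.hom_ext ?_ ?_)
  · exact pullback.lift_fst _ _ _
  · exact (pullback.lift_snd _ _ _).trans (Over.w q).symm

theorem ofR_toR (z : aP ξ K ⟶ X) : ofR ξ (toR ξ z) = z :=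
  Over.OverMorphism.ext (pullback.lift_fst _ _ _)

theorem ofR_comp (f : X ⟶ Y) (q : RPt (Red.bc ξ X)) : ofR ξ (q ≫ (Over.pullback ξ).map f) = ofR ξ q ≫ f := by
  refine Over.OverMorphism.ext ?_
  show (q.left ≫ ((Over.pullback ξ).map f).left) ≫ pullback.fst Y.hom ξ = (q.left ≫ pullback.fst X.hom ξ) ≫ f.left
  rw [Category.assoc, Category.assoc]
  exact congrArg (q.left ≫ ·) (pullback.lift_fst _ _ _)

theorem comp_bc_eq (f : X ⟶ Y) (q : RPt (Red.bc ξ X)) (q' : RPt (Red.bc ξ Y)) :
    q ≫ (Over.pullback ξ).map f = q' ↔ ofR ξ q ≫ f = ofR ξ q' := by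
  rw [← ofR_comp]
  exact ⟨fun e => by rw [e], fun e => by rw [← toR_ofR ξ (q ≫ (Over.pullback ξ).map f), e, toR_ofR]⟩

/-- The image of the open where a function does not vanish. -/
def nonvan (c : X ⟶ Red.Ga S) : Set S := X.hom '' (X.left.basicOpen (Red.gaFn c) : Set X.left)

variable [IsAlgClosed K]

/-- **A function is non-zero at a point of the fibre if and only if the base point is in the image.** -/
theorem mem_nonvan_iff [LocallyOfFiniteType X.hom] (c : X ⟶ Red.Ga S) :
    ξ (⊥ : PrimeSpectrum K) ∈ nonvan c ↔ ∃ z : aP ξ K ⟶ X, Red.gaFn (z ≫ c) ≠ 0 := by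
  have key : ∀ z : aP ξ K ⟶ X, Red.gaFn (z ≫ c) ≠ 0 ↔
      z.left (⊥ : PrimeSpectrum K) ∈ X.left.basicOpen (Red.gaFn c) := by
    intro z
    obtain ⟨r, hr⟩ := (cst_bijective ξ (A := K)).2 (Red.gaFn (z ≫ c))
    have hpre : z.left ⁻¹ᵁ X.left.basicOpen (Red.gaFn c) = (aP ξ K).left.basicOpen (cst ξ K r) := by
      rw [Scheme.preimage_basicOpen_top, hr, gaFn_comp']
    show _ ↔ (⊥ : PrimeSpectrum K) ∈ z.left ⁻¹ᵁ X.left.basicOpen (Red.gaFn c)
    rw [hpre, ← hr]
    by_cases h0 : r = 0
    · subst h0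
      rw [map_zero, Scheme.basicOpen_zero]
      simp
    · rw [Scheme.basicOpen_of_isUnit _ ((Ne.isUnit h0).map (cst ξ K))]
      exact ⟨fun _ => trivial, fun _ h => h0 ((cst_bijective ξ).1 (h.trans (map_zero (cst ξ K)).symm))⟩
  constructor
  · rintro ⟨x, hx, hxs⟩
    obtain ⟨y, hy, -⟩ := Scheme.Pullback.exists_preimage_pullback (f := X.hom) (g := ξ) x (⊥ : PrimeSpectrum K) hxs
    haveI : LocallyOfFiniteType (Red.bc ξ X).hom :=
      MorphismProperty.pullback_snd (P := @LocallyOfFiniteType) _ _ inferInstance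
    haveI : JacobsonSpace ↥(pullback X.hom ξ) := LocallyOfFiniteType.jacobsonSpace (Y := Spec _) (Red.bc ξ X).hom
    obtain ⟨w, hw, hwc⟩ := nonempty_inter_closedPoints (Z := pullback.fst X.hom ξ ⁻¹' _) ⟨y, show _ ∈
      (X.left.basicOpen (Red.gaFn c) : Set X.left) from hy.symm ▸ hx⟩
      ((pullback.fst X.hom ξ ⁻¹ᵁ X.left.basicOpen (Red.gaFn c)).2.isLocallyClosed)
    obtain ⟨q, hq⟩ := NRQuotLib.exists_pt (X := Red.bc ξ X) hwc
    refine ⟨ofR ξ q, (key _).2 ?_⟩
    show pullback.fst X.hom ξ (q.left (⊥ : PrimeSpectrum K)) ∈ X.left.basicOpen (Red.gaFn c)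
    rw [Subsingleton.elim (α := PrimeSpectrum K) (⊥ : PrimeSpectrum K) (IsLocalRing.closedPoint K)]
    rw [← hq] at hw
    exact hw
  · rintro ⟨z, hz⟩
    refine ⟨_, (key z).1 hz, ?_⟩
    rw [← Scheme.Hom.comp_apply, Over.w z, aP_hom]
    rfl

end Rat

variable {G H : Over S} [GrpObj G] [GrpObj H] (D : Red.SplitRed G) (h : H ⟶ G)

/-- The roots whose groups are contained in the fibre. -/
def rootsAt {K : Type u} [Field K] (ξ : Spec (CommRingCat.of K) ⟶ S) : Set D.idx :=
  {k | ∀ r : K, ∃ z : aP ξ K ⟶ H, z ≫ h = el ξ (D.u k) r}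

variable {K : Type u} [Field K] [IsAlgClosed K] (ξ : Spec (CommRingCat.of K) ⟶ S)

attribute [local instance] pTop pTopTensor

variable [IsMonHom h] [Mono h] [Smooth H.hom] (t : D.T ⟶ H) (ht : t ≫ h = D.i)
  (hconn : ∀ s : S, ConnectedSpace ↥(Red.geomFibre s H).left)
include ht hconn

omit [GrpObj H] [IsMonHom h] [Mono h] [Smooth H.hom] in
theorem isClosedImmersion_bc_hom [GrpObj H] [IsMonHom h] [Mono h] [Smooth H.hom] :
    IsClosedImmersion ((Over.pullback ξ).map h).left := by
  haveI := Groth.Agent.DiagRep.isMonHom_bc_map ξ h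
  haveI := mono_bc ξ h
  haveI := D.reductive.1
  haveI := D.reductive.2.1
  haveI := quasiCompact_of_geom_connected H hconn
  haveI : Smooth (Red.bc ξ G).hom := MorphismProperty.pullback_snd (P := @Smooth) _ _ inferInstance
  haveI : Smooth (Red.bc ξ H).hom := MorphismProperty.pullback_snd (P := @Smooth) _ _ inferInstance
  haveI : QuasiCompact (Red.bc ξ H).hom := MorphismProperty.pullback_snd (P := @QuasiCompact) _ _ inferInstance
  haveI := Groth.Agent.RedRank.isAffineHom_bc G ξ
  haveI : QuasiCompact (((Over.pullback ξ).map h).left ≫ (Red.bc ξ G).hom) := by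
    rw [Over.w ((Over.pullback ξ).map h)]; exact ‹QuasiCompact (Red.bc ξ H).hom›
  haveI : QuasiCompact ((Over.pullback ξ).map h).left :=
    QuasiCompact.of_comp ((Over.pullback ξ).map h).left (Red.bc ξ G).hom
  haveI : Mono ((Over.pullback ξ).map h).left := Over.mono_left_of_mono _
  exact Groth.Agent.GrpHom.isClosedImmersion_of_mono ((Over.pullback ξ).map h)

/-- **The geometric fibre as a closed subgroup of points.** -/
theorem exists_pts_setup : IsAffine (Red.bc ξ G).left ∧ Smooth (Red.bc ξ G).hom ∧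
    ∃ (A : Type u) (_ : CommRing A) (_ : HopfAlgebra K A) (v : sp K A ≅ Red.bc ξ G) (_ : IsMonHom v.hom),
      Algebra.FiniteType K A ∧ _root_.IsReduced A ∧ ∃ H' : Subgroup (Pt K A), IsClosed (H' : Set (Pt K A)) ∧
        SplitFib.Tsub D ξ v ≤ H' ∧ (∀ x, SplitFib.ptG ξ v x ∈ H' ↔ ∃ z, z ≫ h = x) ∧
        rootsIn D ξ v H' = rootsAt D h ξ ∧
        ((ConnectedSpace (Red.bc ξ H).left) → _root_.IsPreconnected (H' : Set (Pt K A))) := by
  haveI := D.reductive.1
  haveI := D.reductive.2.1
  haveI hsm : Smooth (Red.bc ξ G).hom := MorphismProperty.pullback_snd (P := @Smooth) _ _ inferInstance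
  haveI := Groth.Agent.RedRank.isAffineHom_bc G ξ
  haveI hA : IsAffine (Red.bc ξ G).left := isAffine_of_isAffineHom (Red.bc ξ G).hom
  obtain ⟨A, _, _, v, hv, hft, hred⟩ := exists_setup (Red.bc ξ G)
  haveI := hv; haveI := hft; haveI := hred
  haveI := Groth.Agent.DiagRep.isMonHom_bc_map ξ h
  haveI := isClosedImmersion_bc_hom D h ξ t ht hconn
  have hmem := fun x => SplitFib.mem_ptsSub_bc ξ v h x
  refine ⟨hA, hsm, A, _, _, v, hv, hft, hred, ptsSub v ((Over.pullback ξ).map h), isClosed_ptsSub v, ?_, hmem, ?_,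
    fun hc => ?_⟩
  · rintro _ ⟨τ, rfl⟩
    exact (hmem _).2 ⟨τ ≫ t, by rw [Category.assoc, ht]; rfl⟩
  · ext k
    exact forall_congr' fun r => hmem _
  · haveI : Smooth (Red.bc ξ H).hom := MorphismProperty.pullback_snd (P := @Smooth) _ _ inferInstance
    exact isPreconnected_ptsSub v

variable (b : Sides D.P) {n m : ℕ} {eneg : Fin n → D.idx} {epos : Fin m → D.idx}

/-- **The points of the subgroup in the cell are supported on its roots.** -/
theorem supp_of_lift (hneg : RedSub.Enumerates b.neg eneg) (hpos : RedSub.Enumerates b.pos epos)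
    (gn : Good D eneg) (gp : Good D epos) {y : Fin n → K} {τ : aP ξ K ⟶ D.T} {c : Fin m → K} (z : aP ξ K ⟶ H)
    (hz : z ≫ h = cpt D ξ y τ c ≫ RedSub.cellMap D eneg epos) :
    (∀ i, y i ≠ 0 → eneg i ∈ rootsAt D h ξ) ∧ ∀ i, c i ≠ 0 → epos i ∈ rootsAt D h ξ := by
  obtain ⟨hA, hsm, A, _, _, v, hv, hft, hred, H', hH, hTH, hmem, hroots, -⟩ := exists_pts_setup D h ξ t ht hconn
  haveI := hA; haveI := hsm; haveI := hv; haveI := hft; haveI := hred
  rw [← hroots]
  refine cell_supp D ξ v hH hTH b (fun i => hneg.2.subset (Set.mem_range_self i))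
    (fun i => hpos.2.subset (Set.mem_range_self i)) gn gp y τ c ?_
  have h1 := (hmem (z ≫ h)).2 ⟨z, rfl⟩
  rw [hz, cpt_cellMap, map_mul, map_mul] at h1
  exact h1

end RootSubgrp

end
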