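import Groth.Agent.RootSubgrpLib.Decomp
import Mathlib.LinearAlgebra.RootSystem.Reduced

/-!
# Recursively split enumerations of one-sided sets of roots
-/

set_option autoImplicit false
set_option linter.style.haveILetI false
set_option linter.unusedSectionVars false
set_option backward.isDefEq.respectTransparency false
set_option maxHeartbeats 1000000

universe u

open CategoryTheory MonoidalCategory CartesianMonoidalCategory AlgebraicGeometry

noncomputable section



namespace RootSubgrp

open SplitCell

/-- Appending enumerations of disjoint sets. -/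
theorem enumerates_append {idx : Type} {s s' : Set idx} {l l' : ℕ} {e : Fin l → idx} {e' : Fin l' → idx}
    (he : RedSub.Enumerates s e) (he' : RedSub.Enumerates s' e') (hd : Disjoint s s') :
    RedSub.Enumerates (s ∪ s') (Fin.append e e') := by
  have hne : ∀ i j, e i ≠ e' j := fun i j h =>
    Set.disjoint_left.1 hd (he.2.subset (Set.mem_range_self i)) (h ▸ he'.2.subset (Set.mem_range_self j))
  refine ⟨fun i j h => ?_, ?_⟩
  · induction i using Fin.addCases with
    | left i =>
      induction j using Fin.addCases with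
      | left j => rw [Fin.append_left, Fin.append_left] at h; rw [he.1 h]
      | right j => simp only [Fin.append_left, Fin.append_right] at h; exact absurd h (hne i j)
    | right i =>
      induction j using Fin.addCases with
      | left j => simp only [Fin.append_left, Fin.append_right] at h; exact absurd h.symm (hne j i)
      | right j => simp only [Fin.append_right] at h; rw [he'.1 h]
  · rw [← he.2, ← he'.2]
    ext x
    constructor
    · rintro ⟨i, rfl⟩
      induction i using Fin.addCases with
      | left i => exact Or.inl ⟨i, (Fin.append_left e e' i).symm⟩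
      | right i => exact Or.inr ⟨i, by simp only [Fin.append_right]⟩
    · rintro (⟨i, rfl⟩ | ⟨i, rfl⟩)
      · exact ⟨Fin.castAdd l' i, Fin.append_left e e' i⟩
      · exact ⟨Fin.natAdd l i, by simp only [Fin.append_right]⟩

variable {S : Scheme.{u}} {G : Over S} [GrpObj G] (D : Red.SplitRed G)

/-- **One-sided sets of roots have split enumerations.** -/
theorem exists_good [D.P.IsReduced] (s : Finset D.idx) (f : D.M →ₗ[ℤ] ℤ) (hf : ∀ k ∈ s, 0 < f (D.P.root k)) :
    ∃ (l : ℕ) (e : Fin l → D.idx), RedSub.Enumerates (s : Set D.idx) e ∧ Good D e := by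
  classical
  induction s using Finset.strongInduction with
  | _ s ih =>
    by_cases hcard : s.card ≤ 1
    · rcases Nat.le_one_iff_eq_zero_or_eq_one.1 hcard with h | h
      · rw [Finset.card_eq_zero] at h
        exact ⟨0, Fin.elim0, ⟨fun i => i.elim0, by simp [h]⟩, .empty _⟩
      · obtain ⟨k, rfl⟩ := Finset.card_eq_one.1 h
        exact ⟨1, fun _ => k, ⟨Function.injective_of_subsingleton _, by simp [Set.range_const]⟩, .single _⟩
    obtain ⟨k, hk, l, hl, hkl⟩ := Finset.one_lt_card.1 (not_le.1 hcard)
    have hvec : f (D.P.root l) • D.P.root k - f (D.P.root k) • D.P.root l ≠ 0 := fun h => by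
      have hne : D.P.root k ≠ -D.P.root l := fun e => by
        have h1 := hf k hk
        have h2 := hf l hl
        rw [e, map_neg] at h1
        omega
      have hind := RootPairing.IsReduced.linearIndependent (P := D.P) hkl hne
      have := (LinearIndependent.pair_iff.1 hind (f (D.P.root l)) (-f (D.P.root k)) (by
        rw [neg_smul, ← sub_eq_add_neg]; exact h)).1
      exact (hf l hl).ne' this
    let Bs := Module.finBasis ℤ D.M
    obtain ⟨i, hi⟩ : ∃ i, Bs.coord i (f (D.P.root l) • D.P.root k - f (D.P.root k) • D.P.root l) ≠ 0 := by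
      by_contra hno
      push Not at hno
      exact hvec (Bs.ext_elem fun i => by rw [map_zero, Finsupp.zero_apply]; exact hno i)
    set φ : D.M →ₗ[ℤ] ℤ := Bs.coord i with hφ
    set ψ : D.M →ₗ[ℤ] ℤ := f (D.P.root k) • φ - φ (D.P.root k) • f with hψ
    have hψk : ψ (D.P.root k) = 0 := by simp [hψ]; ring
    have hψl : ψ (D.P.root l) ≠ 0 := fun h => hi (by
      simp [hψ] at h
      simp only [map_sub, map_zsmul, smul_eq_mul]
      linarith)
    obtain ⟨σ, hσ⟩ : ∃ σ : D.M →ₗ[ℤ] ℤ, σ (D.P.root k) = 0 ∧ σ (D.P.root l) < 0 := by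
      rcases lt_or_gt_of_ne hψl with h | h
      · exact ⟨ψ, hψk, h⟩
      · exact ⟨-ψ, by simp [hψk], by simpa using h⟩
    set N : ℤ := 1 + ∑ j ∈ s, f (D.P.root j) with hN
    have hNf : ∀ j ∈ s, f (D.P.root j) < N := fun j hj => by
      have := Finset.single_le_sum (f := fun j => f (D.P.root j)) (fun x hx => (hf x hx).le) hj
      omega
    set g : D.M →ₗ[ℤ] ℤ := N • σ + f with hg
    have hgj : ∀ j, g (D.P.root j) = N * σ (D.P.root j) + f (D.P.root j) := fun j => by simp [hg]
    have hg0 : ∀ j ∈ s, g (D.P.root j) ≠ 0 := fun j hj h => by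
      rw [hgj] at h
      have h1 := hf j hj
      have h2 := hNf j hj
      rcases lt_trichotomy (σ (D.P.root j)) 0 with hs | hs | hs
      · nlinarith
      · rw [hs] at h; omega
      · nlinarith
    have hgk : 0 < g (D.P.root k) := by rw [hgj, hσ.1]; simpa using hf k hk
    have hgl : g (D.P.root l) < 0 := by
      rw [hgj]; have := hNf l hl; have := hσ.2; have := hf l hl; nlinarith
    obtain ⟨l₁, e₁, he₁, h₁⟩ := ih (s.filter fun j => g (D.P.root j) < 0)
      (Finset.filter_ssubset.2 ⟨k, hk, not_lt.2 hgk.le⟩) fun j hj => hf j (Finset.mem_filter.1 hj).1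
    obtain ⟨l₂, e₂, he₂, h₂⟩ := ih (s.filter fun j => 0 < g (D.P.root j))
      (Finset.filter_ssubset.2 ⟨l, hl, not_lt.2 hgl.le⟩) fun j hj => hf j (Finset.mem_filter.1 hj).1
    refine ⟨l₁ + l₂, Fin.append e₁ e₂, ?_, .node g (fun i => ?_) (fun i => ?_) h₁ h₂⟩
    · have hs : (s : Set D.idx) = ↑(s.filter fun j => g (D.P.root j) < 0) ∪
          ↑(s.filter fun j => 0 < g (D.P.root j)) := by
        ext j
        simp only [Finset.mem_coe, Set.mem_union, Finset.mem_filter]
        exact ⟨fun hj => (lt_or_gt_of_ne (hg0 j hj)).imp (⟨hj, ·⟩) (⟨hj, ·⟩), fun h => h.elim And.left And.left⟩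
      rw [hs]
      refine enumerates_append he₁ he₂ (Set.disjoint_left.2 fun j hj hj' => ?_)
      exact lt_asymm (Finset.mem_filter.1 hj).2 (Finset.mem_filter.1 hj').2
    · exact (Finset.mem_filter.1 (Finset.mem_coe.1 (he₁.2.subset (Set.mem_range_self i)))).2
    · exact (Finset.mem_filter.1 (Finset.mem_coe.1 (he₂.2.subset (Set.mem_range_self i)))).2

/-- Both sides have split enumerations. -/
theorem exists_good_sides [D.P.IsReduced] (b : Sides D.P) {R : Set D.idx} :
    ∃ (n m : ℕ) (eneg : Fin n → D.idx) (epos : Fin m → D.idx), RedSub.Enumerates (R ∩ b.neg) eneg ∧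
      RedSub.Enumerates (R ∩ b.pos) epos ∧ Good D eneg ∧ Good D epos := by
  classical
  obtain ⟨f, hp, hn⟩ := b.regular
  obtain ⟨m, epos, hpos, gp⟩ := exists_good D (R ∩ b.pos).toFinset f fun k hk => hp k (Set.mem_toFinset.1 hk).2
  obtain ⟨n, eneg, hneg, gn⟩ := exists_good D (R ∩ b.neg).toFinset (-f) fun k hk => by
    have := hn k (Set.mem_toFinset.1 hk).2
    simp only [LinearMap.neg_apply]
    omega
  rw [Set.coe_toFinset] at hpos hneg
  exact ⟨n, m, eneg, epos, hneg, hpos, gn, gp⟩

end RootSubgrp

end
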