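import Groth.Agent.RootSubgrpLib.Structure
import Groth.Agent.RootSubgrpLib.Apps
import Groth.Agent.DSImgLib.Basic
import Groth.Agent.S3006
import Groth.Agent.S8407
import Groth.Agent.RedRankLib.Tori
import Groth.Agent.RCentreLib.Torus
import Groth.Agent.BorelLib.BaseChange
import Groth.Agent.BorelLib.ImageField

/-!
# The centraliser of the kernel of a root
-/

set_option autoImplicit false
set_option linter.style.haveILetI false
set_option linter.unusedSectionVars false
set_option backward.isDefEq.respectTransparency false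
set_option maxHeartbeats 1000000
set_option synthInstance.maxHeartbeats 400000

universe u

open CategoryTheory CategoryTheory.Limits MonoidalCategory CartesianMonoidalCategory AlgebraicGeometry
open Groth.Agent.GaPts
open Groth.Agent
open scoped MonObj

noncomputable section

attribute [-instance] CategoryTheory.Hom.commGroup

namespace RootSubgrp

open SplitCell SplitFib

variable {S : Scheme.{u}} {G : Over S} [GrpObj G] (D : Red.SplitRed G)

/-- A point of the torus kills the character. -/
def KillsChar (m : D.M) {X : Over S} (t : X ⟶ D.T) : Prop :=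
  MultSubLib.chars (t ≫ D.split.hom.hom.hom) (Multiplicative.ofAdd m) = 1

/-- The subgroup commuting with the kernel of a line. -/
structure LineCent (L : Line D) where
  /-- the carrier -/
  C : Over S
  [grp : GrpObj C]
  /-- the inclusion -/
  c : C ⟶ G
  /-- the torus inside -/
  t : D.T ⟶ C
  ht : t ≫ c = D.i
  isMonHom : IsMonHom c
  closed : IsClosedImmersion c.left
  smooth : Smooth C.hom
  connected : ∀ s : S, ConnectedSpace ↥(Red.geomFibre s C).left
  mem_iff : ∀ (X : Over S) (g : X ⟶ G), (∃ z : X ⟶ C, z ≫ c = g) ↔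
    ∀ (X' : Over S) (x : X' ⟶ X) (s : X' ⟶ D.T), KillsChar D L.χ s →
      (x ≫ g) * (s ≫ D.i) = (s ≫ D.i) * (x ≫ g)

attribute [instance] LineCent.grp

theorem split_hom_inv {Z : Over S} (q : D.T ⟶ Z) : D.split.hom.hom.hom ≫ D.split.inv.hom.hom ≫ q = q := by
  rw [← Category.assoc, show D.split.hom.hom.hom ≫ D.split.inv.hom.hom = 𝟙 _ from by
    change (D.split.hom ≫ D.split.inv).hom.hom = _
    rw [D.split.hom_inv_id]; rfl, Category.id_comp]

theorem split_inv_hom {Z : Over S} (q : Red.DS S D.M ⟶ Z) : D.split.inv.hom.hom ≫ D.split.hom.hom.hom ≫ q = q := by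
  rw [← Category.assoc, show D.split.inv.hom.hom ≫ D.split.hom.hom.hom = 𝟙 _ from by
    change (D.split.inv ≫ D.split.hom).hom.hom = _
    rw [D.split.inv_hom_id]; rfl, Category.id_comp]

/-- A character killing a primitive vector comes from a quotient lattice. -/
theorem exists_proj (L : Line D) : ∃ (r : ℕ) (φ : D.M →+ (Fin r → ℤ)) (σ : (Fin r → ℤ) →+ D.M),
    φ L.χ = 0 ∧ (∀ p, φ (σ p) = p) ∧ ∀ m, σ (φ m) = m - L.co m • L.χ := by
  let P := LinearMap.ker L.co
  let B := Module.finBasis ℤ P
  let π : D.M →ₗ[ℤ] P := LinearMap.codRestrict P (LinearMap.id - L.co.smulRight L.χ) fun m => by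
    show L.co (m - L.co m • L.χ) = 0
    rw [map_sub, map_zsmul, L.co_χ, smul_eq_mul, _root_.mul_one, sub_self]
  refine ⟨_, (B.equivFun.toLinearMap.comp π).toAddMonoidHom,
    (P.subtype.comp B.equivFun.symm.toLinearMap).toAddMonoidHom, ?_, fun p => ?_, fun m => ?_⟩
  · show B.equivFun (π L.χ) = 0
    rw [show π L.χ = 0 from Subtype.ext (show L.χ - L.co L.χ • L.χ = 0 by rw [L.co_χ, one_smul, sub_self]), map_zero]
  · show B.equivFun (π (B.equivFun.symm p : P)) = p
    rw [show π (B.equivFun.symm p : P) = B.equivFun.symm p from Subtype.ext (by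
      show ((B.equivFun.symm p : P) : D.M) - L.co ((B.equivFun.symm p : P) : D.M) • L.χ = _
      rw [show L.co ((B.equivFun.symm p : P) : D.M) = 0 from (B.equivFun.symm p).2, zero_smul, sub_zero])]
    exact B.equivFun.apply_symm_apply p
  · show ((B.equivFun.symm (B.equivFun (π m)) : P) : D.M) = _
    rw [LinearEquiv.symm_apply_apply]
    rfl

/-- **The centraliser of the kernel of a line exists.** -/
theorem exists_lineCent (L : Line D) : Nonempty (LineCent D L) := by
  haveI := isMonHom_i D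
  haveI := mono_i D
  haveI := D.reductive.1
  haveI := D.reductive.2.1
  obtain ⟨r, φ, σ, hφ, hσ, hσφ⟩ := exists_proj D L
  let Q : Over S := Red.DS S (Fin r → ℤ)
  let j : Q ⟶ D.T := Red.DSmap S φ ≫ D.split.inv.hom.hom
  haveI : IsMonHom (Red.DSmap S φ) := Groth.Agent.DSImg.isMonHom_DSmap φ
  haveI : IsMonHom D.split.inv.hom.hom := D.split.inv.hom.isMonHom_hom
  haveI : IsMonHom j := inferInstanceAs (IsMonHom (Red.DSmap S φ ≫ D.split.inv.hom.hom))
  have hjc : ∀ {Y : Over S} (h : Y ⟶ Q), MultSubLib.chars ((h ≫ j) ≫ D.split.hom.hom.hom) =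
      (MultSubLib.chars h).comp φ.toMultiplicative := fun h => by
    rw [← Groth.Agent.DSImg.chars_comp_DSmap]
    congr 1
    simp only [j, Category.assoc]
    rw [show D.split.inv.hom.hom ≫ D.split.hom.hom.hom = 𝟙 _ from by
      change (D.split.inv ≫ D.split.hom).hom.hom = _
      rw [D.split.inv_hom_id]; rfl]
    simp
  haveI : Mono j := ⟨fun a b e => MultSubLib.chars_injective (MonoidHom.ext fun p => by
    have h1 := congrArg (fun q => MultSubLib.chars (q ≫ D.split.hom.hom.hom)) e
    simp only [hjc] at h1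
    have h2 := DFunLike.congr_fun h1 (Multiplicative.ofAdd (σ p.toAdd))
    simpa [hσ] using h2)⟩
  have hQ : Red.IsTorus Q := RedRank.isTorus_DS S r
  haveI : IsMonHom (j ≫ D.i) := inferInstance
  haveI : Mono (j ≫ D.i) := mono_comp _ _
  have hcl : IsClosedImmersion (j ≫ D.i).left :=
    Transporter.isClosedImmersion_of_mono (RedRank.locally_of_isTorus hQ) D.reductive.1 (j ≫ D.i)
  obtain ⟨⟨C, hC, c, hc, hcc, hcs⟩, -⟩ := S3006.result S G Q (j ≫ D.i) hcl hQ
  haveI := hc.1; haveI := hc.2.1; haveI := hcs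
  have hTt := D.maximalTorus.2.2.1
  obtain ⟨t, ht⟩ := (hc.2.2 D.T D.i).2 fun X' x h => by
    rw [← Category.assoc h, ← MonObj.mul_comp, ← MonObj.mul_comp, RCentre.commute_torus hTt]
  refine ⟨{ C := C, c := c, t := t, ht := ht, isMonHom := hc.1, closed := hcc, smooth := hcs,
            connected := fun s => ?_, mem_iff := fun X g => ?_ }⟩
  · let q := Red.geomPt s
    haveI : Smooth (Red.geomFibre s G).hom := MorphismProperty.pullback_snd (P := @Smooth) _ _ inferInstance
    haveI := RedRank.isAffineHom_bc G q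
    haveI : IsAffine (Red.geomFibre s G).left := isAffine_of_isAffineHom (Red.geomFibre s G).hom
    haveI : ConnectedSpace (Red.geomFibre s G).left := (D.reductive.2.2 s).2.2.1
    haveI : QuasiCompact (Red.geomFibre s G).hom := inferInstance
    haveI : IsMonHom (M := Red.geomFibre s Q) (N := Red.geomFibre s G) ((Over.pullback q).map (j ≫ D.i)) :=
      DiagRep.isMonHom_bc_map _ _
    haveI := BorelLib.mono_bc q (j ≫ D.i)
    exact (S8407.result _ (Red.geomFibre s G) (Red.geomFibre s Q) ((Over.pullback q).map (j ≫ D.i))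
      (RedRank.isTorus_bc hQ q) (Red.geomFibre s C) ((Over.pullback q).map c) (BorelLib.isCentralizerOf_bc q hc)).2
  · rw [hc.2.2]
    refine forall_congr' fun X' => forall_congr' fun x => ⟨fun h s hs => ?_, fun h p => ?_⟩
    · let χ := MultSubLib.chars (s ≫ D.split.hom.hom.hom)
      let p : X' ⟶ Q := DSPtsLib.dsPt (χ.comp σ.toMultiplicative)
      have hp : p ≫ j = s := by
        rw [← cancel_mono D.split.hom.hom.hom]
        refine MultSubLib.chars_injective ?_
        rw [hjc, MultSubLib.chars_dsPt]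
        refine MonoidHom.ext fun m => ?_
        obtain ⟨m, rfl⟩ := Multiplicative.ofAdd.surjective m
        show χ (Multiplicative.ofAdd (σ (φ m))) = χ (Multiplicative.ofAdd m)
        have hcu : ∀ n : ℤ, χ (Multiplicative.ofAdd (n • L.χ)) = 1 := fun n => by
          obtain ⟨k, rfl | rfl⟩ := Int.eq_nat_or_neg n
          · rw [natCast_zsmul, ofAdd_nsmul, map_pow, hs, one_pow]
          · have h1 : χ (Multiplicative.ofAdd ((-(k : ℤ)) • L.χ)) * χ (Multiplicative.ofAdd ((k : ℤ) • L.χ)) = 1 := by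
              rw [← map_mul, ← ofAdd_add, ← add_smul, neg_add_cancel, zero_smul, ofAdd_zero, map_one]
            rw [show χ (Multiplicative.ofAdd ((k : ℤ) • L.χ)) = 1 by
              rw [natCast_zsmul, ofAdd_nsmul, map_pow, hs, one_pow], _root_.mul_one] at h1
            exact h1
        rw [hσφ, sub_eq_add_neg, ← neg_smul, ofAdd_add, map_mul, hcu, _root_.mul_one]
      rw [← hp, Category.assoc]
      exact h p
    · have := h (p ≫ j) (by
        show MultSubLib.chars ((p ≫ j) ≫ D.split.hom.hom.hom) _ = 1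
        rw [hjc, MonoidHom.comp_apply]
        show MultSubLib.chars p (Multiplicative.ofAdd (φ L.χ)) = 1
        rw [hφ, ofAdd_zero, map_one])
      rwa [Category.assoc] at this

variable {D} {L : Line D} (LC : LineCent D L)

/-- A root element of the line lies in the centraliser. -/
theorem LineCent.exists_u {k : D.idx} (hk : k ∈ L.roots) : ∃ w : Red.Ga S ⟶ LC.C, w ≫ LC.c = D.u k := by
  refine (LC.mem_iff _ _).2 fun X' x s hs => ?_
  obtain ⟨y, hy, he⟩ := (D.rootHom k).2.2 X' s x
  have h1 : Red.gmFn (s ≫ D.split.hom.hom.hom ≫ Red.chi S (D.P.root k)) = 1 := by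
    rw [← Category.assoc, gmFn_chi]
    have hs' : MultSubLib.chars (s ≫ D.split.hom.hom.hom) (Multiplicative.ofAdd L.χ) = 1 := hs
    rw [show D.P.root k = L.co (D.P.root k) • L.χ from hk]
    obtain ⟨n, hn | hn⟩ := Int.eq_nat_or_neg (L.co (D.P.root k))
    · rw [hn, natCast_zsmul, ofAdd_nsmul, map_pow, hs', one_pow]
    · rw [hn]
      have h2 : MultSubLib.chars (s ≫ D.split.hom.hom.hom) (Multiplicative.ofAdd ((-(n : ℤ)) • L.χ)) *
          MultSubLib.chars (s ≫ D.split.hom.hom.hom) (Multiplicative.ofAdd ((n : ℤ) • L.χ)) = 1 := by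
        rw [← map_mul, ← ofAdd_add, ← add_smul, neg_add_cancel, zero_smul, ofAdd_zero, map_one]
      rw [show MultSubLib.chars (s ≫ D.split.hom.hom.hom) (Multiplicative.ofAdd ((n : ℤ) • L.χ)) = 1 by
        rw [natCast_zsmul, ofAdd_nsmul, map_pow, hs', one_pow], _root_.mul_one] at h2
      exact h2
  rw [h1, _root_.one_mul] at he
  rw [GaPts.gaFn_injective he] at hy
  rw [eq_mul_inv_iff_mul_eq] at hy
  exact hy

/-- The representative of the reflection lies in the centraliser. -/
theorem LineCent.exists_refl {k : D.idx} (hk : k ∈ L.roots) (n : 𝟙_ (Over S) ⟶ G)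
    (hn : ∀ (X : Over S) (t : X ⟶ D.T), (toUnit X ≫ n) * (t ≫ D.i) * (toUnit X ≫ n)⁻¹ =
      t ≫ D.split.hom.hom.hom ≫ Red.DSmap S (D.P.reflection k).toLinearMap.toAddMonoidHom ≫ D.split.inv.hom.hom ≫ D.i) :
    ∃ z : 𝟙_ (Over S) ⟶ LC.C, z ≫ LC.c = n := by
  refine (LC.mem_iff _ _).2 fun X' x s hs => ?_
  have e := hn X' s
  rw [← Subsingleton.elim x (toUnit X')] at e
  have hfix : (s ≫ D.split.hom.hom.hom) ≫ Red.DSmap S (D.P.reflection k).toLinearMap.toAddMonoidHom =
      s ≫ D.split.hom.hom.hom := by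
    refine MultSubLib.chars_injective (MonoidHom.ext fun m => ?_)
    obtain ⟨m, rfl⟩ := Multiplicative.ofAdd.surjective m
    rw [Groth.Agent.DSImg.chars_comp_DSmap]
    show MultSubLib.chars (s ≫ D.split.hom.hom.hom) (Multiplicative.ofAdd (D.P.reflection k m)) = _
    have hz : ∀ n : ℤ, MultSubLib.chars (s ≫ D.split.hom.hom.hom) (Multiplicative.ofAdd (n • L.χ)) = 1 := fun n => by
      have hs' : MultSubLib.chars (s ≫ D.split.hom.hom.hom) (Multiplicative.ofAdd L.χ) = 1 := hs
      obtain ⟨j, rfl | rfl⟩ := Int.eq_nat_or_neg n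
      · rw [natCast_zsmul, ofAdd_nsmul, map_pow, hs', one_pow]
      · have h2 : MultSubLib.chars (s ≫ D.split.hom.hom.hom) (Multiplicative.ofAdd ((-(j : ℤ)) • L.χ)) *
            MultSubLib.chars (s ≫ D.split.hom.hom.hom) (Multiplicative.ofAdd ((j : ℤ) • L.χ)) = 1 := by
          rw [← map_mul, ← ofAdd_add, ← add_smul, neg_add_cancel, zero_smul, ofAdd_zero, map_one]
        rw [show MultSubLib.chars (s ≫ D.split.hom.hom.hom) (Multiplicative.ofAdd ((j : ℤ) • L.χ)) = 1 by
          rw [natCast_zsmul, ofAdd_nsmul, map_pow, hs', one_pow], _root_.mul_one] at h2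
        exact h2
    rw [D.P.reflection_apply, sub_eq_add_neg, ofAdd_add, map_mul]
    rw [show D.P.root k = L.co (D.P.root k) • L.χ from hk, smul_smul, ← neg_smul, hz, _root_.mul_one]
  rw [← Category.assoc s, ← Category.assoc (s ≫ _), hfix, Category.assoc, split_hom_inv D] at e
  exact mul_inv_eq_iff_eq_mul.1 e

/-- **The roots of the centraliser are those of the line at every geometric point.** -/
theorem LineCent.rootsAt_eq (K : Type u) [Field K] [IsAlgClosed K] (ξ : Spec (CommRingCat.of K) ⟶ S) :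
    rootsAt D LC.c ξ = L.roots := by
  ext k
  refine ⟨fun hk => ?_, fun hk r => ?_⟩
  · by_contra hne
    obtain ⟨f, hf, hfk⟩ : ∃ f : D.M →ₗ[ℤ] ℤ, f L.χ = 0 ∧ f (D.P.root k) ≠ 0 := by
      by_contra hcon
      push Not at hcon
      refine hne ((Module.finBasis ℤ D.M).ext_elem fun i => ?_)
      let f₀ := (Module.finBasis ℤ D.M).coord i
      have h0 := hcon (f₀ - f₀ L.χ • L.co) (by simp [L.co_χ])
      rw [LinearMap.sub_apply, LinearMap.smul_apply, sub_eq_zero] at h0
      show f₀ (D.P.root k) = f₀ (L.co (D.P.root k) • L.χ)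
      rw [h0, map_zsmul, smul_eq_mul, smul_eq_mul, _root_.mul_comm]
    obtain ⟨z, hz⟩ := exists_units_zpow_ne_one K hfk
    let s := tc D ξ f z
    have hkill : KillsChar D L.χ s := by
      show MultSubLib.chars (s ≫ D.split.hom.hom.hom) _ = 1
      rw [← gmFn_chi, Category.assoc]
      show Red.gmFn (cochT D f _ ≫ _) = 1
      rw [gmFn_cochT, hf, zpow_zero, Units.val_one]
    obtain ⟨w, hw⟩ := hk 1
    have h1 := (LC.mem_iff _ _).1 ⟨w, hw⟩ _ (𝟙 _) s hkill
    rw [Category.id_comp] at h1
    obtain ⟨y, hy, he⟩ := (D.rootHom k).2.2 _ s (ptOf (cst ξ K 1))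
    have h2 : y ≫ D.u k = ptOf (cst ξ K 1) ≫ D.u k := by
      rw [hy]
      exact mul_inv_eq_iff_eq_mul.2 h1.symm
    haveI := mono_u D k
    rw [(cancel_mono (D.u k)).1 h2, gaFn_ptOf, map_one, _root_.mul_one] at he
    have h3 : Red.gmFn (s ≫ D.split.hom.hom.hom ≫ Red.chi S (D.P.root k)) = cst ξ K ((z ^ f (D.P.root k) : Kˣ) : K) := by
      show Red.gmFn (cochT D f _ ≫ _) = _
      rw [gmFn_cochT, GmPts.unitOfPt_ptOfUnit, ← map_zpow]
      rfl
    rw [h3, ← map_one (cst ξ K)] at he
    exact hz (Units.ext ((cst_bijective ξ).1 he).symm)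
  · obtain ⟨w, hw⟩ := LC.exists_u hk
    exact ⟨ptOf (cst ξ K r) ≫ w, by rw [Category.assoc, hw]; rfl⟩

end RootSubgrp

end
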