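import Groth.Agent.RootSubgrpLib.Apps

/-!
# Root groups outside the roots of a subgroup meet it trivially
-/

set_option autoImplicit false
set_option linter.style.haveILetI false
set_option linter.unusedSectionVars false
set_option backward.isDefEq.respectTransparency false
set_option maxHeartbeats 1000000

universe u

open CategoryTheory CategoryTheory.Limits MonoidalCategory CartesianMonoidalCategory AlgebraicGeometry
open Groth.Agent.GaPts
open scoped MonObj

noncomputable section

attribute [-instance] CategoryTheory.Hom.commGroup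

namespace RootSubgrp

open SplitCell SplitFib

variable {S : Scheme.{u}} [ConnectedSpace S] {G : Over S} [GrpObj G] (D : Red.SplitRed G) {H : Over S} [GrpObj H]
  (h : H ⟶ G) [IsMonHom h] [Mono h] [Smooth H.hom] (t : D.T ⟶ H) (ht : t ≫ h = D.i)
  (hconn : ∀ s : S, ConnectedSpace ↥(Red.geomFibre s H).left) {R₀ : Set D.idx}
  (hR₀ : ∀ (K : Type u) [Field K] [IsAlgClosed K] (ξ : Spec (CommRingCat.of K) ⟶ S), rootsAt D h ξ = R₀)
  (hfac : ∀ k ∈ R₀, ∃ w : Red.Ga S ⟶ H, w ≫ h = D.u k)
include ht hconn hR₀ hfac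

/-- **A root group outside the roots meets the subgroup trivially.** -/
theorem eq_one_of_notMem {k : D.idx} (hk : k ∉ R₀) {X : Over S} (x : X ⟶ Red.Ga S) (y : X ⟶ H)
    (he : x ≫ D.u k = y ≫ h) : x = 1 := by
  classical
  haveI := SplitFib.isReduced_root D
  haveI := isMonHom_i D
  haveI : ∀ j, IsMonHom (D.u j) := isMonHom_u D
  obtain ⟨b, hb⟩ := exists_sides_mem D k
  obtain ⟨n, m, eneg, epos, hneg, hpos, gn, gp⟩ := exists_good_sides D b (R := Set.univ)
  rw [Set.univ_inter] at hneg hpos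
  obtain ⟨n', eN, hN⟩ := SplitFib.exists_enumerates (R₀ ∩ b.neg)
  obtain ⟨m', eP, hP⟩ := SplitFib.exists_enumerates (R₀ ∩ b.pos)
  have memN : ∀ i, eN i ∈ R₀ ∩ b.neg := fun i => hN.2.subset (Set.mem_range_self i)
  have memP : ∀ i, eP i ∈ R₀ ∩ b.pos := fun i => hP.2.subset (Set.mem_range_self i)
  obtain ⟨f, g, hg, hf⟩ := exists_cell D b h t ht hconn hR₀ hfac hneg hpos gn gp hN hP
  obtain ⟨i, rfl⟩ := hpos.2.symm.subset hb
  let one : ∀ l, X ⟶ RedSub.pow (Red.Ga S) l := fun l => tup fun _ => 1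
  have hone : ∀ {l : ℕ} (e : Fin l → D.idx), one l ≫ rprod D e = 1 := fun e => by
    rw [prodMap_eq]
    refine List.prod_eq_one fun z hz => ?_
    obtain ⟨j, rfl⟩ := List.mem_ofFn.1 hz
    rw [← Category.assoc, tup_prj, MonObj.one_comp]
  have hsingle : ∀ {l : ℕ} (e : Fin l → D.idx) (j : Fin l) (z : X ⟶ Red.Ga S),
      (tup fun q => if q = j then z else 1) ≫ rprod D e = z ≫ D.u (e j) := fun {l} e j z => by
    rw [prodMap_eq, prod_ofFn_single _ j]
    · rw [← Category.assoc, tup_prj, if_pos rfl]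
    · intro q hq
      rw [← Category.assoc, tup_prj, if_neg hq, MonObj.one_comp]
  let w : X ⟶ src D n m := lift (one n) (lift 1 (tup fun q => if q = i then x else 1))
  have hw : y ≫ h = w ≫ RedSub.cellMap D eneg epos := by
    rw [← he, RedSub.cellMap, MonObj.comp_mul, MonObj.comp_mul, lift_fst_assoc, lift_snd_assoc, lift_fst_assoc,
      lift_snd_assoc, lift_snd_assoc, MonObj.one_comp, _root_.one_mul]
    rw [show one n ≫ RedSub.prodMap (Red.Ga S) n (fun j => D.u (eneg j)) = 1 from hone eneg, _root_.one_mul]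
    exact (hsingle epos i x).symm
  let y' := pullback.lift y w hw
  let z := y' ≫ g.inv
  have hz : z ≫ RedSub.cellMap D eN eP = x ≫ D.u (epos i) := by
    rw [← hf, ← hg]
    simp only [z, y', Category.assoc, Iso.inv_hom_id_assoc, pullback.lift_fst_assoc, ← he]
  let eP' : Fin (m' + 1) → D.idx := Fin.append eP fun _ => epos i
  haveI := mono_cellMap' D b hN.1 (fun j => (memN j).2) (epos := eP')
    (enumerates_append (s' := {epos i}) hP ⟨Function.injective_of_subsingleton _, Set.range_const⟩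
      (Set.disjoint_singleton_right.2 fun hi => hk hi.1)).1
    (fun j => by
      induction j using Fin.addCases with
      | left j => rw [show eP' (Fin.castAdd 1 j) = eP j from Fin.append_left _ _ j]; exact (memP j).2
      | right j =>
        rw [show eP' (Fin.natAdd m' j) = epos i from Fin.append_right _ _ j]
        exact hb)
  let w₁ : X ⟶ src D n' (m' + 1) := lift (z ≫ fst _ _) (lift (z ≫ snd _ _ ≫ fst _ _)
    (lift (z ≫ snd _ _ ≫ snd _ _) (one 1) ≫ (powSplit m' 1).inv))
  let w₂ : X ⟶ src D n' (m' + 1) := lift (one n') (lift 1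
    (lift (one m') (tup fun _ => x) ≫ (powSplit m' 1).inv))
  have hsplit : ∀ (p : X ⟶ RedSub.pow (Red.Ga S) m') (q : X ⟶ RedSub.pow (Red.Ga S) 1),
      (lift p q ≫ (powSplit m' 1).inv) ≫ RedSub.prodMap (Red.Ga S) (m' + 1) (fun j => D.u (eP' j)) =
        (p ≫ rprod D eP) * (q ≫ rprod D fun _ : Fin 1 => epos i) := fun p q => by
    rw [Category.assoc, show (powSplit m' 1).inv ≫ RedSub.prodMap (Red.Ga S) (m' + 1) (fun j => D.u (eP' j)) = _ from
      powSplit_rprod eP fun _ : Fin 1 => epos i, MonObj.comp_mul, lift_fst_assoc, lift_snd_assoc]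
  have h1 : w₁ ≫ RedSub.cellMap D eN eP' = x ≫ D.u (epos i) := by
    rw [← hz]
    simp only [w₁, RedSub.cellMap, MonObj.comp_mul, lift_fst_assoc, lift_snd_assoc, hsplit, Category.assoc]
    rw [hone (l := 1), _root_.mul_one]
  have h2 : w₂ ≫ RedSub.cellMap D eN eP' = x ≫ D.u (epos i) := by
    simp only [w₂, RedSub.cellMap, MonObj.comp_mul, lift_fst_assoc, lift_snd_assoc, hsplit, MonObj.one_comp,
      _root_.one_mul]
    rw [hone eP, _root_.one_mul, show one n' ≫ RedSub.prodMap (Red.Ga S) n' (fun j => D.u (eN j)) = 1 from hone eN,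
      _root_.one_mul, show (tup fun _ : Fin 1 => x) = tup fun q => if q = 0 then x else 1 from by
        congr 1; funext q; rw [if_pos (Subsingleton.elim q 0)], hsingle]
  have h12 := (cancel_mono (RedSub.cellMap D eN eP')).1 (h1.trans h2.symm)
  have h3 := congrArg (fun p => p ≫ snd _ _ ≫ snd _ _ ≫ (powSplit m' 1).hom ≫ snd _ _ ≫ prj S (0 : Fin 1)) h12
  simp only [w₁, w₂, lift_snd_assoc, Category.assoc, Iso.inv_hom_id_assoc] at h3
  simp only [one, tup_prj] at h3
  exact h3.symm

omit hconn hR₀ hfac in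
/-- The root groups of roots meet the subgroup non-trivially. -/
theorem not_trivial_of_factor {k : D.idx} (w : Red.Ga S ⟶ H) (hw : w ≫ h = D.u k) :
    ¬ ∀ (X : Over S) (x : X ⟶ Red.Ga S) (y : X ⟶ H), x ≫ D.u k = y ≫ h → x = 1 := by
  intro hall
  obtain ⟨s⟩ := (inferInstance : Nonempty S)
  let K := AlgebraicClosure (S.residueField s)
  have h1 := hall (aP (Red.geomPt s) K) (ptOf (cst (Red.geomPt s) K 1)) (ptOf (cst (Red.geomPt s) K 1) ≫ w)
    (by rw [Category.assoc, hw])
  rw [← ptOf_zero', ← map_zero (cst (Red.geomPt s) K)] at h1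
  have h2 := congrArg Red.gaFn h1
  rw [gaFn_ptOf, gaFn_ptOf] at h2
  exact one_ne_zero ((cst_bijective (Red.geomPt s)).1 h2)

end RootSubgrp

end
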