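import Groth.Agent.RootSubgrpLib.UnipCase
import Groth.Agent.SubDescLib.Main
import Groth.Agent.SplitCellLib.UnipFibre

/-!
# The unipotent radical of a subgroup with positive roots
-/

set_option autoImplicit false
set_option linter.style.haveILetI false
set_option linter.unusedSectionVars false
set_option backward.isDefEq.respectTransparency false
set_option maxHeartbeats 1000000
set_option synthInstance.maxHeartbeats 400000

universe u

open CategoryTheory CategoryTheory.Limits MonoidalCategory CartesianMonoidalCategory AlgebraicGeometry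
open Groth.Agent.GaPts
open scoped MonObj

noncomputable section

attribute [-instance] CategoryTheory.Hom.commGroup

namespace RootSubgrp

open SplitCell SplitFib

variable {S : Scheme.{u}} [ConnectedSpace S] {G H : Over S} [GrpObj G] [GrpObj H] (D : Red.SplitRed G) (h : H ⟶ G)
  (hH : RedSub.IsSubgrp h) [Smooth H.hom] (t : D.T ⟶ H) (ht : t ≫ h = D.i)
  (hconn : ∀ s : S, ConnectedSpace ↥(Red.geomFibre s H).left) {R₀ : Set D.idx}
  (hR₀ : ∀ (K : Type u) [Field K] [IsAlgClosed K] (ξ : Spec (CommRingCat.of K) ⟶ S), rootsAt D h ξ = R₀)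
  (hfac : ∀ k ∈ R₀, ∃ w : Red.Ga S ⟶ H, w ≫ h = D.u k) (b : Sides D.P) (hb : R₀ ⊆ b.pos)
include hH ht hconn hR₀ hfac hb

/-- **The unipotent radical is the product of the root groups.** -/
theorem exists_unipRadical : ∃ (U : Over S) (_ : GrpObj U) (u : U ⟶ H), IsMonHom u ∧ IsClosedImmersion (u ≫ h).left ∧
      Smooth U.hom ∧ Par.IsUnipotentRadical u ∧ IsIso ((t ⊗ₘ u) ≫ μ[H]) ∧
      ∀ {m : ℕ} (e : Fin m → D.idx), RedSub.Enumerates R₀ e →
        ∃ ψ : RedSub.pow (Red.Ga S) m ≅ U, ψ.hom ≫ u ≫ h = RedSub.prodMap (Red.Ga S) m (fun k => D.u (e k)) := by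
  classical
  haveI := hH.1
  haveI : IsImmersion h.left := hH.2
  haveI : Mono h := (Over.forget S).mono_of_mono_map (inferInstanceAs (Mono h.left))
  haveI := isMonHom_i D
  haveI := mono_i D
  haveI : ∀ k, IsMonHom (D.u k) := isMonHom_u D
  haveI := SplitFib.isReduced_root D
  obtain ⟨M, epos, hpos⟩ := SplitFib.exists_enumerates b.pos
  have hs := isSatur_pos D b hpos
  have hp : ∀ k, epos k ∈ b.pos := fun k => hpos.2.subset (Set.mem_range_self k)
  obtain ⟨grp, hhom⟩ := exists_grpObj b hs hpos.1 hp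
  haveI := hhom
  let U₁ := RedSub.pow (Red.Ga S) M
  let p := rprod D epos
  haveI : IsClosedImmersion p.left := isClosedImmersion_rprod b hpos.1 hp
  haveI : Mono p := mono_rprod D b hpos.1 hp
  haveI : IsMonHom p := hhom
  have hu₁ : ∀ k ∈ b.pos, ∃ w : Red.Ga S ⟶ U₁, w ≫ p = D.u k := fun k hk => by
    obtain ⟨i, rfl⟩ := hpos.2.symm.subset hk
    exact exists_u_rprod D i
  -- the subgroup
  let U : Over S := pullback h p
  let u : U ⟶ H := pullback.fst h p
  let u' : U ⟶ U₁ := pullback.snd h p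
  have hu' : u ≫ h = u' ≫ p := pullback.condition
  haveI : Mono u := inferInstanceAs (Mono (pullback.fst h p))
  obtain ⟨hU, hu⟩ := Groth.Agent.SubDesc.exists_grpObj_of_mono u
    ⟨pullback.lift ((fst U U ≫ u) * (snd U U ≫ u)) ((fst U U ≫ u') * (snd U U ≫ u'))
      (by rw [MonObj.mul_comp, MonObj.mul_comp]; simp only [u, u', Category.assoc, pullback.condition]),
      pullback.lift_fst _ _ _⟩
    ⟨pullback.lift 1 1 (by rw [MonObj.one_comp, MonObj.one_comp]), pullback.lift_fst _ _ _⟩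
    ⟨pullback.lift u⁻¹ u'⁻¹ (by
      rw [GrpObj.inv_comp, GrpObj.inv_comp]; simp only [u, u', pullback.condition]), pullback.lift_fst _ _ _⟩
  haveI := hu
  haveI : IsMonHom u' :=
    { one_hom := (cancel_mono p).1 (by
        rw [Category.assoc, ← hu', ← Category.assoc, IsMonHom.one_hom, IsMonHom.one_hom, IsMonHom.one_hom])
      mul_hom := (cancel_mono p).1 (by
        rw [Category.assoc, ← hu', ← Category.assoc, IsMonHom.mul_hom, Category.assoc, IsMonHom.mul_hom, Category.assoc,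
          IsMonHom.mul_hom (f := p)]
        simp only [← Category.assoc, tensorHom_comp_tensorHom, hu']) }
  -- every enumeration parametrises it
  have hiso : ∀ {m : ℕ} (e : Fin m → D.idx), RedSub.Enumerates R₀ e →
      ∃ (φ : D.T ⊗ RedSub.pow (Red.Ga S) m ≅ H) (ψ : RedSub.pow (Red.Ga S) m ≅ U),
        φ.hom ≫ h = RedSub.borelMap D e ∧ ψ.hom ≫ u = lift 1 (𝟙 _) ≫ φ.hom ∧
          ψ.hom ≫ u ≫ h = rprod D e := by
    intro m e he
    obtain ⟨φ, hφ⟩ := exists_iso_of_pos D h t ht hconn hR₀ b hb hfac he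
    obtain ⟨f₁, hf₁⟩ := exists_prodMap_lift p (fun k => D.u (e k)) fun k =>
      hu₁ _ (hb (he.2.subset (Set.mem_range_self k)))
    have hline : (lift 1 (𝟙 _) ≫ φ.hom) ≫ h = rprod D e := by
      rw [Category.assoc, hφ, RedSub.borelMap, MonObj.comp_mul, lift_fst_assoc, lift_snd_assoc, MonObj.one_comp,
        _root_.one_mul, Category.id_comp]
    let a : RedSub.pow (Red.Ga S) m ⟶ U := pullback.lift (lift 1 (𝟙 _) ≫ φ.hom) f₁ (hline.trans hf₁.symm)
    let c : U ⟶ RedSub.pow (Red.Ga S) m := u ≫ φ.inv ≫ snd _ _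
    have ha : a ≫ u = lift 1 (𝟙 _) ≫ φ.hom := pullback.lift_fst _ _ _
    refine ⟨φ, ⟨a, c, ?_, ?_⟩, hφ, ha, ?_⟩
    · rw [show a ≫ c = (a ≫ u) ≫ φ.inv ≫ snd _ _ from (Category.assoc _ _ _).symm, ha, Category.assoc,
        Iso.hom_inv_id_assoc, lift_snd]
    · show c ≫ a = 𝟙 U
      set z := u ≫ φ.inv with hz
      have h1 : z ≫ φ.hom = u := by rw [hz, Category.assoc, Iso.inv_hom_id, Category.comp_id]
      have h2 : (z ≫ fst _ _ ≫ D.i) * ((c ≫ f₁) ≫ p) = u' ≫ p := by
        rw [Category.assoc c f₁, hf₁, ← hu']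
        conv_rhs => rw [← h1, Category.assoc, hφ, RedSub.borelMap, MonObj.comp_mul]
        rw [show c = z ≫ snd _ _ from (Category.assoc _ _ _).symm]
        simp only [Category.assoc]
      have hτ : z ≫ fst _ _ = 1 := by
        haveI := isClosedImmersion_borelMap D b hpos
        haveI : Mono (RedSub.borelMap D epos) :=
          (Over.forget S).mono_of_mono_map (inferInstanceAs (Mono (RedSub.borelMap D epos).left))
        have h3 : lift (z ≫ fst _ _) 1 ≫ RedSub.borelMap D epos =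
            lift 1 (u' * (c ≫ f₁)⁻¹) ≫ RedSub.borelMap D epos := by
          rw [comp_borelMap, comp_borelMap, MonObj.one_comp, MonObj.one_comp, _root_.one_mul, _root_.mul_one,
            MonObj.mul_comp, GrpObj.inv_comp, eq_mul_inv_iff_mul_eq]
          simpa only [Category.assoc] using h2
        have h5 := congrArg (fun q => q ≫ fst _ _) ((cancel_mono (RedSub.borelMap D epos)).1 h3)
        simp only [lift_fst] at h5
        exact h5.trans (lift_fst _ _)
      rw [← cancel_mono u, Category.assoc, ha, Category.id_comp]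
      have h4 : c ≫ lift 1 (𝟙 _) = z := by
        refine CartesianMonoidalCategory.hom_ext _ _ ?_ ?_
        · rw [Category.assoc, lift_fst, MonObj.comp_one, hτ]
        · rw [Category.assoc, lift_snd, Category.comp_id]
          exact (Category.assoc _ _ _).symm
      rw [← Category.assoc, h4, h1]
    · rw [← Category.assoc, ← hline]
      exact congrArg (· ≫ h) ha
  obtain ⟨m, e, he⟩ := SplitFib.exists_enumerates R₀
  obtain ⟨φ, ψ, hφ, hψu, hψh⟩ := hiso e he
  haveI : Smooth (RedSub.pow (Red.Ga S) m).hom := by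
    haveI := smoothRel_pow (S := S) m
    exact SmoothOfRelativeDimension.smooth m _
  haveI hUsm : Smooth U.hom := by
    haveI : IsIso ψ.inv.left := inferInstanceAs (IsIso ((Over.forget S).map ψ.inv))
    rw [← Over.w ψ.inv]
    infer_instance
  haveI hucl : IsClosedImmersion u.left :=
    MorphismProperty.of_isPullback (P := @IsClosedImmersion)
      ((IsPullback.of_hasPullback h p).map (Over.forget S)).flip ‹IsClosedImmersion p.left›
  have hcl : IsClosedImmersion (u ≫ h).left := by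
    haveI := isClosedImmersion_rprod b he.1 fun k => hb (he.2.subset (Set.mem_range_self k))
    haveI : IsIso ψ.inv.left := inferInstanceAs (IsIso ((Over.forget S).map ψ.inv))
    rw [← ψ.inv_hom_id_assoc (u ≫ h), hψh, Over.comp_left]
    infer_instance
  haveI : QuasiCompact U.hom := by
    haveI := isAffineHom_pow (S := S) m
    haveI : IsIso ψ.inv.left := inferInstanceAs (IsIso ((Over.forget S).map ψ.inv))
    rw [← Over.w ψ.inv]
    infer_instance
  have hfib : ∀ s : S, ConnectedSpace (Red.geomFibre s U).left ∧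
      Red.HasNoSubtorus (AlgebraicClosure (S.residueField s)) (Red.geomFibre s U) := fun s => by
    let q := Red.geomPt s
    refine ⟨?_, fun T' _ j' _ _ hT' => ?_⟩
    · haveI := connectedSpace_pow q m
      haveI : ConnectedSpace ↥((Over.forget _).obj ((Over.pullback q).obj (RedSub.pow (Red.Ga S) m))) :=
        connectedSpace_pow q m
      let e' := (Over.forget _).mapIso ((Over.pullback q).mapIso ψ)
      exact Function.Surjective.connectedSpace (f := e'.hom)
        (fun x => ⟨e'.inv x, by rw [← Scheme.Hom.comp_apply, e'.inv_hom_id]; rfl⟩) e'.hom.continuous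
    · haveI := Groth.Agent.DiagRep.isMonHom_bc_map q u'
      haveI : Mono u' := inferInstanceAs (Mono (pullback.snd h p))
      haveI := Groth.Agent.BorelLib.mono_bc q u'
      haveI : IsMonHom (j' ≫ (Over.pullback q).map u') :=
        inferInstanceAs (IsMonHom (j' ≫ ((Over.pullback q).map u' : Red.geomFibre s U ⟶ Red.bc q U₁)))
      haveI : Mono (j' ≫ (Over.pullback q).map u') := mono_comp _ _
      exact hasNoSubtorus_rprod b hs hpos.1 hp q T' (j' ≫ (Over.pullback q).map u') hT'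
  -- normality
  have hnorm : AlgGrp.IsNormalHom u := by
    intro X x y
    obtain ⟨w, rfl⟩ : ∃ w, w ≫ φ.hom = x := ⟨x ≫ φ.inv, by rw [Category.assoc, Iso.inv_hom_id, Category.comp_id]⟩
    set τ := w ≫ fst _ _
    set v := (w ≫ snd _ _) ≫ ψ.hom
    have hx : w ≫ φ.hom = (τ ≫ t) * (v ≫ u) := by
      rw [← cancel_mono h, Category.assoc, hφ, MonObj.mul_comp, Category.assoc, ht, RedSub.borelMap, MonObj.comp_mul]
      simp only [τ, v, Category.assoc, hψh]
    set n₀ := v * y * v⁻¹
    suffices key : ∃ n : X ⟶ U, (τ ≫ t) * (n₀ ≫ u) * (τ ≫ t)⁻¹ = n ≫ u by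
      obtain ⟨n, hn⟩ := key
      refine ⟨n, ?_⟩
      rw [← hn, hx, MonObj.mul_comp, MonObj.mul_comp, GrpObj.inv_comp]
      group
    set g := (τ ≫ t) * (n₀ ≫ u) * (τ ≫ t)⁻¹
    let P : (X ⟶ U₁) →* (X ⟶ G) := MonoidHom.mk' (fun z => z ≫ p) fun z z' => MonObj.mul_comp _ _ _
    suffices hg : g ≫ h ∈ P.range by
      obtain ⟨n', hn'⟩ := MonoidHom.mem_range.1 hg
      exact ⟨pullback.lift g n' hn'.symm, (pullback.lift_fst _ _ _).symm⟩
    obtain ⟨c, hc⟩ : ∃ c, c ≫ ψ.hom = n₀ := ⟨n₀ ≫ ψ.inv, by rw [Category.assoc, Iso.inv_hom_id, Category.comp_id]⟩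
    have hg : g ≫ h = MulAut.conj (τ ≫ D.i) (c ≫ rprod D e) := by
      rw [MulAut.conj_apply, ← hψh, ← Category.assoc c, hc, MonObj.mul_comp, MonObj.mul_comp, GrpObj.inv_comp,
        Category.assoc τ, ht, Category.assoc n₀]
    rw [hg, prodMap_eq, map_list_prod, List.map_ofFn]
    refine Subgroup.list_prod_mem _ fun z hz => ?_
    obtain ⟨i, rfl⟩ := List.mem_ofFn.1 hz
    obtain ⟨y', hy', -⟩ := (D.rootHom (e i)).2.2 X τ (c ≫ prj S i)
    obtain ⟨w', hw'⟩ := hu₁ _ (hb (he.2.subset (Set.mem_range_self i)))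
    refine MonoidHom.mem_range.2 ⟨y' ≫ w', ?_⟩
    show (y' ≫ w') ≫ p = _
    rw [Category.assoc, hw', hy', Function.comp_apply, MulAut.conj_apply]
    simp only [Category.assoc]
  -- maximality
  have hmax : ∀ (U' : Over S) [GrpObj U'] (v : U' ⟶ H) [IsMonHom v], IsClosedImmersion v.left →
      AlgGrp.IsNormalHom v → Smooth U'.hom → QuasiCompact U'.hom →
      (∀ s : S, ConnectedSpace (Red.geomFibre s U').left ∧
        Red.HasNoSubtorus (AlgebraicClosure (S.residueField s)) (Red.geomFibre s U')) →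
      ∃ f : U' ⟶ U, f ≫ u = v := by
    intro U' _ v _ hvc hvn hvs _ hvf
    haveI := hvc; haveI := hvs
    have hsub : RedSub.IsSubgrp (v ≫ h) := ⟨inferInstance, by rw [Over.comp_left]; infer_instance⟩
    have hvn' : ∀ (X : Over S) (x : X ⟶ D.T) (y : X ⟶ U'), ∃ y' : X ⟶ U',
        (x ≫ D.i) * (y ≫ v ≫ h) * (x ≫ D.i)⁻¹ = y' ≫ v ≫ h := fun X x y => by
      obtain ⟨y', hy'⟩ := hvn X (x ≫ t) y
      refine ⟨y', ?_⟩
      rw [← Category.assoc y', ← hy', MonObj.mul_comp, MonObj.mul_comp, GrpObj.inv_comp, Category.assoc, Category.assoc,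
        ht]
    obtain ⟨-, hprod⟩ := unip_structure D (v ≫ h) hsub hvf hvn'
    obtain ⟨l, e', he'⟩ := SplitFib.exists_enumerates {a : D.idx | ∃ x : Red.Ga S ⟶ U', x ≫ v ≫ h = D.u a}
    obtain ⟨ψ', hψ'⟩ := hprod e' he'
    have hsubset : ∀ k, e' k ∈ b.pos := fun k => by
      obtain ⟨x, hx⟩ := he'.2.subset (Set.mem_range_self k)
      obtain ⟨s⟩ := (inferInstance : Nonempty S)
      refine hb (hR₀ _ (Red.geomPt s) ▸ fun r => ?_)
      exact ⟨el _ (x ≫ v) r, by rw [el, el, Category.assoc, Category.assoc, hx]⟩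
    obtain ⟨f₁, hf₁⟩ := exists_prodMap_lift p (fun k => D.u (e' k)) fun k => hu₁ _ (hsubset k)
    refine ⟨pullback.lift v (ψ'.inv ≫ f₁) ?_, pullback.lift_fst _ _ _⟩
    rw [Category.assoc, hf₁, ← hψ', Iso.inv_hom_id_assoc]
  refine ⟨U, hU, u, hu, hcl, hUsm, ⟨hu, hucl, hnorm, hUsm, inferInstance, hfib, hmax⟩, ?_, fun e he => ?_⟩
  · have hE : (t ⊗ₘ u) ≫ μ[H] = (𝟙 D.T ⊗ₘ ψ.inv) ≫ φ.hom := by
      rw [← cancel_mono h, Category.assoc, Category.assoc, IsMonHom.mul_hom, hφ, RedSub.borelMap, MonObj.comp_mul,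
        tensorHom_comp_tensorHom_assoc, ht, tensorHom_fst_assoc, tensorHom_snd_assoc, Category.id_comp, show RedSub.prodMap (Red.Ga S) m (fun k => D.u (e k)) = ψ.hom ≫ u ≫ h from hψh.symm,
        Iso.inv_hom_id_assoc, MonObj.mul_eq_mul, MonObj.comp_mul, tensorHom_fst, tensorHom_snd]
    rw [hE]
    infer_instance
  · obtain ⟨φ', ψ', -, -, h'⟩ := hiso e he
    exact ⟨ψ', h'⟩

end RootSubgrp

end
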